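import Cfsg.Agent.Fx.Braid

/-!
Passing between presentations and Coxeter relations; the three diagrams used.
-/
set_option autoImplicit false

namespace Cfsg.Agent.Fx

open Cfsg.Agent.Spor

section
variable {G : Type*} [Group G] {CM BR : List ℕ} {g : ℕ → G}

theorem Cox.pres (h : Cox CM BR g) {n : ℕ} {RL SP : List (List ℕ)}
    (hc : RL.all (fun l => l.all (fun y => decide (y % 2 = 0 ∧ y / 2 < n)) &&
      (brun CM BR (l.map (· / 2)) 12 [] || brun CM BR (l.map (· / 2)) 56 [] ||
        SP.contains (l.map (· / 2)))) = true)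
    (hs : ∀ w ∈ SP, wd g w = 1) : Pres n n RL g := by
  refine ⟨fun j _ _ => h.sq j, fun l hl => ?_⟩
  have := List.all_eq_true.1 hc l hl
  rw [Bool.and_eq_true, Bool.or_eq_true, Bool.or_eq_true] at this
  rw [ev_atm_eq_wd g this.1]
  rcases this.2 with (h1 | h1) | h1
  · exact h.one h1
  · exact h.one h1
  · exact hs _ (List.contains_iff_mem.1 h1)

theorem Pres.wd_one {n : ℕ} {RL : List (List ℕ)} {g0 : ℕ → G} (h : Pres n n RL g0)
    (e : ∀ j < n, g j = g0 j) {w : List ℕ} (hw : ∀ j ∈ w, j < n) (hm : w.map (2 * ·) ∈ RL) :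
    wd g w = 1 := by
  have h1 := (h.congr fun j hj => (e j hj).symm).rel _ hm
  rw [ev_atm_eq_wd g (by
    rw [List.all_eq_true]
    intro y hy
    obtain ⟨j, hj, rfl⟩ := List.mem_map.1 hy
    have := hw j hj
    rw [decide_eq_true_iff]
    omega), List.map_map] at h1
  rw [← h1]
  congr 1
  conv_lhs => rw [← List.map_id w]
  exact List.map_congr_left fun j _ => by simp

theorem comm_of_wd (sq : ∀ j, g j * g j = 1) {s t : ℕ} (h : wd g [s, t, s, t] = 1) :
    g s * g t = g t * g s := by
  simp only [wd_cons, wd_nil, mul_one] at h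
  calc g s * g t = (g s * (g t * (g s * g t))) * (g t * g s) := by
        rw [show (g s * (g t * (g s * g t))) * (g t * g s) =
          g s * g t * (g s * (g t * g t) * g s) by group, sq t, mul_one, sq s, mul_one]
    _ = _ := by rw [h, one_mul]

theorem br_of_wd (sq : ∀ j, g j * g j = 1) {s t : ℕ} (h : wd g [s, t, s, t, s, t] = 1) :
    g s * g t * g s = g t * g s * g t := by
  simp only [wd_cons, wd_nil, mul_one] at h
  calc g s * g t * g s = (g s * (g t * (g s * (g t * (g s * g t))))) * (g t * g s * g t) := by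
        rw [show (g s * (g t * (g s * (g t * (g s * g t))))) * (g t * g s * g t) =
          g s * g t * g s * (g t * (g s * (g t * g t) * g s) * g t) by group, sq t, mul_one, sq s,
          mul_one, sq t, mul_one]
    _ = _ := by rw [h, one_mul]

theorem cox_of_pres {n : ℕ} {RL : List (List ℕ)} {g0 : ℕ → G} (h : Pres n n RL g0)
    (e : ∀ j < n, g j = g0 j) (sq : ∀ j, g j * g j = 1)
    (h1 : CM.length ≤ n) (h2 : ∀ r ∈ CM, r < 2 ^ n) (h3 : BR.length ≤ n)
    (h4 : ∀ r ∈ BR, r < 2 ^ n)
    (hc : (List.range n).all (fun s => (List.range n).all fun t =>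
      (!tbit CM s t || s == t || RL.contains ([s, t, s, t].map (2 * ·)) ||
        RL.contains ([t, s, t, s].map (2 * ·))) &&
      (!tbit BR s t || RL.contains ([s, t, s, t, s, t].map (2 * ·)) ||
        RL.contains ([t, s, t, s, t, s].map (2 * ·)))) = true) : Cox CM BR g := by
  simp only [List.all_eq_true, List.mem_range, Bool.and_eq_true, Bool.or_eq_true,
    Bool.not_eq_true', beq_iff_eq, List.contains_iff_mem] at hc
  refine Cox.of_lt h1 h2 h3 h4 sq (fun s hs t ht hh => ?_) (fun s hs t ht hh => ?_)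
  · rcases (hc s hs t ht).1 with ((h5 | rfl) | h5) | h5
    · rw [hh] at h5; cases h5
    · rfl
    · exact comm_of_wd sq (Pres.wd_one h e (by simp [hs, ht]) h5)
    · exact (comm_of_wd sq (Pres.wd_one h e (by simp [hs, ht]) h5)).symm
  · rcases (hc s hs t ht).2 with (h5 | h5) | h5
    · rw [hh] at h5; cases h5
    · exact br_of_wd sq (Pres.wd_one h e (by simp [hs, ht]) h5)
    · exact (br_of_wd sq (Pres.wd_one h e (by simp [hs, ht]) h5)).symm

end

def YC : List ℕ := [509, 506, 501, 363, 471, 431, 479, 247, 383]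
def YB : List ℕ := [2, 5, 10, 148, 40, 80, 32, 264, 128]
def ZC : List ℕ := [1021, 1018, 1013, 875, 983, 943, 479, 759, 895, 959]
def ZB : List ℕ := [2, 5, 10, 148, 40, 80, 544, 264, 128, 64]
def UC : List ℕ := [511, 507, 437, 491, 215, 495, 379, 191, 367]
def UB : List ℕ := [0, 4, 74, 20, 296, 16, 132, 320, 144]

end Cfsg.Agent.Fx
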