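import Cfsg.Agent.Fx.Base
import Cfsg.Agent.Fx.Cox

/-!
Lifting the local class of transpositions to an arbitrary double cover.
-/
set_option autoImplicit false

namespace Cfsg.Agent.Fx

open Cfsg.Agent.Spor Subgroup

variable {F : Type*} [Group F] {x0 : F} {L : Type*} [Group L] {π0 : CC x0 →* L}
  {H : Type*} [Group H] {d : H} {π : H →* L}

theorem conj_comm {u v : H} (h : u * v = v * u) (k : H) :
    k * u * k⁻¹ * (k * v * k⁻¹) = k * v * k⁻¹ * (k * u * k⁻¹) := by
  calc k * u * k⁻¹ * (k * v * k⁻¹) = k * (u * v) * k⁻¹ := by group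
    _ = _ := by rw [h]; group

/-- a central extension by the involution `d` -/
structure Ext (d : H) (π : H →* L) : Prop where
  cen : ∀ u, u * d = d * u
  sq : d * d = 1
  ne : d ≠ 1
  surj : Function.Surjective π
  pd : π d = 1
  ker : ∀ u, π u = 1 → u = 1 ∨ u = d

theorem Ext.cases (e : Ext d π) {u v : H} (h : π u = π v) : u = v ∨ u = d * v := by
  have : π (u * v⁻¹) = 1 := by rw [map_mul, map_inv, h, mul_inv_cancel]
  rcases e.ker _ this with h1 | h1
  · exact Or.inl (mul_inv_eq_one.1 h1)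
  · exact Or.inr (by rw [← h1]; group)

theorem Ext.cen_ker (e : Ext d π) {u : H} (h : π u = 1) (v : H) : v * u = u * v := by
  rcases e.ker _ h with rfl | rfl
  · simp
  · exact e.cen v

theorem Ext.sq_ker (e : Ext d π) {u : H} (h : π u = 1) : u * u = 1 := by
  rcases e.ker _ h with rfl | rfl
  · simp
  · exact e.sq

theorem Ext.one_of_cube (e : Ext d π) {u : H} (h : π u = 1) (h3 : u ^ 3 = 1) : u = 1 := by
  rwa [pow_succ, pow_two, e.sq_ker h, one_mul] at h3

structure Lam (π0 : CC x0 →* L) (π : H →* L) (lam : F → H) : Prop where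
  pi : ∀ {y} (hy : XX x0 y), π (lam y) = π0 ⟨y, hy.mem⟩
  eqv : ∀ {y}, XX x0 y → ∀ (u : H) (g : CC x0), π u = π0 g →
    u * lam y * u⁻¹ = lam (g * y * (g : F)⁻¹)
  sq : ∀ {y}, XX x0 y → lam y * lam y = 1

theorem Lam.flip {lam : F → H} (h : Lam π0 π lam) (e : Ext d π) :
    Lam π0 π fun y => d * lam y where
  pi hy := by rw [map_mul, e.pd, one_mul, h.pi hy]
  eqv hy u g hu := by rw [← h.eqv hy u g hu, ← mul_assoc, e.cen u]; group
  sq {y} hy := by rw [mul_assoc, ← mul_assoc (lam y), e.cen, mul_assoc, h.sq hy, mul_one, e.sq]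

section
variable {lam : F → H} (h : Lam π0 π lam)
include h

theorem Lam.st {y z : F} (hy : XX x0 y) (hz : XX x0 z) (hs : y * y = 1) :
    lam y * lam z * lam y = lam (y * z * y) := by
  have := h.eqv hz (lam y) ⟨y, hy.mem⟩ (h.pi hy)
  rwa [inv_eq_of_mul_eq_one_right (h.sq hy), Subgroup.coe_mk, inv_eq_of_mul_eq_one_right hs] at this

theorem Lam.comm {y z : F} (hy : XX x0 y) (hz : XX x0 z) (e : y * z = z * y) :
    lam y * lam z = lam z * lam y := by
  have := h.eqv hz (lam y) ⟨y, hy.mem⟩ (h.pi hy)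
  rw [Subgroup.coe_mk, e, mul_inv_cancel_right] at this
  exact mul_inv_eq_iff_eq_mul.1 this

theorem Lam.cox {CM BR : List ℕ} {t : ℕ → F} (ht : ∀ j, XX x0 (t j)) (hc : Cox CM BR t) :
    Cox CM BR fun j => lam (t j) where
  sq j := h.sq (ht j)
  cm s u e := h.comm (ht s) (ht u) (hc.cm s u e)
  br s u e := by rw [h.st (ht s) (ht u) (hc.sq s), h.st (ht u) (ht s) (hc.sq u), hc.br s u e]

theorem Lam.pi_wd {t : ℕ → F} (ht : ∀ j, XX x0 (t j)) (w : List ℕ) :
    π (wd (fun j => lam (t j)) w) = π0 ⟨wd t w, wd_mem fun j _ => (ht j).mem⟩ := by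
  induction w with
  | nil => exact (map_one π).trans (map_one π0).symm
  | cons j w ih =>
    rw [wd_cons, map_mul, ih, h.pi (ht j), ← map_mul]
    exact congrArg π0 (Subtype.ext (wd_cons t j w).symm)

theorem Lam.wd_cw {t : ℕ → F} (ht : ∀ j, XX x0 (t j)) (hs : ∀ j, t j * t j = 1) (u : List ℕ)
    (b : ℕ) : wd (fun j => lam (t j)) (cw u [b]) = lam (wd t (cw u [b])) := by
  rw [Fx.wd_cw fun j => h.sq (ht j), Fx.wd_cw hs, wd_cons, wd_cons, wd_nil, wd_nil, mul_one, mul_one]
  exact h.eqv (ht b) _ _ (h.pi_wd ht u)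

end

theorem XX.wd_cw {t : ℕ → F} (ht : ∀ j, XX x0 (t j)) (hs : ∀ j, t j * t j = 1) (u : List ℕ)
    (b : ℕ) : XX x0 (wd t (cw u [b])) := by
  rw [Fx.wd_cw hs, wd_cons, wd_nil, mul_one]
  exact (ht b).conj (wd_mem fun j _ => (ht j).mem)

section
variable [Finite F] (h : Base x0 L π0) (e : Ext d π)
include h e

theorem lifts_comm {l : List F} {a : F} (hl : ∀ y ∈ a :: l, XX x0 y) (hn : a ∉ l)
    (hc : ∀ y ∈ l, a * y = y * a) (ho : Odd l.length) (hp : (a :: l).prod = 1 ∨ (a :: l).prod = x0)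
    {y z : F} (hy : XX x0 y) (hz : XX x0 z) (c : y * z = z * y) {u v : H}
    (hu : π u = π0 ⟨y, hy.mem⟩) (hv : π v = π0 ⟨z, hz.mem⟩) : u * v = v * u := by
  by_contra hne
  have hyz : z ≠ y := by
    rintro rfl
    rcases e.cases (hu.trans hv.symm) with rfl | rfl
    · exact hne rfl
    · exact hne (by rw [← mul_assoc, e.cen v])
  have key : ∀ {y' z' : F} (hy' : XX x0 y') (hz' : XX x0 z'), z' ≠ y' → y' * z' = z' * y' →
      ∀ u' v' : H, π u' = π0 ⟨y', hy'.mem⟩ → π v' = π0 ⟨z', hz'.mem⟩ → u' * v' = d * (v' * u') := by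
    intro y' z' hy' hz' n c' u' v' hu' hv'
    obtain ⟨g1, hg1, e1⟩ := h.t1 hy hy'
    obtain ⟨g2, hg2, e2, e3⟩ := h.t2 hy' (hz.conj hg1) hz' (by
        rw [← e1]; intro e4; exact hyz (by simpa using e4)) n
      (by rw [← e1]; exact conj_comm c g1) c'
    obtain ⟨k, hk⟩ := e.surj (π0 (⟨g2, hg2⟩ * ⟨g1, hg1⟩))
    have a1 : π u' = π (k * u * k⁻¹) := by
      rw [map_mul, map_mul, map_inv, hk, hu, hu', ← map_inv, ← map_mul, ← map_mul]
      refine congrArg π0 (Subtype.ext ?_)
      show y' = g2 * g1 * y * (g2 * g1)⁻¹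
      rw [← e2, ← e1]; group
    have a2 : π v' = π (k * v * k⁻¹) := by
      rw [map_mul, map_mul, map_inv, hk, hv, hv', ← map_inv, ← map_mul, ← map_mul]
      refine congrArg π0 (Subtype.ext ?_)
      show z' = g2 * g1 * z * (g2 * g1)⁻¹
      rw [← e3]; group
    have a3 : π (u' * v') = π (v' * u') := by
      rw [map_mul, map_mul, hu', hv', ← map_mul, ← map_mul]
      exact congrArg π0 (Subtype.ext c')
    refine (e.cases a3).resolve_left fun a4 => hne ?_
    have a5 : k * u * k⁻¹ * (k * v * k⁻¹) = k * v * k⁻¹ * (k * u * k⁻¹) := by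
      have cd : ∀ p q : H, p * (d * q) = d * (p * q) := fun p q => by
        rw [← mul_assoc, e.cen p, mul_assoc]
      rcases e.cases a1 with b1 | b1 <;> rcases e.cases a2 with b2 | b2 <;> rw [b1, b2] at a4
      · exact a4
      · rw [cd, mul_assoc d] at a4; exact mul_left_cancel a4
      · rw [cd, mul_assoc d] at a4; exact mul_left_cancel a4
      · rw [mul_assoc d, mul_assoc d, cd, cd (k * v * k⁻¹)] at a4
        exact mul_left_cancel (mul_left_cancel a4)
    simpa [mul_assoc] using conj_comm a5 k⁻¹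
  choose s hs using fun g : CC x0 => e.surj (π0 g)
  classical
  let s' : F → H := fun y => if hy : y ∈ CC x0 then s ⟨y, hy⟩ else 1
  have hs' : ∀ {y} (hy : y ∈ CC x0), π (s' y) = π0 ⟨y, hy⟩ := fun hy => by
    simp only [s', dif_pos hy, hs]
  have ha := hl a List.mem_cons_self
  have ind : ∀ m : List F, (∀ y ∈ m, XX x0 y ∧ y ≠ a ∧ a * y = y * a) →
      s' a * (m.map s').prod = d ^ m.length * ((m.map s').prod * s' a) := by
    intro m hm
    induction m with
    | nil => simp
    | cons b m ih =>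
      obtain ⟨b1, b2, b3⟩ := hm b List.mem_cons_self
      rw [List.map_cons, List.prod_cons, ← mul_assoc, key ha b1 b2 b3 _ _ (hs' _) (hs' _),
        mul_assoc, mul_assoc, ih fun y hy => hm y (List.mem_cons_of_mem _ hy), List.length_cons,
        pow_succ', ← mul_assoc (s' b), (Commute.pow_right (e.cen (s' b)) _).eq]
      simp only [mul_assoc]
  have i1 := ind l fun y hy => ⟨hl y (List.mem_cons_of_mem _ hy), fun e => hn (e ▸ hy), hc y hy⟩
  have i2 : ∀ m : List F, ∀ hm : ∀ y ∈ m, y ∈ CC x0,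
      π (m.map s').prod = π0 ⟨m.prod, _root_.list_prod_mem hm⟩ := by
    intro m hm
    induction m with
    | nil => exact (map_one π).trans (map_one π0).symm
    | cons b m ih =>
      rw [List.map_cons, List.prod_cons, map_mul, ih fun y hy => hm y (List.mem_cons_of_mem _ hy),
        hs' (hm b List.mem_cons_self), ← map_mul]
      exact congrArg π0 (Subtype.ext List.prod_cons.symm)
  have i3 : π (s' a * (l.map s').prod) = 1 := by
    have := i2 (a :: l) fun y hy => (hl y hy).mem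
    rw [List.map_cons, List.prod_cons] at this
    rw [this]
    rcases hp with hp | hp
    · rw [← map_one π0]; exact congrArg π0 (Subtype.ext hp)
    · rw [← h.pi_x0]; exact congrArg π0 (Subtype.ext hp)
  have i4 := e.cen_ker i3 (s' a)
  rw [mul_assoc, mul_right_inj] at i4
  obtain ⟨n, hn⟩ := ho
  rw [hn, pow_succ, pow_mul, pow_two, e.sq, one_pow, one_mul, i4] at i1
  exact e.ne (by simpa using i1)

theorem exists_lam {x1 : F} (h1 : XX x0 x1)
    (hgen : ∀ g ∈ CC x0, g * x1 = x1 * g →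
      g ∈ closure {y | IsConj x0 y ∧ y * x0 = x0 * y ∧ y * x1 = x1 * y})
    {l : List F} {a : F} (hl : ∀ y ∈ a :: l, XX x0 y) (hn : a ∉ l)
    (hc : ∀ y ∈ l, a * y = y * a) (ho : Odd l.length) (hp : (a :: l).prod = 1 ∨ (a :: l).prod = x0)
    {m : List F} (hm : ∀ y ∈ m, XX x0 y) (hmc : m.Pairwise Commute) (hmo : Odd m.length)
    (hmp : m.prod = 1 ∨ m.prod = x0) : ∃ lam : F → H, Lam π0 π lam := by
  have β := @lifts_comm F _ x0 L _ π0 H _ d π _ h e l a hl hn hc ho hp
  obtain ⟨c, hc1⟩ := e.surj (π0 ⟨x1, h1.mem⟩)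
  have cent : ∀ g (hg : g ∈ CC x0), g * x1 = x1 * g → ∀ u, π u = π0 ⟨g, hg⟩ → u * c = c * u := by
    intro g hg hgx
    have h2 := hgen g hg hgx
    clear hgx
    induction h2 using closure_induction with
    | mem y hy =>
      intro u hu
      by_cases e1 : y = x0
      · subst e1
        exact (e.cen_ker (hu.trans h.pi_x0) c).symm
      · exact β ⟨hy.1, hy.2.1, e1⟩ h1 hy.2.2 hu hc1
    | one => intro u hu; exact (e.cen_ker (hu.trans (map_one π0)) c).symm
    | mul x y hx hy ihx ihy =>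
      intro u hu
      have le : closure {y | IsConj x0 y ∧ y * x0 = x0 * y ∧ y * x1 = x1 * y} ≤ CC x0 :=
        (closure_le _).2 fun y hy => mem_CC.2 hy.2.1
      obtain ⟨v, hv⟩ := e.surj (π0 ⟨x, le hx⟩)
      have a1 := ihx (le hx) v hv
      have a2 := ihy (le hy) (v⁻¹ * u) (by
        rw [map_mul, map_inv, hv, hu, ← map_inv, ← map_mul]
        exact congrArg π0 (Subtype.ext (by simp)))
      calc u * c = v * (v⁻¹ * u * c) := by group
        _ = (v * c) * (v⁻¹ * u) := by rw [a2]; group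
        _ = c * u := by rw [a1]; group
    | inv x hx ih =>
      intro u hu
      have a1 := ih (by simpa using (CC x0).inv_mem hg) u⁻¹ (by
        rw [map_inv, hu, ← map_inv]; exact congrArg π0 (Subtype.ext (by simp)))
      calc u * c = u * (c * u⁻¹) * u := by group
        _ = c * u := by rw [← a1]; group
  have ex : ∀ y, ∃ p : H × CC x0, XX x0 y → π p.1 = π0 p.2 ∧ p.2 * x1 * (p.2 : F)⁻¹ = y := by
    intro y
    by_cases hy : XX x0 y
    · obtain ⟨g, hg, e1⟩ := h.t1 h1 hy
      obtain ⟨u, hu⟩ := e.surj (π0 ⟨g, hg⟩)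
      exact ⟨(u, ⟨g, hg⟩), fun _ => ⟨hu, e1⟩⟩
    · exact ⟨(1, 1), fun h => absurd h hy⟩
  choose p hp' using ex
  let lam : F → H := fun y => (p y).1 * c * (p y).1⁻¹
  have uniq : ∀ (u : H) (g : CC x0), π u = π0 g → lam (g * x1 * (g : F)⁻¹) = u * c * u⁻¹ := by
    intro u g hu
    obtain ⟨a1, a2⟩ := hp' _ (h1.conj g.2)
    simp only [lam]
    generalize p (g * x1 * (g : F)⁻¹) = q at a1 a2
    have := cent _ (g⁻¹ * q.2).2 (by
      show (g : F)⁻¹ * q.2 * x1 = x1 * ((g : F)⁻¹ * q.2)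
      calc (g : F)⁻¹ * q.2 * x1 = (g : F)⁻¹ * (q.2 * x1 * (q.2 : F)⁻¹) * q.2 := by group
        _ = _ := by rw [a2]; group) (u⁻¹ * q.1) (by rw [map_mul, map_inv, a1, hu, ← map_inv, ← map_mul])
    calc q.1 * c * q.1⁻¹ = u * (u⁻¹ * q.1 * c) * q.1⁻¹ := by group
      _ = _ := by rw [this]; group
  have hpi : ∀ {y} (hy : XX x0 y), π (lam y) = π0 ⟨y, hy.mem⟩ := fun {y} hy => by
    obtain ⟨a1, a2⟩ := hp' y hy
    simp only [lam]
    rw [map_mul, map_mul, map_inv, a1, hc1, ← map_inv, ← map_mul, ← map_mul]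
    exact congrArg π0 (Subtype.ext a2)
  have α : c * c = 1 := by
    have a0 : π (c * c) = 1 := by rw [map_mul, hc1, h.pi_sq h1]
    refine (e.ker _ a0).resolve_right fun a1 => ?_
    have a2 : ∀ y, lam y * lam y = d := fun y => by
      simp only [lam]
      calc (p y).1 * c * (p y).1⁻¹ * ((p y).1 * c * (p y).1⁻¹) =
          (p y).1 * (c * c) * (p y).1⁻¹ := by group
        _ = d := by rw [a1, e.cen]; group
    have a3 : ∀ m : List F, ∀ hm : ∀ y ∈ m, XX x0 y, m.Pairwise Commute →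
        (m.map lam).prod * (m.map lam).prod = d ^ m.length ∧
        π (m.map lam).prod = π0 ⟨m.prod, _root_.list_prod_mem fun y hy => (hm y hy).mem⟩ := by
      intro m hm hp
      induction m with
      | nil => exact ⟨by simp, (map_one π).trans (map_one π0).symm⟩
      | cons b m ih =>
        rw [List.pairwise_cons] at hp
        have hb := hm b List.mem_cons_self
        obtain ⟨i1, i2⟩ := ih (fun y hy => hm y (List.mem_cons_of_mem _ hy)) hp.2
        have cm : Commute (lam b) (m.map lam).prod := by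
          refine Commute.list_prod_right _ _ fun x hx => ?_
          obtain ⟨y, hy, rfl⟩ := List.mem_map.1 hx
          have hy' := hm y (List.mem_cons_of_mem _ hy)
          exact β hb hy' (hp.1 y hy) (hpi hb) (hpi hy')
        refine ⟨?_, ?_⟩
        · rw [List.map_cons, List.prod_cons, ← pow_two, cm.mul_pow, pow_two, pow_two, i1, a2,
            List.length_cons, pow_succ']
        · rw [List.map_cons, List.prod_cons, map_mul, i2, hpi hb, ← map_mul]
          exact congrArg π0 (Subtype.ext List.prod_cons.symm)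
    obtain ⟨b1, b2⟩ := a3 m hm hmc
    have b3 : π (m.map lam).prod = 1 := by
      rw [b2]
      rcases hmp with hp | hp
      · rw [← map_one π0]; exact congrArg π0 (Subtype.ext hp)
      · rw [← h.pi_x0]; exact congrArg π0 (Subtype.ext hp)
    obtain ⟨n, hn⟩ := hmo
    rw [e.sq_ker b3, hn, pow_succ, pow_mul, pow_two, e.sq, one_pow, one_mul] at b1
    exact e.ne b1.symm
  refine ⟨lam, hpi, fun {y} hy u g hu => ?_, fun {y} _ => ?_⟩
  · obtain ⟨a1, a2⟩ := hp' y hy
    have := uniq (u * (p y).1) (g * (p y).2) (by rw [map_mul, map_mul, hu, a1])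
    rw [← a2, show (g : F) * ((p y).2 * x1 * ((p y).2 : F)⁻¹) * (g : F)⁻¹ =
      (g * (p y).2 : CC x0) * x1 * ((g * (p y).2 : CC x0) : F)⁻¹ by simp [mul_assoc], this, a2]
    simp only [lam]
    group
  · simp only [lam]
    calc (p y).1 * c * (p y).1⁻¹ * ((p y).1 * c * (p y).1⁻¹) =
        (p y).1 * (c * c) * (p y).1⁻¹ := by group
      _ = 1 := by rw [α]; group

end

end Cfsg.Agent.Fx
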