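import Cfsg.Agent.Fis.C

/-!
Sets of 3-transpositions closed under mutual conjugation, and elements centralising a product of
commuting members.
-/
set_option autoImplicit false

namespace Cfsg.Agent.Fx

open Cfsg.Agent.Fis Subgroup

section
variable {G : Type*} [Group G] {D : Set G} [TT D]

open Classical in
theorem prod_smul_filter (y : Pt D) (l : List (Pt D)) (hl : l.Pairwise Cm) :
    (l.map Pt.t).prod • y = ((l.filter fun p => ¬ Cm p y).map Pt.t).prod • y := by
  induction l with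
  | nil => rfl
  | cons p l ih =>
    rw [List.pairwise_cons] at hl
    rw [List.map_cons, List.prod_cons, mul_smul, ih hl.2]
    by_cases h : Cm p y
    · rw [List.filter_cons_of_neg (by simpa using h), ← mul_smul]
      have : Commute p.t ((l.filter fun p => ¬ Cm p y).map Pt.t).prod := by
        refine Commute.list_prod_right _ _ fun x hx => ?_
        obtain ⟨q, hq, rfl⟩ := List.mem_map.1 hx
        exact cm_iff.1 (hl.1 q (List.mem_of_mem_filter hq))
      rw [this.eq, mul_smul, ← st_def, h.eq]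
    · rw [List.filter_cons_of_pos (by simpa using h), List.map_cons, List.prod_cons, mul_smul]

theorem nc3 {y a b c : Pt D} (ha : ¬ Cm a y) (hb : ¬ Cm b y) (hc : ¬ Cm c y) (hab : Cm a b)
    (hac : Cm a c) (hbc : Cm b c) : ¬ Cm y (a ⋆ b ⋆ c ⋆ y) := by
  have h1 : Cm y (b ⋆ c ⋆ y) := s4_cm (nc_symm hb) (nc_symm hc) hbc
  have h2 : ¬ Cm a (b ⋆ c ⋆ y) := nc_st_right hab (nc_st_right hac ha)
  exact nc_st_left h2 (nc_symm ha) h1

open Classical in
theorem klem_pt (y : Pt D) (l : List (Pt D)) (hl : l.Pairwise Cm)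
    (h : (l.map Pt.t).prod • y = y) :
    (l.filter fun p => ¬ Cm p y).length ≠ 1 ∧ (l.filter fun p => ¬ Cm p y).length ≠ 3 ∧
      (l.filter fun p => ¬ Cm p y).length ≠ 5 ∧
      (l.Nodup → (l.filter fun p => ¬ Cm p y).length ≠ 2) := by
  rw [prod_smul_filter y l hl] at h
  have h1 : (l.filter fun p => ¬ Cm p y).Pairwise Cm := hl.filter _
  have h2 : ∀ p ∈ l.filter fun p => ¬ Cm p y, ¬ Cm p y := fun p hp => by
    simpa using (List.mem_filter.1 hp).2
  have h3 : l.Nodup → (l.filter fun p => ¬ Cm p y).Nodup := fun hn => hn.filter _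
  generalize (l.filter fun p => ¬ Cm p y) = m at h h1 h2 h3
  refine ⟨fun e => ?_, fun e => ?_, fun e => ?_, fun hn e => ?_⟩
  · obtain ⟨a, rfl⟩ := List.length_eq_one_iff.1 e
    exact h2 a (by simp) (by simpa [Cm, st_def] using h)
  · obtain ⟨a, b, c, rfl⟩ := List.length_eq_three.1 e
    simp only [List.pairwise_cons, List.mem_cons, forall_eq_or_imp, List.not_mem_nil,
      or_false, forall_eq] at h1 h2
    have := nc3 h2.1 h2.2.1 h2.2.2 h1.1.1 h1.1.2 h1.2.1
    apply this
    have e2 : a ⋆ b ⋆ c ⋆ y = y := by simpa [st_def, mul_smul] using h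
    rw [e2]; exact Cm.refl y
  · obtain ⟨a, b, c, d, f, rfl⟩ : ∃ a b c d f, m = [a, b, c, d, f] := by
      match m, e with
      | [a, b, c, d, f], _ => exact ⟨a, b, c, d, f, rfl⟩
    simp only [List.pairwise_cons, List.mem_cons, forall_eq_or_imp, List.not_mem_nil,
      or_false, forall_eq] at h1 h2
    obtain ⟨⟨-, -, -, -⟩, ⟨-, -, -⟩, ⟨hcd, hcf⟩, hdf, -⟩ := id h1
    have h4 := nc3 h2.2.2.1 h2.2.2.2.1 h2.2.2.2.2 hcd hcf hdf
    have e2 : a ⋆ b ⋆ c ⋆ d ⋆ f ⋆ y = y := by simpa [st_def, mul_smul] using h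
    rw [st_eq_iff, st_eq_iff] at e2
    rw [e2] at h4
    exact h4 (s4_cm (nc_symm h2.2.1) (nc_symm h2.1) h1.1.1.symm)
  · obtain ⟨a, b, rfl⟩ := List.length_eq_two.1 e
    have hab : a ≠ b := by simpa using h3 hn
    have : (a.t * b.t) • y = y := by simpa using h
    exact h2 a (by simp) ((mul_smul_eq_iff hab).1 this).1

end

section
variable {G : Type*} [Group G]

/-- a set of 3-transpositions closed under mutual conjugation -/
structure Tr (E : Set G) : Prop where
  sq : ∀ u ∈ E, u * u = 1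
  ne : ∀ u ∈ E, u ≠ 1
  three : ∀ u ∈ E, ∀ v ∈ E, u * v = v * u ∨ u * v * u = v * u * v
  conj : ∀ u ∈ E, ∀ v ∈ E, u * v * u ∈ E

variable {E : Set G}

theorem Tr.conj_mem (h : Tr E) {g : G} (hg : g ∈ closure E) : ∀ v ∈ E, g * v * g⁻¹ ∈ E := by
  induction hg using closure_induction_left with
  | one => simp
  | mul_left x hx y _ ih =>
    intro v hv
    have := h.conj x hx _ (ih v hv)
    rwa [mul_inv_rev, inv_eq_of_mul_eq_one_right (h.sq x hx),
      show x * y * v * (y⁻¹ * x) = x * (y * v * y⁻¹) * x by group]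
  | inv_mul_cancel x hx y _ ih =>
    intro v hv
    have := h.conj x hx _ (ih v hv)
    rwa [mul_inv_rev, inv_inv, inv_eq_of_mul_eq_one_right (h.sq x hx),
      show x * y * v * (y⁻¹ * x) = x * (y * v * y⁻¹) * x by group]

theorem Tr.tt (h : Tr E) : TT {x : closure E | x.1 ∈ E} where
  sq d hd := Subtype.ext (h.sq _ hd)
  ne d hd e := h.ne _ hd (congrArg Subtype.val e)
  three d hd e he := (h.three _ hd _ he).imp Subtype.ext Subtype.ext
  conj g d hd := h.conj_mem g.2 _ hd

theorem tr_of_tt (D : Set G) [TT D] : Tr D :=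
  ⟨TT.sq, TT.ne, TT.three, fun u hu v hv => by
    have := TT.conj u v hv
    rwa [inv_eq_of_mul_eq_one_right (TT.sq u hu)] at this⟩

theorem Tr.k2 (h : Tr E) {u v y : G} (hu : u ∈ E) (hv : v ∈ E) (hy : y ∈ E) (huv : u ≠ v)
    (hc : u * v * y = y * (u * v)) : u * y = y * u ∧ v * y = y * v := by
  haveI := h.tt
  let p : ∀ x ∈ E, Pt {x : closure E | x.1 ∈ E} := fun x hx => ⟨⟨x, subset_closure hx⟩, hx⟩
  have h1 : p u hu ≠ p v hv := fun e => huv (congrArg (fun q => q.t.1) e)
  have h2 := (mul_smul_eq_iff (y := p y hy) h1).1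
    (smul_eq_iff_commute.2 (show _ = _ from Subtype.ext hc))
  exact ⟨congrArg Subtype.val (cm_iff.1 h2.1).eq, congrArg Subtype.val (cm_iff.1 h2.2).eq⟩

open Classical in
theorem Tr.klem (h : Tr E) {y : G} (hy : y ∈ E) {l : List G} (hl : ∀ x ∈ l, x ∈ E)
    (hp : l.Pairwise Commute) (hc : l.prod * y = y * l.prod) :
    (l.filter fun p => ¬ p * y = y * p).length ≠ 1 ∧
      (l.filter fun p => ¬ p * y = y * p).length ≠ 3 ∧
      (l.filter fun p => ¬ p * y = y * p).length ≠ 5 ∧
      (l.Nodup → (l.filter fun p => ¬ p * y = y * p).length ≠ 2) := by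
  haveI := h.tt
  obtain ⟨m, rfl⟩ : ∃ m : List (Pt {x : closure E | x.1 ∈ E}), l = m.map fun q => q.t.1 := by
    refine ⟨l.pmap (fun x hx => ⟨⟨x, subset_closure hx⟩, hx⟩) hl, ?_⟩
    rw [List.map_pmap]; simp
  let y' : Pt {x : closure E | x.1 ∈ E} := ⟨⟨y, subset_closure hy⟩, hy⟩
  have hcm : ∀ a b : Pt {x : closure E | x.1 ∈ E}, Cm a b ↔ a.t.1 * b.t.1 = b.t.1 * a.t.1 :=
    fun a b => cm_iff.trans ⟨fun e => congrArg Subtype.val e.eq, fun e => Subtype.ext e⟩
  have h1 : m.Pairwise Cm := by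
    rw [List.pairwise_map] at hp
    exact hp.imp fun {a b} e => (hcm a b).2 e.eq
  have h2 : (m.map Pt.t).prod • y' = y' := by
    refine smul_eq_iff_commute.2 (show _ = _ from Subtype.ext ?_)
    have : ((m.map Pt.t).prod : closure E).1 = (m.map fun q => q.t.1).prod := by
      have := map_list_prod (closure E).subtype (m.map Pt.t)
      rw [List.map_map] at this
      exact this
    rw [Subgroup.coe_mul, Subgroup.coe_mul, this]
    exact hc
  have h3 := klem_pt y' m h1 h2
  have e : ((m.map fun q => q.t.1).filter fun p => ¬ p * y = y * p).length =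
      (m.filter fun p => ¬ Cm p y').length := by
    rw [List.filter_map, List.length_map]
    congr 1
    refine List.filter_congr fun p _ => ?_
    simp only [Function.comp, hcm]
    rfl
  rw [e]
  exact ⟨h3.1, h3.2.1, h3.2.2.1, fun hn => h3.2.2.2 (List.Nodup.of_map _ hn)⟩

theorem Tr.eq_of_comm_braid (h : Tr E) {u v : G} (hu : u ∈ E) (hv : v ∈ E) (h1 : u * v = v * u)
    (h2 : u * v * u = v * u * v) : u = v := by
  have e1 : u * v * u = v := by rw [h1, mul_assoc, h.sq u hu, mul_one]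
  have e2 : v * u * v = u := by rw [← h1, mul_assoc, h.sq v hv, mul_one]
  rw [← e2, ← h2, e1]

theorem Tr.cube (h : Tr E) {u v : G} (hu : u ∈ E) (hv : v ∈ E) (h2 : u * v * u = v * u * v) :
    (u * v) ^ 3 = 1 := by
  calc (u * v) ^ 3 = (u * v * u) * (v * u * v) := by simp [pow_succ, mul_assoc]
    _ = v * u * (v * v) * u * v := by rw [h2]; group
    _ = 1 := by
      rw [h.sq v hv, mul_one, mul_assoc v, h.sq u hu, mul_one, h.sq v hv]

end

end Cfsg.Agent.Fx
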