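import Cfsg.Agent.Fx.Fin
import Cfsg.Agent.Spor.Seq

/-!
The local hypothesis on a group with a class of involutions, and the rules of the case analysis
determining the common neighbours of two non-commuting points.
-/
set_option autoImplicit false

namespace Cfsg.Agent.Fx

open Cfsg.Agent.Spor Cfsg.Agent.Fis Subgroup Equiv

variable {F : Type*} [Group F] {x0 : F} {L : Type*} [Group L] {π0 : CC x0 →* L}
  {G : Type*} [Group G]

structure Loc (x0 : F) (d : G) (ψ : CC x0 →* G) : Prop where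
  inj : Function.Injective ψ
  rng : ∀ g, g * d = d * g → ∃ h, ψ h = g
  pd : ψ ⟨x0, self_mem_CC x0⟩ = d
  cls : ∀ h : CC x0, IsConj d (ψ h) ↔ IsConj x0 h.1

namespace Loc
variable {d : G} {ψ : CC x0 →* G}

theorem cm (l : Loc x0 d ψ) (h : CC x0) : ψ h * d = d * ψ h := by
  rw [← l.pd, ← map_mul, ← map_mul]
  exact congrArg ψ (Subtype.ext (mem_CC.1 h.2))

theorem conj (l : Loc x0 d ψ) (g : G) :
    Loc x0 (g * d * g⁻¹) ((MulAut.conj g).toMonoidHom.comp ψ) where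
  inj := (MulAut.conj g).injective.comp l.inj
  rng k hk := by
    obtain ⟨y, hy⟩ := l.rng (g⁻¹ * k * g) (by simpa [mul_assoc] using conj_comm hk g⁻¹)
    exact ⟨y, by simp [hy, mul_assoc]⟩
  pd := by simp [l.pd]
  cls h := by
    rw [← l.cls h]
    have a1 : IsConj d (g * d * g⁻¹) := isConj_iff.2 ⟨g, rfl⟩
    have a2 : IsConj (ψ h) (g * ψ h * g⁻¹) := isConj_iff.2 ⟨g, rfl⟩
    exact ⟨fun t => (a1.trans t).trans a2.symm, fun t => (a1.symm.trans t).trans a2⟩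

theorem at' (l : Loc x0 d ψ) {s : G} (hs : IsConj d s) : ∃ χ : CC x0 →* G, Loc x0 s χ := by
  obtain ⟨g, rfl⟩ := isConj_iff.1 hs
  exact ⟨_, l.conj g⟩

theorem comm_iff (l : Loc x0 d ψ) {a b : CC x0} :
    ψ a * ψ b = ψ b * ψ a ↔ a.1 * b.1 = b.1 * a.1 := by
  rw [← map_mul, ← map_mul, l.inj.eq_iff, Subtype.ext_iff]; rfl

theorem ptt (l : Loc x0 d ψ) {u : G} (hu : IsConj d u) (hc : u * d = d * u) :
    ∃ y : CC x0, IsConj x0 y.1 ∧ u = ψ y := by
  obtain ⟨y, rfl⟩ := l.rng u hc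
  exact ⟨y, (l.cls y).1 hu, rfl⟩

theorem xx (l : Loc x0 d ψ) {u : G} (hu : IsConj d u) (hc : u * d = d * u) (hn : u ≠ d) :
    ∃ y, ∃ hy : XX x0 y, u = ψ ⟨y, hy.mem⟩ := by
  obtain ⟨y, hy, rfl⟩ := l.ptt hu hc
  exact ⟨y, ⟨hy, mem_CC.1 y.2, fun t => hn (by rw [← l.pd]; exact congrArg ψ (Subtype.ext t))⟩, rfl⟩

theorem tr (h : Base x0 L π0) (l : Loc x0 d ψ) {s : G} (hs : IsConj d s) :
    Tr {u | IsConj d u ∧ u * s = s * u} := by
  obtain ⟨χ, m⟩ := l.at' hs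
  have hp : ∀ u ∈ {u | IsConj d u ∧ u * s = s * u}, ∃ y : CC x0, IsConj x0 y.1 ∧ u = χ y :=
    fun u hu => m.ptt (hs.symm.trans hu.1) hu.2
  have sq : ∀ u ∈ {u | IsConj d u ∧ u * s = s * u}, u * u = 1 := fun u hu => by
    obtain ⟨y, hy, rfl⟩ := hp u hu
    rw [← map_mul, ← map_one χ]
    exact congrArg χ (Subtype.ext (h.tr.sq _ hy))
  refine ⟨sq, fun u hu => ?_, fun u hu v hv => ?_, fun u hu v hv => ⟨?_, ?_⟩⟩
  · obtain ⟨y, hy, rfl⟩ := hp u hu
    rw [← map_one χ, Ne, m.inj.eq_iff]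
    exact fun t => h.tr.ne _ hy (congrArg Subtype.val t)
  · obtain ⟨y, hy, rfl⟩ := hp u hu
    obtain ⟨z, hz, rfl⟩ := hp v hv
    simp only [← map_mul, m.inj.eq_iff]
    exact (h.tr.three _ hy _ hz).imp Subtype.ext Subtype.ext
  · exact hv.1.trans (isConj_iff.2 ⟨u, by rw [inv_eq_of_mul_eq_one_right (sq u hu)]⟩)
  · exact ((Commute.mul_left hu.2 hv.2).mul_left hu.2).eq

theorem emb [Finite F] (h2 : Base2 x0) (h : Base x0 L π0) (l : Loc x0 d ψ) {Φ : F →* G}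
    (hi : Function.Injective Φ) (hd : Φ x0 = d) : Emb x0 Φ (conjugatesOf d) := by
  have hc : ∀ a : CC x0, ∃ b, ψ b = Φ a := fun a =>
    l.rng _ (by rw [← hd, ← map_mul, ← map_mul, mem_CC.1 a.2])
  choose σ hσ using hc
  have si : Function.Injective σ := fun a b t =>
    Subtype.ext (hi (by rw [← hσ, ← hσ, t]))
  have ss := Finite.injective_iff_surjective.1 si
  have loc : ∀ a : CC x0, IsConj d (Φ a) → IsConj x0 a.1 := by
    intro a ha
    have m1 : Set.MapsTo σ {a | IsConj x0 a.1} {a | IsConj x0 a.1} := fun a ha =>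
      (l.cls _).1 (by rw [hσ, ← hd]; exact Φ.map_isConj ha)
    have m2 := (Set.toFinite _).surjOn_iff_bijOn_of_mapsTo m1
    have m3 := ((Set.toFinite _).injOn_iff_bijOn_of_mapsTo m1).1 si.injOn
    obtain ⟨b, hb, e⟩ := m3.surjOn (show σ a ∈ {a : CC x0 | IsConj x0 a.1} from
      (l.cls _).1 (by rw [hσ]; exact ha))
    rwa [← si e]
  refine ⟨hi, by rw [hd], fun g hg => ?_, fun y hy => ?_⟩
  · obtain ⟨b, rfl⟩ := l.rng g (hd ▸ hg)
    obtain ⟨a, rfl⟩ := ss b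
    exact ⟨a, (hσ a).symm⟩
  · obtain ⟨g, hg⟩ := isConj_iff.1 hy
    obtain ⟨r, hr, e⟩ := h2.f1 y (hi (by
      rw [map_mul, ← hg, ← hd, map_one, show g * Φ x0 * g⁻¹ * (g * Φ x0 * g⁻¹) =
        g * (Φ x0 * Φ x0) * g⁻¹ by group, ← map_mul, h.sq, map_one]; group))
    obtain ⟨c, rfl⟩ := isConj_iff.1 hr
    have hm : c⁻¹ * y * c ∈ CC x0 := mem_CC.2 (by simpa [mul_assoc] using conj_comm e c⁻¹)
    have := loc ⟨_, hm⟩ (IsConj.trans hy (isConj_iff.2 ⟨Φ c⁻¹, by simp⟩))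
    exact this.trans (isConj_iff.2 ⟨c, by simp [mul_assoc]⟩)

end Loc

/-- the properties of the centraliser of a point not commuting with `x0` -/
structure Adm (x0 : F) (C : Subgroup F) : Prop where
  le : C ≤ CC x0
  nx : x0 ∉ C
  kl : ∀ s ∈ C, IsConj x0 s → ∀ P : List F, (∀ p ∈ P, XX x0 p ∧ p * s = s * p) →
    P.Pairwise Commute → P.Nodup → x0 * P.prod ∈ C → P.length ≤ 4 →
    P.length = 3 ∨ (P.length = 4 ∧ ∃ p ∈ P, p ∈ C)

theorem Adm.conj {C : Subgroup F} (a : Adm x0 C) {g : F} (hg : g ∈ CC x0) :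
    Adm x0 (C.comap (MulAut.conj g).toMonoidHom) := by
  have e0 : g * x0 * g⁻¹ = x0 := by rw [mem_CC.1 hg]; group
  refine ⟨fun x hx => ?_, fun hx => a.nx (e0 ▸ hx), fun s hs hs' P h1 h2 h3 h4 h5 => ?_⟩
  · have : g⁻¹ * (g * x * g⁻¹) * g ∈ CC x0 :=
      (CC x0).mul_mem ((CC x0).mul_mem ((CC x0).inv_mem hg) (a.le hx)) hg
    simpa [mul_assoc] using this
  · have := a.kl _ hs (hs'.trans (isConj_iff.2 ⟨g, rfl⟩)) (P.map (MulAut.conj g)) (by
      intro q hq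
      obtain ⟨p, hp, rfl⟩ := List.mem_map.1 hq
      exact ⟨(h1 p hp).1.conj hg, conj_comm (h1 p hp).2 g⟩)
      (by rw [List.pairwise_map]; exact h2.imp fun t => conj_comm t g)
      (h3.map (MulAut.conj g).injective) (by
        rw [← map_list_prod, ← e0]
        simpa [mul_assoc] using h4) (by simpa using h5)
    simpa using this

theorem Loc.adm (h : Base x0 L π0) {d : G} {ψ : CC x0 →* G} (l : Loc x0 d ψ) {y : G}
    (hy : IsConj d y) (hn : y * d ≠ d * y) :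
    Adm x0 (((CC y).comap ψ).map (CC x0).subtype) := by
  classical
  have mem : ∀ {x} (hx : x ∈ CC x0), x ∈ ((CC y).comap ψ).map (CC x0).subtype ↔
      ψ ⟨x, hx⟩ * y = y * ψ ⟨x, hx⟩ := fun {x} hx => by
    rw [← mem_CC]
    constructor
    · rintro ⟨a, ha, rfl⟩; exact ha
    · exact fun t => ⟨⟨x, hx⟩, t, rfl⟩
  have nx : x0 ∉ ((CC y).comap ψ).map (CC x0).subtype := fun t => hn (by
    rw [mem (self_mem_CC x0), l.pd] at t; exact t.symm)
  refine ⟨map_subtype_le _, nx, fun s hs hs' P h1 h2 h3 h4 h5 => ?_⟩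
  have sC := map_subtype_le _ hs
  have tr := l.tr h ((l.cls ⟨s, sC⟩).2 hs')
  obtain ⟨Q, rfl⟩ : ∃ Q : List (CC x0), P = Q.map Subtype.val :=
    ⟨P.pmap Subtype.mk fun p hp => (h1 p hp).1.mem, by rw [List.map_pmap]; simp⟩
  rw [List.pairwise_map] at h2
  have eq : x0 * (Q.map Subtype.val).prod = (⟨x0, self_mem_CC x0⟩ * Q.prod : CC x0).1 := by
    rw [Subgroup.coe_mul]
    exact congrArg _ (map_list_prod (CC x0).subtype Q).symm
  rw [eq, mem (Subtype.prop _), Subtype.coe_eta, map_mul, l.pd, map_list_prod] at h4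
  obtain ⟨k1, k3, k5, k2⟩ := tr.klem (y := y) ⟨hy, ((mem sC).1 hs).symm⟩ (l := d :: Q.map ψ) (by
      intro x hx
      rcases List.mem_cons.1 hx with rfl | hx
      · exact ⟨IsConj.refl _, (l.cm _).symm⟩
      · obtain ⟨q, hq, rfl⟩ := List.mem_map.1 hx
        have := h1 q (List.mem_map_of_mem hq)
        exact ⟨(l.cls q).2 this.1.1, l.comm_iff.2 this.2⟩) (by
      rw [List.pairwise_cons, List.pairwise_map]
      refine ⟨fun x hx => ?_, h2.imp fun t => l.comm_iff.2 t⟩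
      obtain ⟨q, hq, rfl⟩ := List.mem_map.1 hx
      exact (l.cm q).symm) (by simpa using h4)
  have k2' := k2 (by
    rw [List.nodup_cons]
    refine ⟨fun hx => ?_, (List.Nodup.of_map _ h3).map l.inj⟩
    obtain ⟨q, hq, e⟩ := List.mem_map.1 hx
    rw [← l.pd, l.inj.eq_iff] at e
    exact (h1 q (List.mem_map_of_mem hq)).1.3 (congrArg Subtype.val e))
  rw [List.filter_cons_of_pos (by simpa using hn.symm), List.length_cons] at k1 k2' k3 k5
  have le := List.length_filter_le (fun p => decide ¬ p * y = y * p) (Q.map ψ)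
  rw [List.length_map] at le h5 ⊢
  by_cases h6 : Q.length = 3
  · exact Or.inl h6
  refine Or.inr ⟨by omega, ?_⟩
  by_contra hne
  have : (Q.map ψ).filter (fun p => decide ¬ p * y = y * p) = Q.map ψ := by
    rw [List.filter_eq_self]
    intro x hx
    obtain ⟨q, hq, rfl⟩ := List.mem_map.1 hx
    simpa using fun t => hne ⟨q, List.mem_map_of_mem hq, (mem q.2).2 t⟩
  rw [this, List.length_map] at k1 k2' k3 k5
  omega

def Good (φ : F →* Perm ℕ) (x0 : F) (Sg K : List ℕ) : Prop :=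
  ∀ C, Adm x0 C → (∀ k ∈ K, pt φ x0 k ∈ C) → ∃ g ∈ CC x0, ∀ s ∈ Sg, g * pt φ x0 s * g⁻¹ ∈ C

/-- a point not commuting with `d` and commuting with the prescribed points -/
theorem Loc.exists_y [Finite F] (h : Base x0 L π0) {d : G} {ψ : CC x0 →* G} (l : Loc x0 d ψ)
    {φ : F →* Perm ℕ} {Sg : List ℕ} {k1 k2 : ℕ} (h1 : XX x0 (pt φ x0 k1)) (h2 : XX x0 (pt φ x0 k2))
    (hn : pt φ x0 k2 ≠ pt φ x0 k1) (hc : pt φ x0 k1 * pt φ x0 k2 = pt φ x0 k2 * pt φ x0 k1)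
    (hg : Good φ x0 Sg [k1, k2]) : ∃ y, IsConj d y ∧ y * d ≠ d * y ∧
      ∀ s ∈ Sg, ∀ hs : pt φ x0 s ∈ CC x0, ψ ⟨_, hs⟩ * y = y * ψ ⟨_, hs⟩ := by
  have c1 := (l.cls ⟨_, h1.mem⟩).2 h1.1
  have n1 : d ≠ ψ ⟨_, h1.mem⟩ := fun t => h1.3 (by
    rw [← l.pd, l.inj.eq_iff] at t; exact (congrArg Subtype.val t).symm)
  obtain ⟨χ, m⟩ := l.at' c1
  obtain ⟨a, ha, ea⟩ := m.xx c1.symm (l.cm _).symm n1
  obtain ⟨b, hb, nb⟩ := h.exists_nc ha
  obtain ⟨w, hw, wa, wb⟩ := h.e1 ha hb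
  have hy : IsConj d (χ ⟨b, hb.mem⟩) := c1.trans ((m.cls _).2 hb.1)
  have ny : χ ⟨b, hb.mem⟩ * d ≠ d * χ ⟨b, hb.mem⟩ := by rw [ea, Ne, m.comm_iff]; exact nb
  have wy : χ ⟨w, hw.mem⟩ * χ ⟨b, hb.mem⟩ = χ ⟨b, hb.mem⟩ * χ ⟨w, hw.mem⟩ := m.comm_iff.2 wb
  obtain ⟨v, hv, ev⟩ := l.xx (c1.trans ((m.cls ⟨w, hw.mem⟩).2 hw.1))
    (by rw [ea, m.comm_iff]; exact wa) (fun t => ny (by rw [← t, wy]))
  obtain ⟨g, hg1, g1, g2⟩ := h.t2 h1 h2 hv hn (fun t => hw.3 (by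
      have : χ ⟨w, hw.mem⟩ = χ ⟨x0, self_mem_CC x0⟩ := by
        rw [m.pd, ev]; exact congrArg ψ (Subtype.ext t)
      exact congrArg Subtype.val (m.inj this))) hc (by
      have := m.cm ⟨w, hw.mem⟩
      rw [ev, l.comm_iff] at this
      exact this.symm)
  obtain ⟨c, hc1, hc2⟩ := hg _ ((l.adm h hy ny).conj hg1) (by
    intro k hk
    simp only [List.mem_cons, List.not_mem_nil, or_false] at hk
    rcases hk with rfl | rfl
    · rw [mem_comap, MulEquiv.coe_toMonoidHom, MulAut.conj_apply, g1]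
      exact ⟨⟨_, h1.mem⟩, mem_CC.2 (m.cm _).symm, rfl⟩
    · rw [mem_comap, MulEquiv.coe_toMonoidHom, MulAut.conj_apply, g2]
      exact ⟨⟨_, hv.mem⟩, mem_CC.2 (ev ▸ wy), rfl⟩)
  let u : CC x0 := ⟨g, hg1⟩ * ⟨c, hc1⟩
  refine ⟨(ψ u)⁻¹ * χ ⟨b, hb.mem⟩ * ψ u, hy.trans (isConj_iff.2 ⟨(ψ u)⁻¹, by simp⟩), fun t => ny ?_,
    fun s hs hs' => ?_⟩
  · have := conj_comm t (ψ u)
    rw [l.cm u] at this
    simpa [mul_assoc] using this
  · obtain ⟨a, ha, ea⟩ := hc2 s hs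
    have e1 : a = u * ⟨_, hs'⟩ * u⁻¹ := Subtype.ext (ea.trans (by simp [u, mul_assoc]))
    have e2 := conj_comm (mem_CC.1 ha) (ψ u)⁻¹
    rw [e1] at e2
    simpa [mul_assoc] using e2

/-! ### rules -/

noncomputable section
def inK (E : Eng) (K : List ℕ) (l : List NP) : Bool := lall (fun a => band (E.ok a) (memL K a.k)) l
def pwc (E : Eng) (P : List NP) : Bool :=
  List.rec true (fun p Q ih => band (lall (fun q => band (E.fx p.w q.k) (not (Nat.beq p.k q.k))) Q) ih) P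
def isX (E : Eng) (p : NP) : Bool := band (E.ok p) (band (E.fx E.xw p.k) (not (Nat.beq p.k 0)))
def brChk (E : Eng) (K : List ℕ) (s : NP) (w P : List NP) : Bool :=
  band (inK E K (s :: w)) (band (lall (fun p => band (isX E p) (E.fx s.w p.k)) P)
    (band (pwc E P) (E.one (lapp E.xw (lapp (cat P) (cat w))))))
def symChk (E : Eng) (N : ℕ) (K K' w : List ℕ) : Bool :=
  band (E.fx w 0) (lall (fun k => band (Nat.ble (Nat.succ k) N) (memL K (E.ap w k))) K')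
def clChk (E : Eng) (K : List ℕ) (l : List NP) (a : NP) (c : ℕ) : Bool :=
  band (inK E K (a :: l)) (Nat.beq (E.ap (cat l) a.k) c)
end

variable {φ : F →* Perm ℕ} {E : Eng} {f : ℕ → F} {N : ℕ} {Sg K : List ℕ}

theorem Eng.Ok0.isConj (h : E.Ok0 φ f x0 N) {k : ℕ} (hk : k < N) : IsConj x0 (pt φ x0 k) :=
  (mem_conj_iff h.act).2 ⟨k, hk, rfl⟩

theorem Eng.Ok.isX (h : E.Ok φ f x0 N) {p : NP} (hp : isX E p = true) :
    E.ok p = true ∧ XX x0 (pt φ x0 p.k) := by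
  simp only [Fx.isX, band_eq, Bool.and_eq_true, Bool.not_eq_true'] at hp
  have h1 := (h.ok hp.1).1
  refine ⟨hp.1, h.isConj h1, ?_, fun t => ?_⟩
  · have := (h.fx_iff h1).1 hp.2.1
    rw [h.xw] at this
    exact this.symm
  · rw [← pt_zero h.act] at t
    have := pt_inj h.act h1 (zero_lt h.act) (by simpa [pt_zero h.act] using t)
    rw [this] at hp
    simp at hp

theorem Eng.Ok.cm (h : E.Ok φ f x0 N) {a : NP} (ha : E.ok a = true) {k : ℕ} (hk : k < N) :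
    E.fx a.w k = true ↔ pt φ x0 a.k * pt φ x0 k = pt φ x0 k * pt φ x0 a.k := by
  rw [h.fx_iff hk, (h.ok ha).2]

theorem Eng.Ok.pwc (h : E.Ok φ f x0 N) {P : List NP} (h1 : ∀ p ∈ P, E.ok p = true)
    (hp : pwc E P = true) : (P.map fun a => pt φ x0 a.k).Pairwise Commute ∧
      (P.map fun a => pt φ x0 a.k).Nodup := by
  induction P with
  | nil => simp
  | cons p Q ih =>
    have e : band (lall (fun q => band (E.fx p.w q.k) (not (Nat.beq p.k q.k))) Q) (Fx.pwc E Q) = true := hp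
    rw [band_eq, Bool.and_eq_true, lall_iff] at e
    have h2 := fun q hq => h1 q (List.mem_cons_of_mem _ hq)
    obtain ⟨i1, i2⟩ := ih h2 e.2
    have hp1 := h1 p List.mem_cons_self
    rw [List.map_cons, List.pairwise_cons, List.nodup_cons]
    refine ⟨⟨fun x hx => ?_, i1⟩, fun hx => ?_, i2⟩
    · obtain ⟨q, hq, rfl⟩ := List.mem_map.1 hx
      have := e.1 q hq
      rw [band_eq, Bool.and_eq_true] at this
      exact (h.cm hp1 (h.ok (h2 q hq)).1).1 this.1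
    · obtain ⟨q, hq, e2⟩ := List.mem_map.1 hx
      have := e.1 q hq
      rw [band_eq, Bool.and_eq_true, pt_inj h.act (h.ok (h2 q hq)).1 (h.ok hp1).1 e2 |>.symm] at this
      simp at this

theorem inK_iff {l : List NP} : inK E K l = true ↔ ∀ a ∈ l, E.ok a = true ∧ a.k ∈ K := by
  simp [inK, lall_iff, memL_iff]

theorem Eng.Ok.cat_mem (h : E.Ok φ f x0 N) {l : List NP} (hl : ∀ a ∈ l, E.ok a = true ∧ a.k ∈ K)
    {C : Subgroup F} (hK : ∀ k ∈ K, pt φ x0 k ∈ C) : wd f (Fx.cat l) ∈ C := by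
  rw [h.cat ((lall_iff _ _).2 fun a ha => (hl a ha).1)]
  refine _root_.list_prod_mem fun x hx => ?_
  obtain ⟨a, ha, rfl⟩ := List.mem_map.1 hx
  exact hK _ (hl a ha).2

theorem Good.refl : Good φ x0 Sg Sg := fun _ _ hK => ⟨1, one_mem _, by simpa using hK⟩

theorem Good.sym (h : E.Ok φ f x0 N) {K' : List ℕ} (w : List ℕ) (hc : symChk E N K K' w = true)
    (hg : Good φ x0 Sg K') : Good φ x0 Sg K := by
  intro C a hK
  simp only [symChk, band_eq, Bool.and_eq_true, lall_iff, Nat.ble_eq, memL_iff] at hc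
  have h0 : wd f w ∈ CC x0 := by
    have := (h.fx_iff (zero_lt h.act)).1 hc.1
    rw [pt_zero h.act] at this
    exact mem_CC.2 this
  obtain ⟨g, hg1, hg2⟩ := hg _ (a.conj h0) fun k hk => by
    show wd f w * _ * (wd f w)⁻¹ ∈ C
    rw [h.conj w (hc.2 k hk).1]
    exact hK _ (hc.2 k hk).2
  refine ⟨wd f w * g, mul_mem h0 hg1, fun s hs => ?_⟩
  have : wd f w * (g * pt φ x0 s * g⁻¹) * (wd f w)⁻¹ ∈ C := hg2 s hs
  simpa [mul_assoc] using this

theorem Good.cl (h : E.Ok φ f x0 N) (l : List NP) (a : NP) (c : ℕ) (hc : clChk E K l a c = true)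
    (hg : Good φ x0 Sg (c :: K)) : Good φ x0 Sg K := by
  intro C ad hK
  rw [clChk, band_eq, Bool.and_eq_true, inK_iff] at hc
  refine hg C ad fun k hk => ?_
  rcases List.mem_cons.1 hk with rfl | hk
  · have ha := hc.1 a List.mem_cons_self
    have := h.cat_mem (fun b hb => hc.1 b (List.mem_cons_of_mem _ hb)) hK
    rw [← Nat.eq_of_beq_eq_true hc.2, ← h.conj _ (h.ok ha.1).1]
    exact mul_mem (mul_mem this (hK _ ha.2)) (inv_mem this)
  · exact hK k hk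

theorem br_aux (h : E.Ok φ f x0 N) {s : NP} {w P : List NP} (hc : brChk E K s w P = true)
    (h4 : P.length ≤ 4) {C : Subgroup F} (ad : Adm x0 C) (hK : ∀ k ∈ K, pt φ x0 k ∈ C) :
    P.length = 3 ∨ (P.length = 4 ∧ ∃ p ∈ P, pt φ x0 p.k ∈ C) := by
  simp only [brChk, band_eq, Bool.and_eq_true, inK_iff, lall_iff] at hc
  obtain ⟨c1, c2, c3, c4⟩ := hc
  have hs := c1 s List.mem_cons_self
  have hP : ∀ p ∈ P, E.ok p = true := fun p hp => (h.isX (c2 p hp).1).1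
  obtain ⟨p1, p2⟩ := h.pwc hP c3
  have e := h.one c4
  rw [wd_lapp, wd_lapp, h.xw, h.cat ((lall_iff _ _).2 hP), ← mul_assoc,
    mul_eq_one_iff_eq_inv] at e
  have := ad.kl _ (hK _ hs.2) (h.isConj (h.ok hs.1).1) _ (by
    intro q hq
    obtain ⟨p, hp, rfl⟩ := List.mem_map.1 hq
    exact ⟨(h.isX (c2 p hp).1).2, ((h.cm hs.1 (h.ok (hP p hp)).1).1 (c2 p hp).2).symm⟩) p1 p2
    (e ▸ inv_mem (h.cat_mem (fun b hb => c1 b (List.mem_cons_of_mem _ hb)) hK)) (by simpa using h4)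
  simpa using this

theorem Good.dead (h : E.Ok φ f x0 N) (s : NP) (w P : List NP) (hc : brChk E K s w P = true)
    (h2 : P.length ≤ 2) : Good φ x0 Sg K := fun _ ad hK => by
  have := br_aux h hc (by omega) ad hK
  omega

theorem Good.br (h : E.Ok φ f x0 N) (s : NP) (w : List NP) (p1 p2 p3 p4 : NP)
    (hc : brChk E K s w [p1, p2, p3, p4] = true) (g1 : Good φ x0 Sg (p1.k :: K))
    (g2 : Good φ x0 Sg (p2.k :: K)) (g3 : Good φ x0 Sg (p3.k :: K))
    (g4 : Good φ x0 Sg (p4.k :: K)) : Good φ x0 Sg K := fun C ad hK => by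
  obtain ⟨-, p, hp, hp'⟩ := (br_aux h hc (by simp) ad hK).resolve_left (by simp)
  have : ∀ k ∈ p.k :: K, pt φ x0 k ∈ C := by
    intro k hk
    rcases List.mem_cons.1 hk with rfl | hk
    exacts [hp', hK k hk]
  simp only [List.mem_cons, List.not_mem_nil, or_false] at hp
  rcases hp with rfl | rfl | rfl | rfl
  exacts [g1 C ad this, g2 C ad this, g3 C ad this, g4 C ad this]

end Cfsg.Agent.Fx
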