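import Cfsg.Agent.Fx.T22
import Cfsg.Agent.Fx.Loc

set_option autoImplicit false
set_option maxRecDepth 100000
set_option Elab.async false

namespace Cfsg.Agent.Fx.M22

def Sg : List ℕ := [16, 40, 88, 154, 43, 92, 472]

namespace Tree

theorem g1 : Good φ x0 Sg [435, 172, 609, 295, 91, 186, 233, 16, 88] :=
  Good.cl ok [⟨435, [8, 7, 4, 5, 3, 4, 1, 2, 3, 7, 6, 5, 4, 3, 2, 1], 0⟩] ⟨233, [7, 8, 3, 4, 1, 2, 3, 7, 5, 4, 3, 2, 1], 0⟩ 310 (by decide +kernel) <|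
  Good.cl ok [⟨172, [5, 4, 1, 2, 3, 7, 6, 5, 4, 3, 2, 1], 0⟩, ⟨91, [8, 7, 5, 4], 3⟩, ⟨435, [8, 7, 4, 5, 3, 4, 1, 2, 3, 7, 6, 5, 4, 3, 2, 1], 0⟩] ⟨16, [], 3⟩ 1398 (by decide +kernel) <|
  Good.cl ok [⟨172, [5, 4, 1, 2, 3, 7, 6, 5, 4, 3, 2, 1], 0⟩, ⟨435, [8, 7, 4, 5, 3, 4, 1, 2, 3, 7, 6, 5, 4, 3, 2, 1], 0⟩, ⟨91, [8, 7, 5, 4], 3⟩] ⟨88, [], 5⟩ 92 (by decide +kernel) <|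
  Good.cl ok [⟨609, [5, 4, 3, 7, 8, 7, 3, 4, 1, 2, 3, 7, 5, 4, 3, 2, 1], 0⟩, ⟨172, [5, 4, 1, 2, 3, 7, 6, 5, 4, 3, 2, 1], 0⟩, ⟨186, [7, 8, 4, 1, 2, 3, 7, 5, 4, 3, 2, 1], 0⟩] ⟨233, [7, 8, 3, 4, 1, 2, 3, 7, 5, 4, 3, 2, 1], 0⟩ 710 (by decide +kernel) <|
  Good.dead ok ⟨16, [], 3⟩ [⟨16, [], 3⟩, ⟨88, [], 5⟩, ⟨310, [6, 5, 4, 3, 7, 8, 1, 2, 3, 7, 4, 3, 2, 1], 0⟩, ⟨1398, [6, 5, 4, 3, 7, 8, 3, 7, 4, 5, 3, 4, 1, 2, 3, 7, 6, 5, 4, 3, 2, 1], 0⟩, ⟨92, [], 8⟩, ⟨710, [6, 5, 4, 3, 7, 8, 5, 4, 1, 2, 3, 7, 6, 5, 4, 3, 2, 1], 0⟩] [] (by decide +kernel) (by decide)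

theorem g2 : Good φ x0 Sg [618, 172, 609, 295, 91, 186, 233, 16, 88] :=
  Good.cl ok [⟨609, [5, 4, 3, 7, 8, 7, 3, 4, 1, 2, 3, 7, 5, 4, 3, 2, 1], 0⟩, ⟨91, [8, 7, 5, 4], 3⟩, ⟨618, [5, 3, 4, 2, 3, 7, 8, 4, 1, 2, 3, 7, 5, 4, 3, 2, 1], 0⟩, ⟨186, [7, 8, 4, 1, 2, 3, 7, 5, 4, 3, 2, 1], 0⟩] ⟨16, [], 3⟩ 30 (by decide +kernel) <|
  Good.cl ok [⟨609, [5, 4, 3, 7, 8, 7, 3, 4, 1, 2, 3, 7, 5, 4, 3, 2, 1], 0⟩, ⟨172, [5, 4, 1, 2, 3, 7, 6, 5, 4, 3, 2, 1], 0⟩, ⟨186, [7, 8, 4, 1, 2, 3, 7, 5, 4, 3, 2, 1], 0⟩] ⟨16, [], 3⟩ 342 (by decide +kernel) <|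
  Good.cl ok [⟨609, [5, 4, 3, 7, 8, 7, 3, 4, 1, 2, 3, 7, 5, 4, 3, 2, 1], 0⟩, ⟨172, [5, 4, 1, 2, 3, 7, 6, 5, 4, 3, 2, 1], 0⟩, ⟨91, [8, 7, 5, 4], 3⟩, ⟨618, [5, 3, 4, 2, 3, 7, 8, 4, 1, 2, 3, 7, 5, 4, 3, 2, 1], 0⟩] ⟨16, [], 3⟩ 792 (by decide +kernel) <|
  Good.dead ok ⟨16, [], 3⟩ [⟨16, [], 3⟩, ⟨30, [8, 7, 3], 2⟩, ⟨342, [8, 4, 5, 3, 4, 1, 2, 3, 7, 6, 5, 4, 3, 2, 1], 0⟩, ⟨792, [7, 3, 4, 2, 3, 7, 8, 5, 4, 3, 7, 6, 5, 4, 3], 2⟩] [⟨540, [8, 7, 4, 5, 2, 3, 4, 1, 2, 3, 7, 6, 5, 4, 3, 2, 1], 0⟩] (by decide +kernel) (by decide)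

theorem g3 : Good φ x0 Sg [1444, 172, 609, 295, 91, 186, 233, 16, 88] :=
  Good.cl ok [⟨233, [7, 8, 3, 4, 1, 2, 3, 7, 5, 4, 3, 2, 1], 0⟩, ⟨1444, [7, 4, 5, 3, 4, 2, 3, 7, 8, 7, 3, 4, 1, 2, 3, 7, 6, 5, 4, 3, 2, 1], 0⟩, ⟨172, [5, 4, 1, 2, 3, 7, 6, 5, 4, 3, 2, 1], 0⟩, ⟨186, [7, 8, 4, 1, 2, 3, 7, 5, 4, 3, 2, 1], 0⟩] ⟨16, [], 3⟩ 17 (by decide +kernel) <|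
  Good.cl ok [⟨16, [], 3⟩, ⟨186, [7, 8, 4, 1, 2, 3, 7, 5, 4, 3, 2, 1], 0⟩] ⟨233, [7, 8, 3, 4, 1, 2, 3, 7, 5, 4, 3, 2, 1], 0⟩ 43 (by decide +kernel) <|
  Good.cl ok [⟨609, [5, 4, 3, 7, 8, 7, 3, 4, 1, 2, 3, 7, 5, 4, 3, 2, 1], 0⟩, ⟨91, [8, 7, 5, 4], 3⟩, ⟨172, [5, 4, 1, 2, 3, 7, 6, 5, 4, 3, 2, 1], 0⟩] ⟨88, [], 5⟩ 89 (by decide +kernel) <|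
  Good.cl ok [⟨91, [8, 7, 5, 4], 3⟩] ⟨88, [], 5⟩ 65 (by decide +kernel) <|
  Good.cl ok [⟨172, [5, 4, 1, 2, 3, 7, 6, 5, 4, 3, 2, 1], 0⟩, ⟨88, [], 5⟩, ⟨1444, [7, 4, 5, 3, 4, 2, 3, 7, 8, 7, 3, 4, 1, 2, 3, 7, 6, 5, 4, 3, 2, 1], 0⟩, ⟨233, [7, 8, 3, 4, 1, 2, 3, 7, 5, 4, 3, 2, 1], 0⟩, ⟨186, [7, 8, 4, 1, 2, 3, 7, 5, 4, 3, 2, 1], 0⟩] ⟨16, [], 3⟩ 291 (by decide +kernel) <|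
  Good.sym ok [4, 3, 7, 5, 4, 3, 2] (by decide +kernel) Good.refl

theorem g4 : Good φ x0 Sg [2686, 172, 609, 295, 91, 186, 233, 16, 88] :=
  Good.cl ok [⟨2686, [8, 2, 3, 7, 6, 4, 5, 3, 4, 2, 3, 7, 8, 4, 5, 2, 3, 4, 1, 2, 3, 7, 6, 5, 4, 3, 2, 1], 0⟩, ⟨172, [5, 4, 1, 2, 3, 7, 6, 5, 4, 3, 2, 1], 0⟩] ⟨233, [7, 8, 3, 4, 1, 2, 3, 7, 5, 4, 3, 2, 1], 0⟩ 545 (by decide +kernel) <|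
  Good.cl ok [⟨91, [8, 7, 5, 4], 3⟩, ⟨2686, [8, 2, 3, 7, 6, 4, 5, 3, 4, 2, 3, 7, 8, 4, 5, 2, 3, 4, 1, 2, 3, 7, 6, 5, 4, 3, 2, 1], 0⟩] ⟨233, [7, 8, 3, 4, 1, 2, 3, 7, 5, 4, 3, 2, 1], 0⟩ 2499 (by decide +kernel) <|
  Good.cl ok [⟨609, [5, 4, 3, 7, 8, 7, 3, 4, 1, 2, 3, 7, 5, 4, 3, 2, 1], 0⟩, ⟨172, [5, 4, 1, 2, 3, 7, 6, 5, 4, 3, 2, 1], 0⟩, ⟨186, [7, 8, 4, 1, 2, 3, 7, 5, 4, 3, 2, 1], 0⟩] ⟨16, [], 3⟩ 342 (by decide +kernel) <|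
  Good.cl ok [⟨2686, [8, 2, 3, 7, 6, 4, 5, 3, 4, 2, 3, 7, 8, 4, 5, 2, 3, 4, 1, 2, 3, 7, 6, 5, 4, 3, 2, 1], 0⟩, ⟨172, [5, 4, 1, 2, 3, 7, 6, 5, 4, 3, 2, 1], 0⟩, ⟨91, [8, 7, 5, 4], 3⟩] ⟨88, [], 5⟩ 1668 (by decide +kernel) <|
  Good.dead ok ⟨16, [], 3⟩ [⟨16, [], 3⟩, ⟨88, [], 5⟩, ⟨545, [8, 4, 3, 7, 2, 3, 4, 1, 2, 3, 7, 6, 5, 4, 3, 2, 1], 0⟩, ⟨2499, [2, 3, 7, 4, 5, 3, 4, 2, 3, 7, 8, 3, 7, 4, 5, 3, 4, 1, 2, 3, 7, 6, 5, 4, 3, 2, 1], 0⟩, ⟨342, [8, 4, 5, 3, 4, 1, 2, 3, 7, 6, 5, 4, 3, 2, 1], 0⟩, ⟨1668, [2, 3, 7, 4, 5, 3, 4, 2, 3, 7, 8, 5, 4, 1, 2, 3, 7, 6, 5, 4, 3, 2, 1], 0⟩] [] (by decide +kernel) (by decide)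

theorem g5 : Good φ x0 Sg [172, 609, 295, 91, 186, 233, 16, 88] :=
  Good.br ok ⟨609, [5, 4, 3, 7, 8, 7, 3, 4, 1, 2, 3, 7, 5, 4, 3, 2, 1], 0⟩ [⟨609, [5, 4, 3, 7, 8, 7, 3, 4, 1, 2, 3, 7, 5, 4, 3, 2, 1], 0⟩] ⟨435, [8, 7, 4, 5, 3, 4, 1, 2, 3, 7, 6, 5, 4, 3, 2, 1], 0⟩ ⟨618, [5, 3, 4, 2, 3, 7, 8, 4, 1, 2, 3, 7, 5, 4, 3, 2, 1], 0⟩ ⟨1444, [7, 4, 5, 3, 4, 2, 3, 7, 8, 7, 3, 4, 1, 2, 3, 7, 6, 5, 4, 3, 2, 1], 0⟩ ⟨2686, [8, 2, 3, 7, 6, 4, 5, 3, 4, 2, 3, 7, 8, 4, 5, 2, 3, 4, 1, 2, 3, 7, 6, 5, 4, 3, 2, 1], 0⟩ (by decide +kernel)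
  g1 g2 g3 g4

theorem g6 : Good φ x0 Sg [717, 774, 609, 295, 91, 186, 233, 16, 88] :=
  Good.cl ok [⟨609, [5, 4, 3, 7, 8, 7, 3, 4, 1, 2, 3, 7, 5, 4, 3, 2, 1], 0⟩, ⟨774, [7, 3, 4, 2, 3, 7, 8, 3, 4, 1, 2, 3, 7, 5, 4, 3, 2, 1], 0⟩, ⟨186, [7, 8, 4, 1, 2, 3, 7, 5, 4, 3, 2, 1], 0⟩] ⟨16, [], 3⟩ 30 (by decide +kernel) <|
  Good.cl ok [⟨717, [4, 5, 3, 4, 2, 3, 7, 8, 1, 2, 3, 7, 6, 5, 4, 3, 2, 1], 0⟩, ⟨609, [5, 4, 3, 7, 8, 7, 3, 4, 1, 2, 3, 7, 5, 4, 3, 2, 1], 0⟩, ⟨774, [7, 3, 4, 2, 3, 7, 8, 3, 4, 1, 2, 3, 7, 5, 4, 3, 2, 1], 0⟩] ⟨233, [7, 8, 3, 4, 1, 2, 3, 7, 5, 4, 3, 2, 1], 0⟩ 342 (by decide +kernel) <|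
  Good.cl ok [⟨186, [7, 8, 4, 1, 2, 3, 7, 5, 4, 3, 2, 1], 0⟩, ⟨717, [4, 5, 3, 4, 2, 3, 7, 8, 1, 2, 3, 7, 6, 5, 4, 3, 2, 1], 0⟩] ⟨233, [7, 8, 3, 4, 1, 2, 3, 7, 5, 4, 3, 2, 1], 0⟩ 792 (by decide +kernel) <|
  Good.dead ok ⟨16, [], 3⟩ [⟨16, [], 3⟩, ⟨30, [8, 7, 3], 2⟩, ⟨342, [8, 4, 5, 3, 4, 1, 2, 3, 7, 6, 5, 4, 3, 2, 1], 0⟩, ⟨792, [7, 3, 4, 2, 3, 7, 8, 5, 4, 3, 7, 6, 5, 4, 3], 2⟩] [⟨540, [8, 7, 4, 5, 2, 3, 4, 1, 2, 3, 7, 6, 5, 4, 3, 2, 1], 0⟩] (by decide +kernel) (by decide)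

theorem g7 : Good φ x0 Sg [758, 774, 609, 295, 91, 186, 233, 16, 88] :=
  Good.cl ok [⟨609, [5, 4, 3, 7, 8, 7, 3, 4, 1, 2, 3, 7, 5, 4, 3, 2, 1], 0⟩, ⟨774, [7, 3, 4, 2, 3, 7, 8, 3, 4, 1, 2, 3, 7, 5, 4, 3, 2, 1], 0⟩, ⟨233, [7, 8, 3, 4, 1, 2, 3, 7, 5, 4, 3, 2, 1], 0⟩, ⟨186, [7, 8, 4, 1, 2, 3, 7, 5, 4, 3, 2, 1], 0⟩] ⟨16, [], 3⟩ 248 (by decide +kernel) <|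
  Good.cl ok [⟨774, [7, 3, 4, 2, 3, 7, 8, 3, 4, 1, 2, 3, 7, 5, 4, 3, 2, 1], 0⟩, ⟨91, [8, 7, 5, 4], 3⟩, ⟨758, [2, 3, 7, 8, 3, 7, 2, 3, 4, 1, 2, 3, 7, 5, 4, 3, 2, 1], 0⟩, ⟨186, [7, 8, 4, 1, 2, 3, 7, 5, 4, 3, 2, 1], 0⟩] ⟨233, [7, 8, 3, 4, 1, 2, 3, 7, 5, 4, 3, 2, 1], 0⟩ 296 (by decide +kernel) <|
  Good.cl ok [⟨774, [7, 3, 4, 2, 3, 7, 8, 3, 4, 1, 2, 3, 7, 5, 4, 3, 2, 1], 0⟩, ⟨609, [5, 4, 3, 7, 8, 7, 3, 4, 1, 2, 3, 7, 5, 4, 3, 2, 1], 0⟩, ⟨91, [8, 7, 5, 4], 3⟩, ⟨758, [2, 3, 7, 8, 3, 7, 2, 3, 4, 1, 2, 3, 7, 5, 4, 3, 2, 1], 0⟩, ⟨186, [7, 8, 4, 1, 2, 3, 7, 5, 4, 3, 2, 1], 0⟩] ⟨16, [], 3⟩ 92 (by decide +kernel) <|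
  Good.dead ok ⟨16, [], 3⟩ [⟨16, [], 3⟩, ⟨88, [], 5⟩, ⟨758, [2, 3, 7, 8, 3, 7, 2, 3, 4, 1, 2, 3, 7, 5, 4, 3, 2, 1], 0⟩, ⟨248, [2, 3, 7, 8, 4, 3, 7, 5, 4, 3], 2⟩, ⟨296, [2, 3, 7, 8, 4, 1, 2, 3, 7, 5, 4, 3, 2, 1], 0⟩, ⟨92, [], 8⟩] [] (by decide +kernel) (by decide)

theorem g8 : Good φ x0 Sg [1016, 774, 609, 295, 91, 186, 233, 16, 88] :=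
  Good.cl ok [⟨609, [5, 4, 3, 7, 8, 7, 3, 4, 1, 2, 3, 7, 5, 4, 3, 2, 1], 0⟩, ⟨774, [7, 3, 4, 2, 3, 7, 8, 3, 4, 1, 2, 3, 7, 5, 4, 3, 2, 1], 0⟩, ⟨233, [7, 8, 3, 4, 1, 2, 3, 7, 5, 4, 3, 2, 1], 0⟩, ⟨186, [7, 8, 4, 1, 2, 3, 7, 5, 4, 3, 2, 1], 0⟩] ⟨16, [], 3⟩ 248 (by decide +kernel) <|
  Good.cl ok [⟨774, [7, 3, 4, 2, 3, 7, 8, 3, 4, 1, 2, 3, 7, 5, 4, 3, 2, 1], 0⟩, ⟨1016, [2, 3, 7, 8, 3, 7, 4, 5, 3, 4, 1, 2, 3, 7, 6, 5, 4, 3, 2, 1], 0⟩, ⟨88, [], 5⟩, ⟨774, [7, 3, 4, 2, 3, 7, 8, 3, 4, 1, 2, 3, 7, 5, 4, 3, 2, 1], 0⟩] ⟨16, [], 3⟩ 1349 (by decide +kernel) <|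
  Good.cl ok [⟨609, [5, 4, 3, 7, 8, 7, 3, 4, 1, 2, 3, 7, 5, 4, 3, 2, 1], 0⟩, ⟨1016, [2, 3, 7, 8, 3, 7, 4, 5, 3, 4, 1, 2, 3, 7, 6, 5, 4, 3, 2, 1], 0⟩, ⟨91, [8, 7, 5, 4], 3⟩, ⟨774, [7, 3, 4, 2, 3, 7, 8, 3, 4, 1, 2, 3, 7, 5, 4, 3, 2, 1], 0⟩] ⟨233, [7, 8, 3, 4, 1, 2, 3, 7, 5, 4, 3, 2, 1], 0⟩ 1776 (by decide +kernel) <|
  Good.dead ok ⟨16, [], 3⟩ [⟨16, [], 3⟩, ⟨88, [], 5⟩, ⟨1016, [2, 3, 7, 8, 3, 7, 4, 5, 3, 4, 1, 2, 3, 7, 6, 5, 4, 3, 2, 1], 0⟩, ⟨248, [2, 3, 7, 8, 4, 3, 7, 5, 4, 3], 2⟩, ⟨1349, [6, 5, 4, 3, 7, 8, 3, 4, 5, 2, 3, 4, 1, 2, 3, 7, 6, 5, 4, 3, 2, 1], 0⟩, ⟨1776, [4, 5, 3, 4, 2, 3, 7, 8, 3, 7, 4, 5, 3, 4, 1, 2, 3, 7, 6, 5, 4, 3, 2, 1], 0⟩] [] (by decide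 +kernel) (by decide)

theorem g9 : Good φ x0 Sg [1398, 774, 609, 295, 91, 186, 233, 16, 88] :=
  Good.cl ok [⟨774, [7, 3, 4, 2, 3, 7, 8, 3, 4, 1, 2, 3, 7, 5, 4, 3, 2, 1], 0⟩] ⟨91, [8, 7, 5, 4], 3⟩ 618 (by decide +kernel) <|
  Good.cl ok [⟨1398, [6, 5, 4, 3, 7, 8, 3, 7, 4, 5, 3, 4, 1, 2, 3, 7, 6, 5, 4, 3, 2, 1], 0⟩] ⟨609, [5, 4, 3, 7, 8, 7, 3, 4, 1, 2, 3, 7, 5, 4, 3, 2, 1], 0⟩ 272 (by decide +kernel) <|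
  Good.cl ok [⟨609, [5, 4, 3, 7, 8, 7, 3, 4, 1, 2, 3, 7, 5, 4, 3, 2, 1], 0⟩, ⟨774, [7, 3, 4, 2, 3, 7, 8, 3, 4, 1, 2, 3, 7, 5, 4, 3, 2, 1], 0⟩, ⟨186, [7, 8, 4, 1, 2, 3, 7, 5, 4, 3, 2, 1], 0⟩] ⟨233, [7, 8, 3, 4, 1, 2, 3, 7, 5, 4, 3, 2, 1], 0⟩ 370 (by decide +kernel) <|
  Good.cl ok [⟨609, [5, 4, 3, 7, 8, 7, 3, 4, 1, 2, 3, 7, 5, 4, 3, 2, 1], 0⟩, ⟨774, [7, 3, 4, 2, 3, 7, 8, 3, 4, 1, 2, 3, 7, 5, 4, 3, 2, 1], 0⟩, ⟨186, [7, 8, 4, 1, 2, 3, 7, 5, 4, 3, 2, 1], 0⟩] ⟨16, [], 3⟩ 30 (by decide +kernel) <|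
  Good.cl ok [⟨774, [7, 3, 4, 2, 3, 7, 8, 3, 4, 1, 2, 3, 7, 5, 4, 3, 2, 1], 0⟩, ⟨233, [7, 8, 3, 4, 1, 2, 3, 7, 5, 4, 3, 2, 1], 0⟩, ⟨186, [7, 8, 4, 1, 2, 3, 7, 5, 4, 3, 2, 1], 0⟩] ⟨16, [], 3⟩ 472 (by decide +kernel) <|
  Good.sym ok [8, 2, 3, 4, 5, 5, 4, 3, 7, 2, 3, 4, 1, 2, 3, 7, 5, 4, 3, 2, 1, 0, 1, 2, 3, 4, 5, 7, 3, 2, 1, 4, 3, 2, 7, 3, 4, 5, 8, 7, 5, 4, 3, 2] (by decide +kernel) Good.refl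

theorem g10 : Good φ x0 Sg [774, 609, 295, 91, 186, 233, 16, 88] :=
  Good.br ok ⟨88, [], 5⟩ [⟨88, [], 5⟩] ⟨717, [4, 5, 3, 4, 2, 3, 7, 8, 1, 2, 3, 7, 6, 5, 4, 3, 2, 1], 0⟩ ⟨758, [2, 3, 7, 8, 3, 7, 2, 3, 4, 1, 2, 3, 7, 5, 4, 3, 2, 1], 0⟩ ⟨1016, [2, 3, 7, 8, 3, 7, 4, 5, 3, 4, 1, 2, 3, 7, 6, 5, 4, 3, 2, 1], 0⟩ ⟨1398, [6, 5, 4, 3, 7, 8, 3, 7, 4, 5, 3, 4, 1, 2, 3, 7, 6, 5, 4, 3, 2, 1], 0⟩ (by decide +kernel)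
  g6 g7 g8 g9

theorem g11 : Good φ x0 Sg [482, 1395, 609, 295, 91, 186, 233, 16, 88] :=
  Good.cl ok [⟨609, [5, 4, 3, 7, 8, 7, 3, 4, 1, 2, 3, 7, 5, 4, 3, 2, 1], 0⟩] ⟨88, [], 5⟩ 479 (by decide +kernel) <|
  Good.cl ok [⟨233, [7, 8, 3, 4, 1, 2, 3, 7, 5, 4, 3, 2, 1], 0⟩, ⟨482, [5, 4, 3, 7, 8, 3, 4, 1, 2, 3, 7, 5, 4, 3, 2, 1], 0⟩, ⟨1395, [8, 7, 5, 3, 4, 2, 3, 7, 8, 2, 3, 4, 1, 2, 3, 7, 6, 5, 4, 3, 2, 1], 0⟩, ⟨186, [7, 8, 4, 1, 2, 3, 7, 5, 4, 3, 2, 1], 0⟩] ⟨233, [7, 8, 3, 4, 1, 2, 3, 7, 5, 4, 3, 2, 1], 0⟩ 1394 (by decide +kernel) <|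
  Good.dead ok ⟨16, [], 3⟩ [⟨16, [], 3⟩, ⟨479, [4, 3, 7, 8, 7, 3, 4, 1, 2, 3, 7, 5, 4, 3, 2, 1], 0⟩, ⟨1394, [7, 6, 5, 3, 4, 2, 3, 7, 8, 2, 3, 4, 1, 2, 3, 7, 6, 5, 4, 3, 2, 1], 0⟩] [⟨685, [4, 3, 7, 8, 7, 2, 3, 4, 1, 2, 3, 7, 6, 5, 4, 3, 2, 1], 0⟩, ⟨1775, [2, 3, 7, 4, 5, 3, 4, 2, 3, 7, 8, 2, 3, 4, 1, 2, 3, 7, 6, 5, 4, 3, 2, 1], 0⟩] (by decide +kernel) (by decide)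

theorem g12 : Good φ x0 Sg [688, 1395, 609, 295, 91, 186, 233, 16, 88] :=
  Good.cl ok [⟨688, [5, 4, 3, 7, 8, 2, 3, 4, 1, 2, 3, 7, 6, 5, 4, 3, 2, 1], 0⟩] ⟨91, [8, 7, 5, 4], 3⟩ 430 (by decide +kernel) <|
  Good.cl ok [⟨609, [5, 4, 3, 7, 8, 7, 3, 4, 1, 2, 3, 7, 5, 4, 3, 2, 1], 0⟩, ⟨688, [5, 4, 3, 7, 8, 2, 3, 4, 1, 2, 3, 7, 6, 5, 4, 3, 2, 1], 0⟩] ⟨1395, [8, 7, 5, 3, 4, 2, 3, 7, 8, 2, 3, 4, 1, 2, 3, 7, 6, 5, 4, 3, 2, 1], 0⟩ 269 (by decide +kernel) <|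
  Good.cl ok [⟨1395, [8, 7, 5, 3, 4, 2, 3, 7, 8, 2, 3, 4, 1, 2, 3, 7, 6, 5, 4, 3, 2, 1], 0⟩, ⟨91, [8, 7, 5, 4], 3⟩, ⟨609, [5, 4, 3, 7, 8, 7, 3, 4, 1, 2, 3, 7, 5, 4, 3, 2, 1], 0⟩] ⟨88, [], 5⟩ 1881 (by decide +kernel) <|
  Good.cl ok [⟨186, [7, 8, 4, 1, 2, 3, 7, 5, 4, 3, 2, 1], 0⟩, ⟨688, [5, 4, 3, 7, 8, 2, 3, 4, 1, 2, 3, 7, 6, 5, 4, 3, 2, 1], 0⟩, ⟨1395, [8, 7, 5, 3, 4, 2, 3, 7, 8, 2, 3, 4, 1, 2, 3, 7, 6, 5, 4, 3, 2, 1], 0⟩] ⟨233, [7, 8, 3, 4, 1, 2, 3, 7, 5, 4, 3, 2, 1], 0⟩ 2757 (by decide +kernel) <|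
  Good.dead ok ⟨16, [], 3⟩ [⟨16, [], 3⟩, ⟨88, [], 5⟩, ⟨430, [4, 3, 7, 2, 3, 4, 1, 2, 3, 7, 6, 5, 4, 3, 2, 1], 0⟩, ⟨269, [4, 5, 3, 4, 1, 2, 3, 7, 6, 5, 4, 3, 2, 1], 0⟩, ⟨1881, [8, 2, 3, 7, 4, 5, 3, 4, 2, 3, 7, 8, 5, 4, 1, 2, 3, 7, 6, 5, 4, 3, 2, 1], 0⟩, ⟨2757, [8, 2, 3, 7, 4, 5, 3, 4, 2, 3, 7, 8, 3, 7, 4, 5, 3, 4, 1, 2, 3, 7, 6, 5, 4, 3, 2, 1], 0⟩] [] (by decide +kernel) (by decide)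

theorem g13 : Good φ x0 Sg [1041, 1395, 609, 295, 91, 186, 233, 16, 88] :=
  Good.cl ok [⟨91, [8, 7, 5, 4], 3⟩, ⟨1041, [7, 3, 4, 2, 3, 7, 8, 7, 3, 4, 1, 2, 3, 7, 6, 5, 4, 3, 2, 1], 0⟩, ⟨609, [5, 4, 3, 7, 8, 7, 3, 4, 1, 2, 3, 7, 5, 4, 3, 2, 1], 0⟩, ⟨1395, [8, 7, 5, 3, 4, 2, 3, 7, 8, 2, 3, 4, 1, 2, 3, 7, 6, 5, 4, 3, 2, 1], 0⟩] ⟨233, [7, 8, 3, 4, 1, 2, 3, 7, 5, 4, 3, 2, 1], 0⟩ 6 (by decide +kernel) <|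
  Good.cl ok [⟨91, [8, 7, 5, 4], 3⟩] ⟨88, [], 5⟩ 65 (by decide +kernel) <|
  Good.cl ok [⟨1395, [8, 7, 5, 3, 4, 2, 3, 7, 8, 2, 3, 4, 1, 2, 3, 7, 6, 5, 4, 3, 2, 1], 0⟩, ⟨1041, [7, 3, 4, 2, 3, 7, 8, 7, 3, 4, 1, 2, 3, 7, 6, 5, 4, 3, 2, 1], 0⟩] ⟨88, [], 5⟩ 154 (by decide +kernel) <|
  Good.cl ok [⟨16, [], 3⟩, ⟨186, [7, 8, 4, 1, 2, 3, 7, 5, 4, 3, 2, 1], 0⟩] ⟨233, [7, 8, 3, 4, 1, 2, 3, 7, 5, 4, 3, 2, 1], 0⟩ 43 (by decide +kernel) <|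
  Good.cl ok [⟨1041, [7, 3, 4, 2, 3, 7, 8, 7, 3, 4, 1, 2, 3, 7, 6, 5, 4, 3, 2, 1], 0⟩, ⟨609, [5, 4, 3, 7, 8, 7, 3, 4, 1, 2, 3, 7, 5, 4, 3, 2, 1], 0⟩, ⟨91, [8, 7, 5, 4], 3⟩, ⟨1395, [8, 7, 5, 3, 4, 2, 3, 7, 8, 2, 3, 4, 1, 2, 3, 7, 6, 5, 4, 3, 2, 1], 0⟩] ⟨88, [], 5⟩ 392 (by decide +kernel) <|
  Good.sym ok [8, 7, 3, 2] (by decide +kernel) Good.refl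

theorem g14 : Good φ x0 Sg [1727, 1395, 609, 295, 91, 186, 233, 16, 88] :=
  Good.cl ok [⟨1727, [6, 4, 5, 3, 4, 2, 3, 7, 8, 4, 5, 2, 3, 4, 1, 2, 3, 7, 6, 5, 4, 3, 2, 1], 0⟩] ⟨91, [8, 7, 5, 4], 3⟩ 2627 (by decide +kernel) <|
  Good.cl ok [⟨609, [5, 4, 3, 7, 8, 7, 3, 4, 1, 2, 3, 7, 5, 4, 3, 2, 1], 0⟩, ⟨1727, [6, 4, 5, 3, 4, 2, 3, 7, 8, 4, 5, 2, 3, 4, 1, 2, 3, 7, 6, 5, 4, 3, 2, 1], 0⟩] ⟨1395, [8, 7, 5, 3, 4, 2, 3, 7, 8, 2, 3, 4, 1, 2, 3, 7, 6, 5, 4, 3, 2, 1], 0⟩ 637 (by decide +kernel) <|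
  Good.cl ok [⟨1395, [8, 7, 5, 3, 4, 2, 3, 7, 8, 2, 3, 4, 1, 2, 3, 7, 6, 5, 4, 3, 2, 1], 0⟩, ⟨91, [8, 7, 5, 4], 3⟩, ⟨609, [5, 4, 3, 7, 8, 7, 3, 4, 1, 2, 3, 7, 5, 4, 3, 2, 1], 0⟩] ⟨88, [], 5⟩ 1881 (by decide +kernel) <|
  Good.cl ok [⟨91, [8, 7, 5, 4], 3⟩, ⟨609, [5, 4, 3, 7, 8, 7, 3, 4, 1, 2, 3, 7, 5, 4, 3, 2, 1], 0⟩, ⟨1727, [6, 4, 5, 3, 4, 2, 3, 7, 8, 4, 5, 2, 3, 4, 1, 2, 3, 7, 6, 5, 4, 3, 2, 1], 0⟩, ⟨1395, [8, 7, 5, 3, 4, 2, 3, 7, 8, 2, 3, 4, 1, 2, 3, 7, 6, 5, 4, 3, 2, 1], 0⟩] ⟨88, [], 5⟩ 183 (by decide +kernel) <|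
  Good.dead ok ⟨16, [], 3⟩ [⟨16, [], 3⟩, ⟨88, [], 5⟩, ⟨2627, [8, 2, 3, 7, 4, 5, 3, 4, 2, 3, 7, 8, 3, 4, 5, 2, 3, 4, 1, 2, 3, 7, 6, 5, 4, 3, 2, 1], 0⟩, ⟨637, [1, 2, 3, 7, 4, 5, 3, 4, 2, 3, 7, 6, 5, 4, 3, 2], 1⟩, ⟨1881, [8, 2, 3, 7, 4, 5, 3, 4, 2, 3, 7, 8, 5, 4, 1, 2, 3, 7, 6, 5, 4, 3, 2, 1], 0⟩, ⟨183, [2, 3, 4, 1, 2, 3, 7, 5, 4, 3, 2, 1], 0⟩] [] (by decide +kernel) (by decide)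

theorem g15 : Good φ x0 Sg [1395, 609, 295, 91, 186, 233, 16, 88] :=
  Good.br ok ⟨16, [], 3⟩ [⟨16, [], 3⟩] ⟨482, [5, 4, 3, 7, 8, 3, 4, 1, 2, 3, 7, 5, 4, 3, 2, 1], 0⟩ ⟨688, [5, 4, 3, 7, 8, 2, 3, 4, 1, 2, 3, 7, 6, 5, 4, 3, 2, 1], 0⟩ ⟨1041, [7, 3, 4, 2, 3, 7, 8, 7, 3, 4, 1, 2, 3, 7, 6, 5, 4, 3, 2, 1], 0⟩ ⟨1727, [6, 4, 5, 3, 4, 2, 3, 7, 8, 4, 5, 2, 3, 4, 1, 2, 3, 7, 6, 5, 4, 3, 2, 1], 0⟩ (by decide +kernel)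
  g11 g12 g13 g14

theorem g16 : Good φ x0 Sg [152, 2242, 609, 295, 91, 186, 233, 16, 88] :=
  Good.cl ok [⟨16, [], 3⟩, ⟨186, [7, 8, 4, 1, 2, 3, 7, 5, 4, 3, 2, 1], 0⟩] ⟨233, [7, 8, 3, 4, 1, 2, 3, 7, 5, 4, 3, 2, 1], 0⟩ 43 (by decide +kernel) <|
  Good.cl ok [⟨186, [7, 8, 4, 1, 2, 3, 7, 5, 4, 3, 2, 1], 0⟩, ⟨88, [], 5⟩, ⟨152, [3, 7, 8, 1, 2, 3, 7, 4, 3, 2, 1], 0⟩] ⟨16, [], 3⟩ 40 (by decide +kernel) <|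
  Good.cl ok [⟨186, [7, 8, 4, 1, 2, 3, 7, 5, 4, 3, 2, 1], 0⟩, ⟨152, [3, 7, 8, 1, 2, 3, 7, 4, 3, 2, 1], 0⟩, ⟨2242, [7, 6, 4, 5, 3, 4, 2, 3, 7, 8, 3, 7, 4, 5, 3, 4, 1, 2, 3, 7, 6, 5, 4, 3, 2, 1], 0⟩] ⟨91, [8, 7, 5, 4], 3⟩ 276 (by decide +kernel) <|
  Good.cl ok [⟨91, [8, 7, 5, 4], 3⟩, ⟨2242, [7, 6, 4, 5, 3, 4, 2, 3, 7, 8, 3, 7, 4, 5, 3, 4, 1, 2, 3, 7, 6, 5, 4, 3, 2, 1], 0⟩, ⟨152, [3, 7, 8, 1, 2, 3, 7, 4, 3, 2, 1], 0⟩, ⟨609, [5, 4, 3, 7, 8, 7, 3, 4, 1, 2, 3, 7, 5, 4, 3, 2, 1], 0⟩, ⟨91, [8, 7, 5, 4], 3⟩] ⟨88, [], 5⟩ 1349 (by decide +kernel) <|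
  Good.cl ok [⟨609, [5, 4, 3, 7, 8, 7, 3, 4, 1, 2, 3, 7, 5, 4, 3, 2, 1], 0⟩] ⟨91, [8, 7, 5, 4], 3⟩ 59 (by decide +kernel) <|
  Good.sym ok [6, 5, 4, 3, 7, 8, 2, 3, 4, 5, 5, 4, 3, 7, 2, 3, 4, 1, 2, 3, 7, 5, 4, 3, 2, 1, 0, 1, 2, 3, 4, 5, 7, 3, 2, 1, 4, 3, 2, 7, 3, 4, 5, 6, 5, 4, 3, 2] (by decide +kernel) Good.refl

theorem g17 : Good φ x0 Sg [862, 2242, 609, 295, 91, 186, 233, 16, 88] :=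
  Good.cl ok [⟨91, [8, 7, 5, 4], 3⟩, ⟨862, [3, 4, 2, 3, 7, 8, 7, 3, 4, 1, 2, 3, 7, 6, 5, 4, 3, 2, 1], 0⟩, ⟨609, [5, 4, 3, 7, 8, 7, 3, 4, 1, 2, 3, 7, 5, 4, 3, 2, 1], 0⟩, ⟨2242, [7, 6, 4, 5, 3, 4, 2, 3, 7, 8, 3, 7, 4, 5, 3, 4, 1, 2, 3, 7, 6, 5, 4, 3, 2, 1], 0⟩] ⟨16, [], 3⟩ 45 (by decide +kernel) <|
  Good.dead ok ⟨16, [], 3⟩ [⟨16, [], 3⟩, ⟨45, [6, 5, 4, 3], 2⟩, ⟨88, [], 5⟩] [⟨2628, [7, 8, 3, 7, 4, 5, 3, 4, 2, 3, 7, 8, 3, 4, 5, 2, 3, 4, 1, 2, 3, 7, 6, 5, 4, 3, 2, 1], 0⟩, ⟨2758, [7, 8, 3, 7, 4, 5, 3, 4, 2, 3, 7, 8, 3, 7, 4, 5, 3, 4, 1, 2, 3, 7, 6, 5, 4, 3, 2, 1], 0⟩] (by decide +kernel) (by decide)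

theorem g18 : Good φ x0 Sg [1604, 2242, 609, 295, 91, 186, 233, 16, 88] :=
  Good.cl ok [⟨1604, [8, 7, 5, 3, 4, 2, 3, 7, 8, 4, 5, 3, 4, 1, 2, 3, 7, 6, 5, 4, 3, 2, 1], 0⟩] ⟨91, [8, 7, 5, 4], 3⟩ 988 (by decide +kernel) <|
  Good.cl ok [⟨609, [5, 4, 3, 7, 8, 7, 3, 4, 1, 2, 3, 7, 5, 4, 3, 2, 1], 0⟩, ⟨2242, [7, 6, 4, 5, 3, 4, 2, 3, 7, 8, 3, 7, 4, 5, 3, 4, 1, 2, 3, 7, 6, 5, 4, 3, 2, 1], 0⟩, ⟨233, [7, 8, 3, 4, 1, 2, 3, 7, 5, 4, 3, 2, 1], 0⟩] ⟨16, [], 3⟩ 717 (by decide +kernel) <|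
  Good.cl ok [⟨2242, [7, 6, 4, 5, 3, 4, 2, 3, 7, 8, 3, 7, 4, 5, 3, 4, 1, 2, 3, 7, 6, 5, 4, 3, 2, 1], 0⟩, ⟨1604, [8, 7, 5, 3, 4, 2, 3, 7, 8, 4, 5, 3, 4, 1, 2, 3, 7, 6, 5, 4, 3, 2, 1], 0⟩, ⟨2242, [7, 6, 4, 5, 3, 4, 2, 3, 7, 8, 3, 7, 4, 5, 3, 4, 1, 2, 3, 7, 6, 5, 4, 3, 2, 1], 0⟩, ⟨186, [7, 8, 4, 1, 2, 3, 7, 5, 4, 3, 2, 1], 0⟩, ⟨233, [7, 8, 3, 4, 1, 2, 3, 7, 5, 4, 3, 2, 1], 0⟩] ⟨16, [], 3⟩ 310 (by decide +kernel) <|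
  Good.cl ok [⟨609, [5, 4, 3, 7, 8, 7, 3, 4, 1, 2, 3, 7, 5, 4, 3, 2, 1], 0⟩, ⟨1604, [8, 7, 5, 3, 4, 2, 3, 7, 8, 4, 5, 3, 4, 1, 2, 3, 7, 6, 5, 4, 3, 2, 1], 0⟩, ⟨2242, [7, 6, 4, 5, 3, 4, 2, 3, 7, 8, 3, 7, 4, 5, 3, 4, 1, 2, 3, 7, 6, 5, 4, 3, 2, 1], 0⟩, ⟨16, [], 3⟩, ⟨186, [7, 8, 4, 1, 2, 3, 7, 5, 4, 3, 2, 1], 0⟩] ⟨233, [7, 8, 3, 4, 1, 2, 3, 7, 5, 4, 3, 2, 1], 0⟩ 1776 (by decide +kernel) <|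
  Good.dead ok ⟨16, [], 3⟩ [⟨16, [], 3⟩, ⟨88, [], 5⟩, ⟨988, [2, 3, 7, 8, 3, 4, 5, 2, 3, 4, 1, 2, 3, 7, 6, 5, 4, 3, 2, 1], 0⟩, ⟨717, [4, 5, 3, 4, 2, 3, 7, 8, 1, 2, 3, 7, 6, 5, 4, 3, 2, 1], 0⟩, ⟨310, [6, 5, 4, 3, 7, 8, 1, 2, 3, 7, 4, 3, 2, 1], 0⟩, ⟨1776, [4, 5, 3, 4, 2, 3, 7, 8, 3, 7, 4, 5, 3, 4, 1, 2, 3, 7, 6, 5, 4, 3, 2, 1], 0⟩] [] (by decide +kernel) (by decide)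

theorem g19 : Good φ x0 Sg [1743, 2242, 609, 295, 91, 186, 233, 16, 88] :=
  Good.cl ok [⟨91, [8, 7, 5, 4], 3⟩, ⟨1743, [7, 4, 5, 3, 4, 2, 3, 7, 8, 7, 5, 2, 3, 4, 1, 2, 3, 7, 6, 5, 4, 3, 2, 1], 0⟩] ⟨186, [7, 8, 4, 1, 2, 3, 7, 5, 4, 3, 2, 1], 0⟩ 430 (by decide +kernel) <|
  Good.cl ok [⟨233, [7, 8, 3, 4, 1, 2, 3, 7, 5, 4, 3, 2, 1], 0⟩, ⟨16, [], 3⟩, ⟨1743, [7, 4, 5, 3, 4, 2, 3, 7, 8, 7, 5, 2, 3, 4, 1, 2, 3, 7, 6, 5, 4, 3, 2, 1], 0⟩] ⟨2242, [7, 6, 4, 5, 3, 4, 2, 3, 7, 8, 3, 7, 4, 5, 3, 4, 1, 2, 3, 7, 6, 5, 4, 3, 2, 1], 0⟩ 1829 (by decide +kernel) <|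
  Good.cl ok [⟨609, [5, 4, 3, 7, 8, 7, 3, 4, 1, 2, 3, 7, 5, 4, 3, 2, 1], 0⟩, ⟨186, [7, 8, 4, 1, 2, 3, 7, 5, 4, 3, 2, 1], 0⟩, ⟨1743, [7, 4, 5, 3, 4, 2, 3, 7, 8, 7, 5, 2, 3, 4, 1, 2, 3, 7, 6, 5, 4, 3, 2, 1], 0⟩, ⟨2242, [7, 6, 4, 5, 3, 4, 2, 3, 7, 8, 3, 7, 4, 5, 3, 4, 1, 2, 3, 7, 6, 5, 4, 3, 2, 1], 0⟩] ⟨16, [], 3⟩ 18 (by decide +kernel) <|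
  Good.cl ok [⟨609, [5, 4, 3, 7, 8, 7, 3, 4, 1, 2, 3, 7, 5, 4, 3, 2, 1], 0⟩, ⟨2242, [7, 6, 4, 5, 3, 4, 2, 3, 7, 8, 3, 7, 4, 5, 3, 4, 1, 2, 3, 7, 6, 5, 4, 3, 2, 1], 0⟩, ⟨16, [], 3⟩, ⟨186, [7, 8, 4, 1, 2, 3, 7, 5, 4, 3, 2, 1], 0⟩] ⟨233, [7, 8, 3, 4, 1, 2, 3, 7, 5, 4, 3, 2, 1], 0⟩ 1810 (by decide +kernel) <|
  Good.dead ok ⟨16, [], 3⟩ [⟨16, [], 3⟩, ⟨88, [], 5⟩, ⟨430, [4, 3, 7, 2, 3, 4, 1, 2, 3, 7, 6, 5, 4, 3, 2, 1], 0⟩, ⟨1829, [8, 7, 6, 5, 3, 4, 2, 3, 7, 8, 7, 5, 3, 4, 1, 2, 3, 7, 6, 5, 4, 3, 2, 1], 0⟩, ⟨18, [7, 3], 2⟩, ⟨1810, [8, 7, 6, 5, 3, 4, 2, 3, 7, 8, 4, 5, 3, 4, 1, 2, 3, 7, 6, 5, 4, 3, 2, 1], 0⟩] [] (by decide +kernel) (by decide)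

theorem g20 : Good φ x0 Sg [2242, 609, 295, 91, 186, 233, 16, 88] :=
  Good.br ok ⟨233, [7, 8, 3, 4, 1, 2, 3, 7, 5, 4, 3, 2, 1], 0⟩ [⟨233, [7, 8, 3, 4, 1, 2, 3, 7, 5, 4, 3, 2, 1], 0⟩] ⟨152, [3, 7, 8, 1, 2, 3, 7, 4, 3, 2, 1], 0⟩ ⟨862, [3, 4, 2, 3, 7, 8, 7, 3, 4, 1, 2, 3, 7, 6, 5, 4, 3, 2, 1], 0⟩ ⟨1604, [8, 7, 5, 3, 4, 2, 3, 7, 8, 4, 5, 3, 4, 1, 2, 3, 7, 6, 5, 4, 3, 2, 1], 0⟩ ⟨1743, [7, 4, 5, 3, 4, 2, 3, 7, 8, 7, 5, 2, 3, 4, 1, 2, 3, 7, 6, 5, 4, 3, 2, 1], 0⟩ (by decide +kernel)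
  g16 g17 g18 g19

theorem g21 : Good φ x0 Sg [609, 295, 91, 186, 233, 16, 88] :=
  Good.br ok ⟨186, [7, 8, 4, 1, 2, 3, 7, 5, 4, 3, 2, 1], 0⟩ [⟨186, [7, 8, 4, 1, 2, 3, 7, 5, 4, 3, 2, 1], 0⟩] ⟨172, [5, 4, 1, 2, 3, 7, 6, 5, 4, 3, 2, 1], 0⟩ ⟨774, [7, 3, 4, 2, 3, 7, 8, 3, 4, 1, 2, 3, 7, 5, 4, 3, 2, 1], 0⟩ ⟨1395, [8, 7, 5, 3, 4, 2, 3, 7, 8, 2, 3, 4, 1, 2, 3, 7, 6, 5, 4, 3, 2, 1], 0⟩ ⟨2242, [7, 6, 4, 5, 3, 4, 2, 3, 7, 8, 3, 7, 4, 5, 3, 4, 1, 2, 3, 7, 6, 5, 4, 3, 2, 1], 0⟩ (by decide +kernel)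
  g5 g10 g15 g20

theorem g22 : Good φ x0 Sg [1035, 295, 91, 186, 233, 16, 88] :=
  Good.cl ok [⟨1035, [7, 3, 4, 2, 3, 7, 8, 5, 3, 4, 1, 2, 3, 7, 6, 5, 4, 3, 2, 1], 0⟩, ⟨91, [8, 7, 5, 4], 3⟩, ⟨186, [7, 8, 4, 1, 2, 3, 7, 5, 4, 3, 2, 1], 0⟩, ⟨1035, [7, 3, 4, 2, 3, 7, 8, 5, 3, 4, 1, 2, 3, 7, 6, 5, 4, 3, 2, 1], 0⟩] ⟨88, [], 5⟩ 248 (by decide +kernel) <|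
  Good.cl ok [⟨186, [7, 8, 4, 1, 2, 3, 7, 5, 4, 3, 2, 1], 0⟩, ⟨1035, [7, 3, 4, 2, 3, 7, 8, 5, 3, 4, 1, 2, 3, 7, 6, 5, 4, 3, 2, 1], 0⟩, ⟨91, [8, 7, 5, 4], 3⟩, ⟨88, [], 5⟩, ⟨1035, [7, 3, 4, 2, 3, 7, 8, 5, 3, 4, 1, 2, 3, 7, 6, 5, 4, 3, 2, 1], 0⟩] ⟨16, [], 3⟩ 710 (by decide +kernel) <|
  Good.cl ok [⟨1035, [7, 3, 4, 2, 3, 7, 8, 5, 3, 4, 1, 2, 3, 7, 6, 5, 4, 3, 2, 1], 0⟩, ⟨88, [], 5⟩, ⟨91, [8, 7, 5, 4], 3⟩, ⟨1035, [7, 3, 4, 2, 3, 7, 8, 5, 3, 4, 1, 2, 3, 7, 6, 5, 4, 3, 2, 1], 0⟩, ⟨186, [7, 8, 4, 1, 2, 3, 7, 5, 4, 3, 2, 1], 0⟩] ⟨16, [], 3⟩ 717 (by decide +kernel) <|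
  Good.dead ok ⟨16, [], 3⟩ [⟨16, [], 3⟩, ⟨248, [2, 3, 7, 8, 4, 3, 7, 5, 4, 3], 2⟩, ⟨710, [6, 5, 4, 3, 7, 8, 5, 4, 1, 2, 3, 7, 6, 5, 4, 3, 2, 1], 0⟩, ⟨717, [4, 5, 3, 4, 2, 3, 7, 8, 1, 2, 3, 7, 6, 5, 4, 3, 2, 1], 0⟩] [⟨157, [7, 8, 3, 7, 6, 5, 4, 3], 2⟩] (by decide +kernel) (by decide)

theorem g23 : Good φ x0 Sg [1524, 295, 91, 186, 233, 16, 88] :=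
  Good.cl ok [⟨1524, [5, 3, 4, 2, 3, 7, 8, 3, 4, 5, 2, 3, 4, 1, 2, 3, 7, 6, 5, 4, 3, 2, 1], 0⟩, ⟨91, [8, 7, 5, 4], 3⟩, ⟨186, [7, 8, 4, 1, 2, 3, 7, 5, 4, 3, 2, 1], 0⟩, ⟨1524, [5, 3, 4, 2, 3, 7, 8, 3, 4, 5, 2, 3, 4, 1, 2, 3, 7, 6, 5, 4, 3, 2, 1], 0⟩] ⟨88, [], 5⟩ 30 (by decide +kernel) <|
  Good.cl ok [⟨186, [7, 8, 4, 1, 2, 3, 7, 5, 4, 3, 2, 1], 0⟩, ⟨1524, [5, 3, 4, 2, 3, 7, 8, 3, 4, 5, 2, 3, 4, 1, 2, 3, 7, 6, 5, 4, 3, 2, 1], 0⟩, ⟨91, [8, 7, 5, 4], 3⟩, ⟨88, [], 5⟩, ⟨1524, [5, 3, 4, 2, 3, 7, 8, 3, 4, 5, 2, 3, 4, 1, 2, 3, 7, 6, 5, 4, 3, 2, 1], 0⟩] ⟨16, [], 3⟩ 342 (by decide +kernel) <|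
  Good.cl ok [⟨1524, [5, 3, 4, 2, 3, 7, 8, 3, 4, 5, 2, 3, 4, 1, 2, 3, 7, 6, 5, 4, 3, 2, 1], 0⟩, ⟨88, [], 5⟩, ⟨91, [8, 7, 5, 4], 3⟩, ⟨1524, [5, 3, 4, 2, 3, 7, 8, 3, 4, 5, 2, 3, 4, 1, 2, 3, 7, 6, 5, 4, 3, 2, 1], 0⟩, ⟨186, [7, 8, 4, 1, 2, 3, 7, 5, 4, 3, 2, 1], 0⟩] ⟨16, [], 3⟩ 792 (by decide +kernel) <|
  Good.dead ok ⟨16, [], 3⟩ [⟨16, [], 3⟩, ⟨30, [8, 7, 3], 2⟩, ⟨342, [8, 4, 5, 3, 4, 1, 2, 3, 7, 6, 5, 4, 3, 2, 1], 0⟩, ⟨792, [7, 3, 4, 2, 3, 7, 8, 5, 4, 3, 7, 6, 5, 4, 3], 2⟩] [⟨540, [8, 7, 4, 5, 2, 3, 4, 1, 2, 3, 7, 6, 5, 4, 3, 2, 1], 0⟩] (by decide +kernel) (by decide)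

theorem g24 : Good φ x0 Sg [1764, 295, 91, 186, 233, 16, 88] :=
  Good.cl ok [⟨186, [7, 8, 4, 1, 2, 3, 7, 5, 4, 3, 2, 1], 0⟩, ⟨1764, [8, 7, 4, 5, 3, 4, 2, 3, 7, 8, 5, 2, 3, 4, 1, 2, 3, 7, 6, 5, 4, 3, 2, 1], 0⟩, ⟨91, [8, 7, 5, 4], 3⟩, ⟨88, [], 5⟩, ⟨1764, [8, 7, 4, 5, 3, 4, 2, 3, 7, 8, 5, 2, 3, 4, 1, 2, 3, 7, 6, 5, 4, 3, 2, 1], 0⟩] ⟨16, [], 3⟩ 90 (by decide +kernel) <|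
  Good.cl ok [⟨1764, [8, 7, 4, 5, 3, 4, 2, 3, 7, 8, 5, 2, 3, 4, 1, 2, 3, 7, 6, 5, 4, 3, 2, 1], 0⟩, ⟨91, [8, 7, 5, 4], 3⟩, ⟨186, [7, 8, 4, 1, 2, 3, 7, 5, 4, 3, 2, 1], 0⟩, ⟨1764, [8, 7, 4, 5, 3, 4, 2, 3, 7, 8, 5, 2, 3, 4, 1, 2, 3, 7, 6, 5, 4, 3, 2, 1], 0⟩] ⟨88, [], 5⟩ 95 (by decide +kernel) <|
  Good.cl ok [⟨1764, [8, 7, 4, 5, 3, 4, 2, 3, 7, 8, 5, 2, 3, 4, 1, 2, 3, 7, 6, 5, 4, 3, 2, 1], 0⟩, ⟨88, [], 5⟩, ⟨91, [8, 7, 5, 4], 3⟩, ⟨1764, [8, 7, 4, 5, 3, 4, 2, 3, 7, 8, 5, 2, 3, 4, 1, 2, 3, 7, 6, 5, 4, 3, 2, 1], 0⟩, ⟨186, [7, 8, 4, 1, 2, 3, 7, 5, 4, 3, 2, 1], 0⟩] ⟨16, [], 3⟩ 1810 (by decide +kernel) <|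
  Good.dead ok ⟨16, [], 3⟩ [⟨16, [], 3⟩, ⟨90, [7, 6, 5, 4], 3⟩, ⟨95, [4, 3, 7, 5, 4, 3], 2⟩, ⟨1810, [8, 7, 6, 5, 3, 4, 2, 3, 7, 8, 4, 5, 3, 4, 1, 2, 3, 7, 6, 5, 4, 3, 2, 1], 0⟩] [⟨1881, [8, 2, 3, 7, 4, 5, 3, 4, 2, 3, 7, 8, 5, 4, 1, 2, 3, 7, 6, 5, 4, 3, 2, 1], 0⟩] (by decide +kernel) (by decide)

theorem g25 : Good φ x0 Sg [91, 186, 233, 16, 88] :=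
  Good.cl ok [⟨233, [7, 8, 3, 4, 1, 2, 3, 7, 5, 4, 3, 2, 1], 0⟩] ⟨16, [], 3⟩ 295 (by decide +kernel) <|
  Good.br ok ⟨295, [3, 7, 8, 3, 4, 1, 2, 3, 7, 5, 4, 3, 2, 1], 0⟩ [⟨295, [3, 7, 8, 3, 4, 1, 2, 3, 7, 5, 4, 3, 2, 1], 0⟩] ⟨609, [5, 4, 3, 7, 8, 7, 3, 4, 1, 2, 3, 7, 5, 4, 3, 2, 1], 0⟩ ⟨1035, [7, 3, 4, 2, 3, 7, 8, 5, 3, 4, 1, 2, 3, 7, 6, 5, 4, 3, 2, 1], 0⟩ ⟨1524, [5, 3, 4, 2, 3, 7, 8, 3, 4, 5, 2, 3, 4, 1, 2, 3, 7, 6, 5, 4, 3, 2, 1], 0⟩ ⟨1764, [8, 7, 4, 5, 3, 4, 2, 3, 7, 8, 5, 2, 3, 4, 1, 2, 3, 7, 6, 5, 4, 3, 2, 1], 0⟩ (by decide +kernel)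
  g21 g22 g23 g24

theorem g26 : Good φ x0 Sg [679, 186, 233, 16, 88] :=
  Good.cl ok [⟨186, [7, 8, 4, 1, 2, 3, 7, 5, 4, 3, 2, 1], 0⟩, ⟨679, [7, 8, 3, 7, 5, 2, 3, 4, 1, 2, 3, 7, 6, 5, 4, 3, 2, 1], 0⟩, ⟨233, [7, 8, 3, 4, 1, 2, 3, 7, 5, 4, 3, 2, 1], 0⟩, ⟨186, [7, 8, 4, 1, 2, 3, 7, 5, 4, 3, 2, 1], 0⟩] ⟨16, [], 3⟩ 156 (by decide +kernel) <|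
  Good.cl ok [⟨679, [7, 8, 3, 7, 5, 2, 3, 4, 1, 2, 3, 7, 6, 5, 4, 3, 2, 1], 0⟩, ⟨233, [7, 8, 3, 4, 1, 2, 3, 7, 5, 4, 3, 2, 1], 0⟩] ⟨16, [], 3⟩ 1412 (by decide +kernel) <|
  Good.cl ok [⟨186, [7, 8, 4, 1, 2, 3, 7, 5, 4, 3, 2, 1], 0⟩, ⟨16, [], 3⟩, ⟨679, [7, 8, 3, 7, 5, 2, 3, 4, 1, 2, 3, 7, 6, 5, 4, 3, 2, 1], 0⟩, ⟨186, [7, 8, 4, 1, 2, 3, 7, 5, 4, 3, 2, 1], 0⟩] ⟨233, [7, 8, 3, 4, 1, 2, 3, 7, 5, 4, 3, 2, 1], 0⟩ 1715 (by decide +kernel) <|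
  Good.dead ok ⟨16, [], 3⟩ [⟨16, [], 3⟩, ⟨156, [8, 4, 3, 7, 6, 5, 4, 3], 2⟩, ⟨1412, [7, 5, 3, 4, 2, 3, 7, 8, 4, 5, 3, 4, 1, 2, 3, 7, 6, 5, 4, 3, 2, 1], 0⟩, ⟨1715, [7, 5, 3, 4, 2, 3, 7, 8, 7, 4, 5, 2, 3, 4, 1, 2, 3, 7, 6, 5, 4, 3, 2, 1], 0⟩] [⟨91, [8, 7, 5, 4], 3⟩] (by decide +kernel) (by decide)

theorem g27 : Good φ x0 Sg [1579, 186, 233, 16, 88] :=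
  Good.cl ok [⟨186, [7, 8, 4, 1, 2, 3, 7, 5, 4, 3, 2, 1], 0⟩, ⟨16, [], 3⟩, ⟨1579, [3, 7, 4, 5, 3, 4, 2, 3, 7, 8, 2, 3, 4, 1, 2, 3, 7, 6, 5, 4, 3, 2, 1], 0⟩, ⟨186, [7, 8, 4, 1, 2, 3, 7, 5, 4, 3, 2, 1], 0⟩] ⟨233, [7, 8, 3, 4, 1, 2, 3, 7, 5, 4, 3, 2, 1], 0⟩ 156 (by decide +kernel) <|
  Good.cl ok [⟨186, [7, 8, 4, 1, 2, 3, 7, 5, 4, 3, 2, 1], 0⟩, ⟨1579, [3, 7, 4, 5, 3, 4, 2, 3, 7, 8, 2, 3, 4, 1, 2, 3, 7, 6, 5, 4, 3, 2, 1], 0⟩, ⟨233, [7, 8, 3, 4, 1, 2, 3, 7, 5, 4, 3, 2, 1], 0⟩, ⟨186, [7, 8, 4, 1, 2, 3, 7, 5, 4, 3, 2, 1], 0⟩] ⟨16, [], 3⟩ 1412 (by decide +kernel) <|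
  Good.cl ok [⟨1579, [3, 7, 4, 5, 3, 4, 2, 3, 7, 8, 2, 3, 4, 1, 2, 3, 7, 6, 5, 4, 3, 2, 1], 0⟩, ⟨233, [7, 8, 3, 4, 1, 2, 3, 7, 5, 4, 3, 2, 1], 0⟩] ⟨16, [], 3⟩ 1715 (by decide +kernel) <|
  Good.dead ok ⟨16, [], 3⟩ [⟨16, [], 3⟩, ⟨156, [8, 4, 3, 7, 6, 5, 4, 3], 2⟩, ⟨1412, [7, 5, 3, 4, 2, 3, 7, 8, 4, 5, 3, 4, 1, 2, 3, 7, 6, 5, 4, 3, 2, 1], 0⟩, ⟨1715, [7, 5, 3, 4, 2, 3, 7, 8, 7, 4, 5, 2, 3, 4, 1, 2, 3, 7, 6, 5, 4, 3, 2, 1], 0⟩] [⟨91, [8, 7, 5, 4], 3⟩] (by decide +kernel) (by decide)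

theorem g28 : Good φ x0 Sg [2294, 186, 233, 16, 88] :=
  Good.cl ok [⟨2294, [8, 2, 3, 7, 4, 5, 3, 4, 2, 3, 7, 8, 4, 5, 3, 4, 1, 2, 3, 7, 6, 5, 4, 3, 2, 1], 0⟩, ⟨233, [7, 8, 3, 4, 1, 2, 3, 7, 5, 4, 3, 2, 1], 0⟩] ⟨16, [], 3⟩ 156 (by decide +kernel) <|
  Good.cl ok [⟨186, [7, 8, 4, 1, 2, 3, 7, 5, 4, 3, 2, 1], 0⟩, ⟨16, [], 3⟩, ⟨2294, [8, 2, 3, 7, 4, 5, 3, 4, 2, 3, 7, 8, 4, 5, 3, 4, 1, 2, 3, 7, 6, 5, 4, 3, 2, 1], 0⟩, ⟨186, [7, 8, 4, 1, 2, 3, 7, 5, 4, 3, 2, 1], 0⟩] ⟨233, [7, 8, 3, 4, 1, 2, 3, 7, 5, 4, 3, 2, 1], 0⟩ 1412 (by decide +kernel) <|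
  Good.cl ok [⟨186, [7, 8, 4, 1, 2, 3, 7, 5, 4, 3, 2, 1], 0⟩, ⟨2294, [8, 2, 3, 7, 4, 5, 3, 4, 2, 3, 7, 8, 4, 5, 3, 4, 1, 2, 3, 7, 6, 5, 4, 3, 2, 1], 0⟩, ⟨233, [7, 8, 3, 4, 1, 2, 3, 7, 5, 4, 3, 2, 1], 0⟩, ⟨186, [7, 8, 4, 1, 2, 3, 7, 5, 4, 3, 2, 1], 0⟩] ⟨16, [], 3⟩ 1715 (by decide +kernel) <|
  Good.dead ok ⟨16, [], 3⟩ [⟨16, [], 3⟩, ⟨156, [8, 4, 3, 7, 6, 5, 4, 3], 2⟩, ⟨1412, [7, 5, 3, 4, 2, 3, 7, 8, 4, 5, 3, 4, 1, 2, 3, 7, 6, 5, 4, 3, 2, 1], 0⟩, ⟨1715, [7, 5, 3, 4, 2, 3, 7, 8, 7, 4, 5, 2, 3, 4, 1, 2, 3, 7, 6, 5, 4, 3, 2, 1], 0⟩] [⟨91, [8, 7, 5, 4], 3⟩] (by decide +kernel) (by decide)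

theorem g29 : Good φ x0 Sg [186, 233, 16, 88] :=
  Good.br ok ⟨233, [7, 8, 3, 4, 1, 2, 3, 7, 5, 4, 3, 2, 1], 0⟩ [⟨233, [7, 8, 3, 4, 1, 2, 3, 7, 5, 4, 3, 2, 1], 0⟩] ⟨91, [8, 7, 5, 4], 3⟩ ⟨679, [7, 8, 3, 7, 5, 2, 3, 4, 1, 2, 3, 7, 6, 5, 4, 3, 2, 1], 0⟩ ⟨1579, [3, 7, 4, 5, 3, 4, 2, 3, 7, 8, 2, 3, 4, 1, 2, 3, 7, 6, 5, 4, 3, 2, 1], 0⟩ ⟨2294, [8, 2, 3, 7, 4, 5, 3, 4, 2, 3, 7, 8, 4, 5, 3, 4, 1, 2, 3, 7, 6, 5, 4, 3, 2, 1], 0⟩ (by decide +kernel)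
  g25 g26 g27 g28

theorem g30 : Good φ x0 Sg [233, 16, 88] :=
  Good.br ok ⟨88, [], 5⟩ [⟨88, [], 5⟩] ⟨186, [7, 8, 4, 1, 2, 3, 7, 5, 4, 3, 2, 1], 0⟩ ⟨676, [7, 8, 3, 4, 5, 2, 3, 4, 1, 2, 3, 7, 6, 5, 4, 3, 2, 1], 0⟩ ⟨1060, [6, 5, 3, 4, 2, 3, 7, 8, 5, 4, 1, 2, 3, 7, 6, 5, 4, 3, 2, 1], 0⟩ ⟨1708, [6, 5, 3, 4, 2, 3, 7, 8, 3, 4, 5, 2, 3, 4, 1, 2, 3, 7, 6, 5, 4, 3, 2, 1], 0⟩ (by decide +kernel)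
  g29 (Good.sym ok (cat [⟨90, [7, 6, 5, 4], 3⟩, ⟨18, [7, 3], 2⟩]) (by decide +kernel) g29) (Good.sym ok (cat [⟨2757, [8, 2, 3, 7, 4, 5, 3, 4, 2, 3, 7, 8, 3, 7, 4, 5, 3, 4, 1, 2, 3, 7, 6, 5, 4, 3, 2, 1], 0⟩, ⟨18, [7, 3], 2⟩]) (by decide +kernel) g29) (Good.sym ok (cat [⟨2627, [8, 2, 3, 7, 4, 5, 3, 4, 2, 3, 7, 8, 3, 4, 5, 2, 3, 4, 1, 2, 3, 7, 6, 5, 4, 3, 2, 1], 0⟩, ⟨18, [7, 3], 2⟩]) (by decide +kernel) g29)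

theorem g31 : Good φ x0 Sg [16, 88] :=
  Good.br ok ⟨88, [], 5⟩ [⟨88, [], 5⟩] ⟨233, [7, 8, 3, 4, 1, 2, 3, 7, 5, 4, 3, 2, 1], 0⟩ ⟨541, [7, 8, 4, 5, 2, 3, 4, 1, 2, 3, 7, 6, 5, 4, 3, 2, 1], 0⟩ ⟨1227, [6, 5, 3, 4, 2, 3, 7, 8, 5, 3, 4, 1, 2, 3, 7, 6, 5, 4, 3, 2, 1], 0⟩ ⟨1538, [6, 5, 3, 4, 2, 3, 7, 8, 4, 5, 2, 3, 4, 1, 2, 3, 7, 6, 5, 4, 3, 2, 1], 0⟩ (by decide +kernel)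
  g30 (Good.sym ok (cat [⟨2758, [7, 8, 3, 7, 4, 5, 3, 4, 2, 3, 7, 8, 3, 7, 4, 5, 3, 4, 1, 2, 3, 7, 6, 5, 4, 3, 2, 1], 0⟩, ⟨16, [], 3⟩]) (by decide +kernel) g30) (Good.sym ok (cat [⟨2628, [7, 8, 3, 7, 4, 5, 3, 4, 2, 3, 7, 8, 3, 4, 5, 2, 3, 4, 1, 2, 3, 7, 6, 5, 4, 3, 2, 1], 0⟩, ⟨16, [], 3⟩]) (by decide +kernel) g30) (Good.sym ok (cat [⟨45, [6, 5, 4, 3], 2⟩, ⟨16, [], 3⟩]) (by decide +kernel) g30)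

end Tree

theorem good : Good φ x0 Sg [16, 88] := Tree.g31

end Cfsg.Agent.Fx.M22
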