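import Cfsg.Agent.Fx.B22a
import Cfsg.Agent.Fx.V22
import Cfsg.Agent.Fx.Tree22

/-!
The group with centraliser the double cover of the unitary group.
-/
set_option autoImplicit false
set_option maxRecDepth 100000
set_option Elab.async false

namespace Cfsg.Agent.Fx
open Cfsg.Agent.Spor Cfsg.Spor Subgroup

theorem wd_sbw {G : Type*} [Group G] (g : ℕ → G) (a0 : NP) (T : List NP) (w : List ℕ) :
    wd g (sbw a0 T w) = wd (fun j => wd g (nth a0 T j).w) w := by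
  induction w with
  | nil => rfl
  | cons j w ih =>
    show wd g (lapp _ (sbw a0 T w)) = _
    rw [wd_cons, wd_lapp, ih]

namespace M22

def kN : NP := ⟨59, [1, 0, 2, 1, 3, 2, 4, 3], 7⟩
def S' : List NP := [a0, kN, c0, ⟨16, [], 3⟩, ⟨40, [], 4⟩, ⟨88, [], 5⟩, ⟨154, [], 6⟩, ⟨43, [], 7⟩, ⟨92, [], 8⟩, sN]
def sp : List ℕ := [3, 2, 1, 3, 4, 5, 3, 7, 8, 3, 2, 1, 3, 4, 5, 3, 7, 8, 3, 2, 1, 3, 4, 5, 3, 7, 8, 3, 2, 1, 3, 4, 5, 3, 7, 8, 3, 2, 1, 3, 4, 5, 3, 7, 8, 3, 2, 1, 3, 4, 5, 3, 7, 8, 3, 2, 1, 3, 4, 5, 3, 7, 8, 3, 2, 1, 3, 4, 5, 3, 7, 8, 3, 2, 1, 3, 4, 5, 3, 7, 8, 3, 2, 1, 3, 4, 5, 3, 7, 8]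
def e71 : List ℕ := [0, 1, 2, 3, 4, 5, 7, 0, 1, 2, 3, 4, 5, 7, 0, 1, 2, 3, 4, 5, 7, 0, 1, 2, 3, 4, 5, 7, 0, 1, 2, 3, 4, 5, 7, 0, 1, 2, 3, 4, 5, 7, 0, 1, 2, 3, 4, 5, 7, 0, 1, 2, 3, 4, 5, 7, 0, 1, 2, 3, 4, 5, 7]
def e72 : List ℕ := [1, 2, 3, 4, 5, 6, 7, 1, 2, 3, 4, 5, 6, 7, 1, 2, 3, 4, 5, 6, 7, 1, 2, 3, 4, 5, 6, 7, 1, 2, 3, 4, 5, 6, 7, 1, 2, 3, 4, 5, 6, 7, 1, 2, 3, 4, 5, 6, 7, 1, 2, 3, 4, 5, 6, 7, 1, 2, 3, 4, 5, 6, 7]
def U1 : List ℕ := [7, 3, 4, 2, 3, 7, 5, 4, 1, 5, 3, 4, 2, 3, 7, 3, 4, 5, 2, 3, 4, 1, 5, 2, 3, 4, 2, 3, 2, 1, 0]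
def U2 : List ℕ := [7, 3, 4, 5, 6, 1, 5, 4, 3, 7, 1, 5, 6, 4, 5, 3, 4, 1, 5, 6, 4, 5, 3, 4, 1, 5, 3, 4, 3, 1, 0]
def U3 : List ℕ := [7, 1, 8, 4, 3, 7, 5, 1, 8, 4, 3, 7, 5, 1, 8, 4, 3, 7, 3, 4, 5, 1, 8, 4, 3, 7, 3, 4, 5, 1, 8, 4, 3, 7, 3, 4, 5, 1, 8, 4, 5, 3]
def zw : List ℕ := [2, 3, 7, 4, 3, 2, 3, 4, 7, 3]
noncomputable abbrev q : ℕ → Fi22 := tp φ x0 a0 S'

theorem okS' : lall E.ok (a0 :: S') = true := by decide +kernel

theorem q_lt (j : ℕ) : (nth a0 S' j).k < 3510 :=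
  (ok.ok ((lall_iff _ _).1 okS' _ (nth_mem a0 S' j))).1

theorem q_mem (j : ℕ) : q j ∈ CC x0 := by
  have := (ok.fx_iff (q_lt j)).1 ((lall_iff _ _).1
    (by decide +kernel : lall (fun p => E.fx E.xw p.k) (a0 :: S') = true) _ (nth_mem a0 S' j))
  rw [ok.xw] at this
  exact mem_CC.2 this.symm

theorem q_eq : ∀ j < 9, j ≠ 1 → q j = f j := fun j hj h1 => by
  have := (ok.ok ((lall_iff _ _).1 okS' _ (nth_mem a0 S' j))).2
  rw [q, tp, this]
  interval_cases j <;> first | exact mul_one _ | omega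

noncomputable def u (j : ℕ) : CC x0 := ⟨q j, q_mem j⟩

theorem u_one {w : List ℕ} (h : E.one (sbw a0 S' w) = true) : wd u w = 1 :=
  Subtype.ext ((wd_map (CC x0).subtype u w).trans ((ok.wd_tp okS' w).trans (ok.one h)))

variable {π : CC x0 →* U693.P} (b : Base x0 U693.P π)
include b

theorem loc {G : Type*} [Group G] {d : G} {ψ : CC x0 →* G} (c : Cen ψ ⟨x0, self_mem_CC x0⟩ d)
    (hn : ∃ g, g * d * g⁻¹ * d = d * (g * d * g⁻¹) ∧ g * d * g⁻¹ ≠ d) : Loc x0 d ψ := by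
  obtain ⟨ν, h1, F⟩ := vd.fus b ok vk1 vk2 vk3 vk4 vk5 vk6 vk7 vk8 vk9 (by rw [cardC]; decide)
  rcases F.fusion (h1 ▸ c) hn with h | ⟨h, -⟩
  · exact c.loc (h1 ▸ h)
  · cases h

theorem hom {G : Type*} [Group G] {d : G} {ψ : CC x0 →* G} (l : Loc x0 d ψ) :
    ∃ Φ : Fi22 →* G, Φ x0 = d := by
  obtain ⟨y, y1, y2, y3⟩ := l.exists_y b (φ := φ) (ok.isX (p := ⟨16, [], 3⟩) (by decide +kernel)).2
    (ok.isX (p := ⟨88, [], 5⟩) (by decide +kernel)).2
    (fun e => absurd (pt_inj ok.act (by norm_num) (by norm_num) e) (by decide))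
    ((ok.cm (a := ⟨16, [], 3⟩) (by decide +kernel) (by norm_num)).1 (by decide +kernel)) good
  have y4 : ∀ j < 10, 3 ≤ j → ψ (u j) * y = y * ψ (u j) := fun j hj h3 =>
    y3 (nth a0 S' j).k (by interval_cases j <;> decide) _
  have u0 : ψ (u 0) = d := by
    rw [← l.pd]; exact congrArg ψ (Subtype.ext (pt_zero ok.act))
  have cl : ∀ j, IsConj d (ψ (u j)) := fun j => (l.cls _).2 (ok.isConj (q_lt j))
  have sq : ∀ j, ψ (u j) * ψ (u j) = 1 := fun j => by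
    rw [← map_mul, ← map_one ψ]
    exact congrArg ψ (Subtype.ext (b.tr.sq _ (ok.isConj (q_lt j))))
  have tr := l.tr b (cl 4)
  have my : y ∈ {v | IsConj d v ∧ v * ψ (u 4) = ψ (u 4) * v} :=
    ⟨y1, (y4 4 (by norm_num) (by norm_num)).symm⟩
  have cm : ∀ s < 9, ∀ t < 9, s ≠ 1 → t ≠ 1 → tbit YC s t = true →
      ψ (u s) * ψ (u t) = ψ (u t) * ψ (u s) := fun s hs t ht s1 t1 e => l.comm_iff.2 (by
    show q s * q t = q t * q s
    rw [q_eq s hs s1, q_eq t ht t1]; exact cox.cm s t e)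
  have cy : ∀ w : List ℕ, (∀ j ∈ w, ψ (u j) * y = y * ψ (u j)) → ψ (wd u w) * y = y * ψ (wd u w) :=
    fun w h => mem_CC.1 (wd_map ψ u w ▸ wd_mem fun j hj => mem_CC.2 (h j hj))
  have br0 : ψ (u 0) * y * ψ (u 0) = y * ψ (u 0) * y :=
    (tr.three _ ⟨cl 0, cm 0 (by norm_num) 4 (by norm_num) (by norm_num) (by norm_num) (by decide)⟩
      _ my).resolve_left fun e => y2 (u0 ▸ e.symm)
  have br2 : ψ (u 2) * y * ψ (u 2) = y * ψ (u 2) * y := by
    refine (tr.three _ ⟨cl 2, cm 2 (by norm_num) 4 (by norm_num) (by norm_num) (by norm_num)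
      (by decide)⟩ _ my).resolve_left fun e => y2 ?_
    have h1 := u_one (w := 0 :: R4.map (· + 1)) (by decide +kernel)
    rw [wd_cons, mul_eq_one_iff_eq_inv] at h1
    have h2 := cy (R4.map (· + 1)) fun j hj => by
      obtain ⟨h3, h4⟩ := (by decide : ∀ j ∈ R4.map (· + 1), 2 ≤ j ∧ j < 10) j hj
      by_cases h5 : j = 2
      · rw [h5, e]
      · exact y4 j h4 (by omega)
    rw [← u0, h1, map_inv]
    exact (Commute.inv_left h2).symm
  let g : ℕ → G := fun j => if j = 1 then y else ψ (u j)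
  have g1 : g 1 = y := if_pos rfl
  have ge : ∀ j, j ≠ 1 → g j = ψ (u j) := fun j hj => if_neg hj
  have cz : Cox YC YB g := by
    refine Cox.of_lt (n := 9) (by decide) (by decide) (by decide) (by decide) (fun j => ?_)
      (fun s hs t ht e => ?_) fun s hs t ht e => ?_
    · by_cases h : j = 1
      · rw [h, g1]; exact tr.sq _ my
      · rw [ge j h]; exact sq j
    · by_cases h : s = 1 <;> by_cases h' : t = 1
      · rw [h, h']
      · rw [h, g1, ge t h']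
        exact (y4 t (by omega) ((by decide : ∀ t < 9, t ≠ 1 → tbit YC 1 t = true → 3 ≤ t)
          t ht h' (h ▸ e))).symm
      · rw [h', g1, ge s h]
        exact y4 s (by omega) ((by decide : ∀ t < 9, t ≠ 1 → tbit YC t 1 = true → 3 ≤ t)
          s hs h (h' ▸ e))
      · rw [ge s h, ge t h']; exact cm s hs t ht h h' e
    · by_cases h : s = 1 <;> by_cases h' : t = 1
      · rw [h, h']
      · rcases (by decide : ∀ t < 9, tbit YB 1 t = true → t = 0 ∨ t = 2) t ht (h ▸ e) with rfl | rfl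
        · rw [h, g1, ge 0 h', br0]
        · rw [h, g1, ge 2 h', br2]
      · rcases (by decide : ∀ t < 9, tbit YB t 1 = true → t = 0 ∨ t = 2) s hs (h' ▸ e) with rfl | rfl
        · rw [h', g1, ge 0 h, br0]
        · rw [h', g1, ge 2 h, br2]
      · rw [ge s h, ge t h', ← map_mul, ← map_mul, ← map_mul, ← map_mul]
        refine congrArg ψ (Subtype.ext ?_)
        show q s * q t * q s = q t * q s * q t
        rw [q_eq s hs h, q_eq t ht h']; exact cox.br s t e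
  have hw : ∀ w : List ℕ, (∀ j ∈ w, j ≠ 1) → wd g w = ψ (wd u w) := fun w h => by
    rw [wd_congr fun j hj => ge j (h j hj), ← wd_map]
  have w1 : ∀ j, wd g [j] = g j := fun j => mul_one _
  have hk : wd g kN.w = ψ (u 1) := by
    have k0 := cz.comm (u := kN.w) (v := [0]) (bits := 68719214592) (by decide +kernel)
    have k4 := cz.comm (u := kN.w) (v := [4]) (bits := 68719214592) (by decide +kernel)
    have ky := cz.comm (u := lapp [0] (lapp kN.w zw)) (v := [1]) (bits := 270215977373794304)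
      (by decide +kernel)
    have kb := cz.eq (u := lapp kN.w (lapp [1] kN.w)) (v := lapp [1] (lapp kN.w [1]))
      (bits := 13510761680863232) (by decide +kernel)
    have kc : IsConj d (wd g kN.w) := by
      rw [NP.w, wd_cw cz.sq, w1, ge _ (by decide)]
      exact (cl _).trans (isConj_iff.2 ⟨_, rfl⟩)
    simp only [wd_lapp, w1, g1, ge 0 (by norm_num), ge 4 (by norm_num), hw zw (by decide), u0,
      ← mul_assoc] at k0 k4 ky kb
    generalize wd g kN.w = κ at *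
    have h1 := u_one (w := lapp (0 :: 1 :: zw) [9, 7, 4]) (by decide +kernel)
    rw [wd_lapp, mul_eq_one_iff_eq_inv] at h1
    have h2 := (Commute.inv_left (cy [9, 7, 4] fun j hj => y4 j
      ((by decide : ∀ j ∈ [9, 7, 4], j < 10) j hj) ((by decide : ∀ j ∈ [9, 7, 4], 3 ≤ j) j hj))).eq
    rw [← map_inv, ← h1, wd_cons, wd_cons, map_mul, map_mul, u0] at h2
    have m1 : ψ (u 1) ∈ {v | IsConj d v ∧ v * ψ (u 4) = ψ (u 4) * v} :=
      ⟨cl 1, l.comm_iff.2 ((ok.cm (a := kN) (by decide +kernel) (q_lt 4)).1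
        (by decide +kernel))⟩
    by_contra hne
    have h3 : κ * ψ (u 1) = d * κ * ψ (wd u zw) * (d * (ψ (u 1) * ψ (wd u zw)))⁻¹ := by
      calc κ * ψ (u 1) = κ * (d * ψ (u 1) * d⁻¹) := by rw [← l.cm, mul_inv_cancel_right]
        _ = d * κ * ψ (u 1) * d⁻¹ := by rw [← k0]; group
        _ = d * κ * (ψ (u 1))⁻¹ * d⁻¹ := by rw [inv_eq_of_mul_eq_one_right (sq 1)]
        _ = _ := by group
    have h4 : κ * ψ (u 1) * y = y * (κ * ψ (u 1)) := by
      rw [h3]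
      exact (Commute.mul_left (show Commute _ y from ky.trans (by simp only [mul_assoc]))
        (Commute.inv_left h2)).eq
    have h5 := tr.eq_of_comm_braid ⟨kc, k4⟩ my (tr.k2 ⟨kc, k4⟩ m1 my hne h4).1 kb
    exact y2 (h5 ▸ k0)
  have hU : ∀ w : List ℕ, (∀ j ∈ w, j < 9) → E.one (sbw a0 S' w) = true →
      wd g (sbw a0 S' w) = 1 := fun w h1 h2 => by
    rw [wd_sbw, ← map_one ψ, ← u_one h2, wd_map]
    refine wd_congr fun j hj => ?_
    have := h1 j hj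
    interval_cases j
    exacts [(w1 0).trans (ge 0 (by norm_num)), hk, (w1 2).trans (ge 2 (by norm_num)),
      (w1 3).trans (ge 3 (by norm_num)), (w1 4).trans (ge 4 (by norm_num)),
      (w1 5).trans (ge 5 (by norm_num)), (w1 6).trans (ge 6 (by norm_num)),
      (w1 7).trans (ge 7 (by norm_num)), (w1 8).trans (ge 8 (by norm_num))]
  have hR : ∀ c R U : List ℕ, ∀ bits, (∀ j ∈ U, j < 9) → E.one (sbw a0 S' U) = true →
      brun YC YB (lapp (cw c R) (rva (sbw a0 S' U) [])) bits [] = true → wd g R = 1 :=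
    fun c R U bits h1 h2 h3 => by
      have := (cz.eq h3).trans (hU U h1 h2)
      rw [wd_cw cz.sq] at this
      exact conj_eq_one_iff.1 this
  obtain ⟨Φ, hΦ⟩ := Fi22G.hom (cz.pres (SP := [sp, e71, e72]) (by decide +kernel) (by
    simp only [List.mem_cons, List.not_mem_nil, or_false, forall_eq_or_imp, forall_eq]
    exact ⟨hR [0, 1, 0, 3, 7, 2] sp U3 1766846867009267610368398776441393595647681797373034990313371821867565568 (by decide) (by decide +kernel) (by decide +kernel),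
      hR [] e71 U1 5575186299632160918853216014025162596810752 (by decide) (by decide +kernel) (by decide +kernel),
      hR [0, 1, 0] e72 U2 1532495523695009911085851427135604731992281533558816776 (by decide) (by decide +kernel) (by decide +kernel)⟩))
  exact ⟨Φ, (hΦ 0 (by norm_num)).trans ((ge 0 (by norm_num)).trans u0)⟩

omit b in
theorem main {G : Type*} [Group G] [Finite G] {d : G} (hd : orderOf d = 2)
    (hq : commutator (CC d) = ⊤) [((zpowers d).subgroupOf (CC d)).Normal]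
    (e : (CC d) ⧸ (zpowers d).subgroupOf (CC d) ≃* U693.P)
    (hn : ∃ g, g * d * g⁻¹ * d = d * (g * d * g⁻¹) ∧ g * d * g⁻¹ ≠ d) : Nonempty (G ≃* Fi22) := by
  obtain ⟨π, b, hp⟩ := base
  obtain ⟨ψ, c⟩ := reduce (ident1 b hp) hd hq e
  have l := loc b c hn
  obtain ⟨Φ, hΦ⟩ := hom b l
  exact finish b (base2 b) l Φ hΦ

end M22

end Cfsg.Agent.Fx
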