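import Cfsg.Agent.Fx.T23
import Cfsg.Agent.Fx.Loc

set_option autoImplicit false
set_option maxRecDepth 100000
set_option Elab.async false

namespace Cfsg.Agent.Fx.M23

def Sg : List ℕ := [11589, 8006, 8005, 8003, 8002, 8001, 8004, 8007]

namespace Tree

theorem g1 : Good φ x0 Sg [4142, 626, 3113, 805, 111, 11589, 8005] :=
  Good.cl ok [⟨805, [3, 4, 2, 3, 7, 5, 4, 3, 2, 1], 0⟩, ⟨3113, [5, 4, 0, 1, 2, 3, 7, 8, 3, 4, 2, 3, 7, 6, 5, 4, 3, 2], 1⟩, ⟨4142, [3, 7, 8, 2, 3, 7, 4, 3, 2], 1⟩, ⟨11589, [], 0⟩, ⟨805, [3, 4, 2, 3, 7, 5, 4, 3, 2, 1], 0⟩, ⟨111, [3, 4, 2, 3, 7, 8, 5, 4, 3, 7, 6, 5, 4, 3], 2⟩, ⟨4142, [3, 7, 8, 2, 3, 7, 4, 3, 2], 1⟩, ⟨3113, [5, 4,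 0, 1, 2, 3, 7, 8, 3, 4, 2, 3, 7, 6, 5, 4, 3, 2], 1⟩] ⟨11589, [], 0⟩ 53 (by decide +kernel) <|
  Good.cl ok [⟨4142, [3, 7, 8, 2, 3, 7, 4, 3, 2], 1⟩, ⟨11589, [], 0⟩, ⟨3113, [5, 4, 0, 1, 2, 3, 7, 8, 3, 4, 2, 3, 7, 6, 5, 4, 3, 2], 1⟩, ⟨4142, [3, 7, 8, 2, 3, 7, 4, 3, 2], 1⟩, ⟨805, [3, 4, 2, 3, 7, 5, 4, 3, 2, 1], 0⟩, ⟨3113, [5, 4, 0, 1, 2, 3, 7, 8, 3, 4, 2, 3, 7, 6, 5, 4, 3, 2], 1⟩, ⟨111, [3, 4, 2, 3, 7, 8, 5, 4, 3, 7, 6, 5, 4, 3], 2⟩, ⟨4142, [3, 7, 8, 2, 3, 7, 4, 3, 2], 1⟩] ⟨11589, [], 0⟩ 175 (by decide +kernel) <|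
  Good.cl ok [⟨4142, [3, 7, 8, 2, 3, 7, 4, 3, 2], 1⟩, ⟨805, [3, 4, 2, 3, 7, 5, 4, 3, 2, 1], 0⟩, ⟨11589, [], 0⟩, ⟨3113, [5, 4, 0, 1, 2, 3, 7, 8, 3, 4, 2, 3, 7, 6, 5, 4, 3, 2], 1⟩, ⟨4142, [3, 7, 8, 2, 3, 7, 4, 3, 2], 1⟩] ⟨111, [3, 4, 2, 3, 7, 8, 5, 4, 3, 7, 6, 5, 4, 3], 2⟩ 727 (by decide +kernel) <|
  Good.cl ok [⟨3113, [5, 4, 0, 1, 2, 3, 7, 8, 3, 4, 2, 3, 7, 6, 5, 4, 3, 2], 1⟩, ⟨4142, [3, 7, 8, 2, 3, 7, 4, 3, 2], 1⟩, ⟨11589, [], 0⟩, ⟨3113, [5, 4, 0, 1, 2, 3, 7, 8, 3, 4, 2, 3, 7, 6, 5, 4, 3, 2], 1⟩, ⟨805, [3, 4, 2, 3, 7, 5, 4, 3, 2, 1], 0⟩, ⟨4142, [3, 7, 8, 2, 3, 7, 4, 3, 2], 1⟩] ⟨111, [3, 4, 2, 3, 7, 8, 5, 4, 3, 7, 6, 5, 4, 3], 2⟩ 8004 (by decide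 +kernel) <|
  Good.dead ok ⟨11589, [], 0⟩ [⟨11589, [], 0⟩, ⟨8005, [], 2⟩, ⟨53, [1, 2, 3, 7, 4, 5, 3, 4, 2, 3, 7, 6, 5, 4, 3, 2], 1⟩, ⟨175, [3, 7, 4, 5, 3, 4, 1, 2, 3, 7, 6, 5, 4, 3, 2, 1], 0⟩, ⟨727, [3, 4, 5, 2, 3, 4, 1, 2, 3, 7, 6, 5, 4, 3, 2, 1], 0⟩, ⟨8004, [], 7⟩] [] (by decide +kernel) (by decide)

theorem g2 : Good φ x0 Sg [4141, 498, 899, 5353, 626, 3113, 805, 111, 11589, 8005] :=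
  Good.cl ok [⟨498, [3, 7, 8, 4, 3, 7, 6, 5, 4, 3], 2⟩, ⟨5353, [3, 4, 2, 3, 7, 8, 2, 3, 4, 1, 2, 3, 7, 6, 5, 4, 3, 2, 1], 0⟩, ⟨805, [3, 4, 2, 3, 7, 5, 4, 3, 2, 1], 0⟩, ⟨111, [3, 4, 2, 3, 7, 8, 5, 4, 3, 7, 6, 5, 4, 3], 2⟩, ⟨498, [3, 7, 8, 4, 3, 7, 6, 5, 4, 3], 2⟩] ⟨8005, [], 2⟩ 4136 (by decide +kernel) <|
  Good.cl ok [⟨111, [3, 4, 2, 3, 7, 8, 5, 4, 3, 7, 6, 5, 4, 3], 2⟩, ⟨4141, [4, 3, 7, 8, 2, 3, 7, 5, 4, 3, 2], 1⟩, ⟨3113, [5, 4, 0, 1, 2, 3, 7, 8, 3, 4, 2, 3, 7, 6, 5, 4, 3, 2], 1⟩] ⟨11589, [], 0⟩ 8004 (by decide +kernel) <|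
  Good.cl ok [⟨805, [3, 4, 2, 3, 7, 5, 4, 3, 2, 1], 0⟩, ⟨498, [3, 7, 8, 4, 3, 7, 6, 5, 4, 3], 2⟩, ⟨5353, [3, 4, 2, 3, 7, 8, 2, 3, 4, 1, 2, 3, 7, 6, 5, 4, 3, 2, 1], 0⟩, ⟨11589, [], 0⟩, ⟨805, [3, 4, 2, 3, 7, 5, 4, 3, 2, 1], 0⟩, ⟨4141, [4, 3, 7, 8, 2, 3, 7, 5, 4, 3, 2], 1⟩, ⟨498, [3, 7, 8, 4, 3, 7, 6, 5, 4, 3], 2⟩] ⟨8005, [], 2⟩ 8003 (by decide +kernel) <|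
  Good.cl ok [⟨5353, [3, 4, 2, 3, 7, 8, 2, 3, 4, 1, 2, 3, 7, 6, 5, 4, 3, 2, 1], 0⟩, ⟨4141, [4, 3, 7, 8, 2, 3, 7, 5, 4, 3, 2], 1⟩, ⟨498, [3, 7, 8, 4, 3, 7, 6, 5, 4, 3], 2⟩, ⟨3113, [5, 4, 0, 1, 2, 3, 7, 8, 3, 4, 2, 3, 7, 6, 5, 4, 3, 2], 1⟩, ⟨805, [3, 4, 2, 3, 7, 5, 4, 3, 2, 1], 0⟩, ⟨111, [3, 4, 2, 3, 7, 8, 5, 4, 3, 7, 6, 5, 4, 3], 2⟩, ⟨498, [3, 7, 8, 4, 3, 7, 6, 5, 4, 3], 2⟩] ⟨8005, [], 2⟩ 6524 (by decide +kernel) <|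
  Good.cl ok [⟨498, [3, 7, 8, 4, 3, 7, 6, 5, 4, 3], 2⟩, ⟨5353, [3, 4, 2, 3, 7, 8, 2, 3, 4, 1, 2, 3, 7, 6, 5, 4, 3, 2, 1], 0⟩, ⟨4141, [4, 3, 7, 8, 2, 3, 7, 5, 4, 3, 2], 1⟩, ⟨8005, [], 2⟩, ⟨498, [3, 7, 8, 4, 3, 7, 6, 5, 4, 3], 2⟩, ⟨3113, [5, 4, 0, 1, 2, 3, 7, 8, 3, 4, 2, 3, 7, 6, 5, 4, 3, 2], 1⟩, ⟨805, [3, 4, 2, 3, 7, 5, 4, 3, 2, 1], 0⟩] ⟨11589, [], 0⟩ 8000 (by decide +kernel) <|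
  Good.cl ok [⟨4141, [4, 3, 7, 8, 2, 3, 7, 5, 4, 3, 2], 1⟩, ⟨498, [3, 7, 8, 4, 3, 7, 6, 5, 4, 3], 2⟩, ⟨5353, [3, 4, 2, 3, 7, 8, 2, 3, 4, 1, 2, 3, 7, 6, 5, 4, 3, 2, 1], 0⟩, ⟨805, [3, 4, 2, 3, 7, 5, 4, 3, 2, 1], 0⟩, ⟨4141, [4, 3, 7, 8, 2, 3, 7, 5, 4, 3, 2], 1⟩, ⟨498, [3, 7, 8, 4, 3, 7, 6, 5, 4, 3], 2⟩] ⟨8005, [], 2⟩ 4233 (by decide +kernel) <|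
  Good.sym ok [4, 3, 7, 2, 3, 4, 5, 6] (by decide +kernel) Good.refl

theorem g3 : Good φ x0 Sg [4288, 498, 899, 5353, 626, 3113, 805, 111, 11589, 8005] :=
  Good.cl ok [⟨899, [5, 4, 3, 7, 6, 5, 4, 3], 2⟩, ⟨4288, [4, 1, 2, 3, 7, 8, 7, 2, 3, 4, 1, 2, 3, 7, 6, 5, 4, 3, 2, 1], 0⟩, ⟨805, [3, 4, 2, 3, 7, 5, 4, 3, 2, 1], 0⟩] ⟨11589, [], 0⟩ 1973 (by decide +kernel) <|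
  Good.cl ok [⟨498, [3, 7, 8, 4, 3, 7, 6, 5, 4, 3], 2⟩, ⟨805, [3, 4, 2, 3, 7, 5, 4, 3, 2, 1], 0⟩, ⟨8005, [], 2⟩, ⟨498, [3, 7, 8, 4, 3, 7, 6, 5, 4, 3], 2⟩, ⟨4288, [4, 1, 2, 3, 7, 8, 7, 2, 3, 4, 1, 2, 3, 7, 6, 5, 4, 3, 2, 1], 0⟩] ⟨111, [3, 4, 2, 3, 7, 8, 5, 4, 3, 7, 6, 5, 4, 3], 2⟩ 5325 (by decide +kernel) <|
  Good.cl ok [⟨5353, [3, 4, 2, 3, 7, 8, 2, 3, 4, 1, 2, 3, 7, 6, 5, 4, 3, 2, 1], 0⟩, ⟨4288, [4, 1, 2, 3, 7, 8, 7, 2, 3, 4, 1, 2, 3, 7, 6, 5, 4, 3, 2, 1], 0⟩, ⟨498, [3, 7, 8, 4, 3, 7, 6, 5, 4, 3], 2⟩, ⟨111, [3, 4, 2, 3, 7, 8, 5, 4, 3, 7, 6, 5, 4, 3], 2⟩, ⟨8005, [], 2⟩, ⟨498, [3, 7, 8, 4, 3, 7, 6, 5, 4, 3], 2⟩, ⟨805, [3, 4, 2, 3, 7, 5, 4, 3, 2,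 1], 0⟩] ⟨11589, [], 0⟩ 6523 (by decide +kernel) <|
  Good.cl ok [⟨805, [3, 4, 2, 3, 7, 5, 4, 3, 2, 1], 0⟩, ⟨498, [3, 7, 8, 4, 3, 7, 6, 5, 4, 3], 2⟩, ⟨111, [3, 4, 2, 3, 7, 8, 5, 4, 3, 7, 6, 5, 4, 3], 2⟩, ⟨8005, [], 2⟩, ⟨498, [3, 7, 8, 4, 3, 7, 6, 5, 4, 3], 2⟩, ⟨805, [3, 4, 2, 3, 7, 5, 4, 3, 2, 1], 0⟩, ⟨3113, [5, 4, 0, 1, 2, 3, 7, 8, 3, 4, 2, 3, 7, 6, 5, 4, 3, 2], 1⟩] ⟨11589, [], 0⟩ 8305 (by decide +kernel) <|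
  Good.dead ok ⟨11589, [], 0⟩ [⟨11589, [], 0⟩, ⟨8005, [], 2⟩, ⟨111, [3, 4, 2, 3, 7, 8, 5, 4, 3, 7, 6, 5, 4, 3], 2⟩, ⟨1973, [7, 8, 4, 1, 2, 3, 7, 6, 5, 4, 3, 2, 1], 0⟩, ⟨5325, [6, 4, 5, 3, 4, 2, 3, 7, 8, 5, 4, 1, 2, 3, 7, 6, 5, 4, 3, 2, 1], 0⟩, ⟨6523, [6], 5⟩, ⟨8305, [6, 4, 5, 3, 4, 2, 3, 7, 8, 3, 4, 5, 2, 3, 4, 1, 2, 3, 7, 6, 5, 4, 3, 2, 1], 0⟩] [] (by decide +kernel) (by decide)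

theorem g4 : Good φ x0 Sg [6537, 498, 899, 5353, 626, 3113, 805, 111, 11589, 8005] :=
  Good.cl ok [⟨498, [3, 7, 8, 4, 3, 7, 6, 5, 4, 3], 2⟩, ⟨805, [3, 4, 2, 3, 7, 5, 4, 3, 2, 1], 0⟩, ⟨6537, [8], 7⟩, ⟨8005, [], 2⟩, ⟨498, [3, 7, 8, 4, 3, 7, 6, 5, 4, 3], 2⟩, ⟨805, [3, 4, 2, 3, 7, 5, 4, 3, 2, 1], 0⟩] ⟨11589, [], 0⟩ 1019 (by decide +kernel) <|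
  Good.dead ok ⟨11589, [], 0⟩ [⟨11589, [], 0⟩, ⟨8005, [], 2⟩, ⟨1019, [8, 3, 4, 5, 2, 3, 4, 1, 2, 3, 7, 6, 5, 4, 3, 2, 1], 0⟩, ⟨6537, [8], 7⟩] [⟨77, [7, 3, 4, 2, 3, 7, 8, 5, 4, 3, 7, 6, 5, 4, 3], 2⟩, ⟨257, [8, 3, 7, 4, 5, 3, 4, 1, 2, 3, 7, 6, 5, 4, 3, 2, 1], 0⟩] (by decide +kernel) (by decide)

theorem g5 : Good φ x0 Sg [14478, 498, 899, 5353, 626, 3113, 805, 111, 11589, 8005] :=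
  Good.cl ok [⟨14478, [8, 5, 4, 3, 7, 5, 2, 3, 4, 1, 2, 3, 7, 8, 5, 2, 3, 4, 1, 2, 3, 7, 6, 5, 4, 3, 2, 1], 0⟩, ⟨899, [5, 4, 3, 7, 6, 5, 4, 3], 2⟩, ⟨111, [3, 4, 2, 3, 7, 8, 5, 4, 3, 7, 6, 5, 4, 3], 2⟩, ⟨498, [3, 7, 8, 4, 3, 7, 6, 5, 4, 3], 2⟩, ⟨14478, [8, 5, 4, 3, 7, 5, 2, 3, 4, 1, 2, 3, 7, 8, 5, 2, 3, 4, 1, 2, 3, 7, 6, 5, 4, 3, 2, 1], 0⟩] ⟨11589, [], 0⟩ 536 (by decide +kernel) <|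
  Good.cl ok [⟨14478, [8, 5, 4, 3, 7, 5, 2, 3, 4, 1, 2, 3, 7, 8, 5, 2, 3, 4, 1, 2, 3, 7, 6, 5, 4, 3, 2, 1], 0⟩, ⟨805, [3, 4, 2, 3, 7, 5, 4, 3, 2, 1], 0⟩, ⟨498, [3, 7, 8, 4, 3, 7, 6, 5, 4, 3], 2⟩, ⟨14478, [8, 5, 4, 3, 7, 5, 2, 3, 4, 1, 2, 3, 7, 8, 5, 2, 3, 4, 1, 2, 3, 7, 6, 5, 4, 3, 2, 1], 0⟩, ⟨5353, [3, 4, 2, 3, 7, 8, 2, 3, 4, 1, 2, 3, 7, 6, 5, 4, 3, 2, 1], 0⟩] ⟨111, [3, 4, 2, 3, 7, 8, 5, 4, 3, 7, 6, 5, 4, 3], 2⟩ 5286 (by decide +kernel) <|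
  Good.dead ok ⟨11589, [], 0⟩ [⟨11589, [], 0⟩, ⟨111, [3, 4, 2, 3, 7, 8, 5, 4, 3, 7, 6, 5, 4, 3], 2⟩, ⟨536, [7, 8, 7, 4, 5, 3, 4, 1, 2, 3, 7, 6, 5, 4, 3, 2, 1], 0⟩, ⟨5286, [8, 7], 3⟩] [⟨1021, [7, 8, 4, 5, 2, 3, 4, 1, 2, 3, 7, 6, 5, 4, 3, 2, 1], 0⟩, ⟨5261, [7, 3], 2⟩] (by decide +kernel) (by decide)

theorem g6 : Good φ x0 Sg [498, 899, 5353, 626, 3113, 805, 111, 11589, 8005] :=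
  Good.br ok ⟨8005, [], 2⟩ [⟨8005, [], 2⟩, ⟨3113, [5, 4, 0, 1, 2, 3, 7, 8, 3, 4, 2, 3, 7, 6, 5, 4, 3, 2], 1⟩] ⟨4141, [4, 3, 7, 8, 2, 3, 7, 5, 4, 3, 2], 1⟩ ⟨4288, [4, 1, 2, 3, 7, 8, 7, 2, 3, 4, 1, 2, 3, 7, 6, 5, 4, 3, 2, 1], 0⟩ ⟨6537, [8], 7⟩ ⟨14478, [8, 5, 4, 3, 7, 5, 2, 3, 4, 1, 2, 3, 7, 8, 5, 2, 3, 4, 1, 2, 3, 7, 6, 5, 4, 3, 2, 1], 0⟩ (by decide +kernel)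
  g2 g3 g4 g5

theorem g7 : Good φ x0 Sg [3652, 3377, 899, 5353, 626, 3113, 805, 111, 11589, 8005] :=
  Good.cl ok [⟨5353, [3, 4, 2, 3, 7, 8, 2, 3, 4, 1, 2, 3, 7, 6, 5, 4, 3, 2, 1], 0⟩, ⟨3652, [6, 5, 3, 4, 2, 3, 7, 8, 7, 4, 5, 3, 4, 1, 2, 3, 7, 6, 5, 4, 3, 2, 1], 0⟩, ⟨3377, [3, 4, 2, 3, 7, 8, 7, 5, 2, 3, 4, 1, 2, 3, 7, 6, 5, 4, 3, 2, 1], 0⟩] ⟨899, [5, 4, 3, 7, 6, 5, 4, 3], 2⟩ 710 (by decide +kernel) <|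
  Good.cl ok [⟨805, [3, 4, 2, 3, 7, 5, 4, 3, 2, 1], 0⟩, ⟨3652, [6, 5, 3, 4, 2, 3, 7, 8, 7, 4, 5, 3, 4, 1, 2, 3, 7, 6, 5, 4, 3, 2, 1], 0⟩, ⟨805, [3, 4, 2, 3, 7, 5, 4, 3, 2, 1], 0⟩, ⟨3113, [5, 4, 0, 1, 2, 3, 7, 8, 3, 4, 2, 3, 7, 6, 5, 4, 3, 2], 1⟩, ⟨3377, [3, 4, 2, 3, 7, 8, 7, 5, 2, 3, 4, 1, 2, 3, 7, 6, 5, 4, 3, 2, 1], 0⟩] ⟨8005, [], 2⟩ 1881 (by decide +kernel) <|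
  Good.cl ok [⟨3377, [3, 4, 2, 3, 7, 8, 7, 5, 2, 3, 4, 1, 2, 3, 7, 6, 5, 4, 3, 2, 1], 0⟩, ⟨3652, [6, 5, 3, 4, 2, 3, 7, 8, 7, 4, 5, 3, 4, 1, 2, 3, 7, 6, 5, 4, 3, 2, 1], 0⟩, ⟨5353, [3, 4, 2, 3, 7, 8, 2, 3, 4, 1, 2, 3, 7, 6, 5, 4, 3, 2, 1], 0⟩, ⟨111, [3, 4, 2, 3, 7, 8, 5, 4, 3, 7, 6, 5, 4, 3], 2⟩, ⟨899, [5, 4, 3, 7, 6, 5, 4, 3], 2⟩, ⟨3652, [6, 5, 3, 4, 2, 3, 7, 8, 7, 4, 5, 3, 4, 1, 2, 3, 7, 6, 5, 4, 3, 2, 1], 0⟩] ⟨8005, [], 2⟩ 2091 (by decide +kernel) <|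
  Good.cl ok [⟨3652, [6, 5, 3, 4, 2, 3, 7, 8, 7, 4, 5, 3, 4, 1, 2, 3, 7, 6, 5, 4, 3, 2, 1], 0⟩, ⟨3377, [3, 4, 2, 3, 7, 8, 7, 5, 2, 3, 4, 1, 2, 3, 7, 6, 5, 4, 3, 2, 1], 0⟩, ⟨3113, [5, 4, 0, 1, 2, 3, 7, 8, 3, 4, 2, 3, 7, 6, 5, 4, 3, 2], 1⟩, ⟨8005, [], 2⟩, ⟨3377, [3, 4, 2, 3, 7, 8, 7, 5, 2, 3, 4, 1, 2, 3, 7, 6, 5, 4, 3, 2, 1], 0⟩, ⟨805, [3, 4, 2, 3, 7, 5, 4, 3, 2, 1], 0⟩, ⟨3113, [5, 4, 0, 1, 2, 3, 7, 8, 3, 4, 2, 3, 7, 6, 5, 4, 3, 2], 1⟩] ⟨11589, [], 0⟩ 13668 (by decide +kernel) <|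
  Good.dead ok ⟨11589, [], 0⟩ [⟨11589, [], 0⟩, ⟨8005, [], 2⟩, ⟨111, [3, 4, 2, 3, 7, 8, 5, 4, 3, 7, 6, 5, 4, 3], 2⟩, ⟨710, [7, 8, 4, 3, 7, 6, 5, 4, 3], 2⟩, ⟨1881, [7, 8, 3, 7, 2, 3, 4, 1, 2, 3, 7, 6, 5, 4, 3, 2, 1], 0⟩, ⟨2091, [5, 3, 4, 2, 3, 7, 8, 3, 7, 4, 5, 3, 4, 1, 2, 3, 7, 6, 5, 4, 3, 2, 1], 0⟩, ⟨13668, [4, 3, 7, 8, 2, 3, 7, 4, 5, 3, 4, 2, 3, 7, 8, 3, 4, 5, 2, 3, 4, 1, 2, 3, 7, 6, 5, 4, 3, 2, 1], 0⟩] [] (by decide +kernel) (by decide)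

theorem g8 : Good φ x0 Sg [5781, 3377, 899, 5353, 626, 3113, 805, 111, 11589, 8005] :=
  Good.cl ok [⟨3113, [5, 4, 0, 1, 2, 3, 7, 8, 3, 4, 2, 3, 7, 6, 5, 4, 3, 2], 1⟩, ⟨3377, [3, 4, 2, 3, 7, 8, 7, 5, 2, 3, 4, 1, 2, 3, 7, 6, 5, 4, 3, 2, 1], 0⟩, ⟨5781, [6, 5, 3, 4, 2, 3, 7, 8, 5, 3, 4, 1, 2, 3, 7, 6, 5, 4, 3, 2, 1], 0⟩, ⟨3113, [5, 4, 0, 1, 2, 3, 7, 8, 3, 4, 2, 3, 7, 6, 5, 4, 3, 2], 1⟩, ⟨805, [3, 4, 2, 3, 7, 5, 4, 3, 2, 1], 0⟩] ⟨11589, [], 0⟩ 536 (by decide +kernel) <|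
  Good.cl ok [⟨3113, [5, 4, 0, 1, 2, 3, 7, 8, 3, 4, 2, 3, 7, 6, 5, 4, 3, 2], 1⟩, ⟨5781, [6, 5, 3, 4, 2, 3, 7, 8, 5, 3, 4, 1, 2, 3, 7, 6, 5, 4, 3, 2, 1], 0⟩, ⟨3377, [3, 4, 2, 3, 7, 8, 7, 5, 2, 3, 4, 1, 2, 3, 7, 6, 5, 4, 3, 2, 1], 0⟩, ⟨3113, [5, 4, 0, 1, 2, 3, 7, 8, 3, 4, 2, 3, 7, 6, 5, 4, 3, 2], 1⟩] ⟨805, [3, 4, 2, 3, 7, 5, 4, 3, 2, 1], 0⟩ 1021 (by decide +kernel) <|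
  Good.cl ok [⟨805, [3, 4, 2, 3, 7, 5, 4, 3, 2, 1], 0⟩, ⟨3113, [5, 4, 0, 1, 2, 3, 7, 8, 3, 4, 2, 3, 7, 6, 5, 4, 3, 2], 1⟩, ⟨5781, [6, 5, 3, 4, 2, 3, 7, 8, 5, 3, 4, 1, 2, 3, 7, 6, 5, 4, 3, 2, 1], 0⟩, ⟨3377, [3, 4, 2, 3, 7, 8, 7, 5, 2, 3, 4, 1, 2, 3, 7, 6, 5, 4, 3, 2, 1], 0⟩, ⟨3113, [5, 4, 0, 1, 2, 3, 7, 8, 3, 4, 2, 3, 7, 6, 5, 4, 3, 2], 1⟩] ⟨11589, [], 0⟩ 5286 (by decide +kernel) <|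
  Good.dead ok ⟨11589, [], 0⟩ [⟨11589, [], 0⟩, ⟨111, [3, 4, 2, 3, 7, 8, 5, 4, 3, 7, 6, 5, 4, 3], 2⟩, ⟨536, [7, 8, 7, 4, 5, 3, 4, 1, 2, 3, 7, 6, 5, 4, 3, 2, 1], 0⟩, ⟨1021, [7, 8, 4, 5, 2, 3, 4, 1, 2, 3, 7, 6, 5, 4, 3, 2, 1], 0⟩, ⟨5286, [8, 7], 3⟩] [⟨5261, [7, 3], 2⟩] (by decide +kernel) (by decide)

theorem g9 : Good φ x0 Sg [10081, 3377, 899, 5353, 626, 3113, 805, 111, 11589, 8005] :=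
  Good.cl ok [⟨10081, [3, 7, 4, 5, 3, 4, 2, 3, 7, 8, 3, 4, 5, 2, 3, 4, 1, 2, 3, 7, 6, 5, 4, 3, 2, 1], 0⟩, ⟨3113, [5, 4, 0, 1, 2, 3, 7, 8, 3, 4, 2, 3, 7, 6, 5, 4, 3, 2], 1⟩, ⟨3377, [3, 4, 2, 3, 7, 8, 7, 5, 2, 3, 4, 1, 2, 3, 7, 6, 5, 4, 3, 2, 1], 0⟩, ⟨805, [3, 4, 2, 3, 7, 5, 4, 3, 2, 1], 0⟩, ⟨3113, [5, 4, 0, 1, 2, 3, 7, 8, 3, 4, 2, 3, 7, 6, 5, 4, 3, 2], 1⟩] ⟨11589, [], 0⟩ 497 (by decide +kernel) <|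
  Good.cl ok [⟨3377, [3, 4, 2, 3, 7, 8, 7, 5, 2, 3, 4, 1, 2, 3, 7, 6, 5, 4, 3, 2, 1], 0⟩, ⟨3113, [5, 4, 0, 1, 2, 3, 7, 8, 3, 4, 2, 3, 7, 6, 5, 4, 3, 2], 1⟩, ⟨8005, [], 2⟩, ⟨3377, [3, 4, 2, 3, 7, 8, 7, 5, 2, 3, 4, 1, 2, 3, 7, 6, 5, 4, 3, 2, 1], 0⟩, ⟨10081, [3, 7, 4, 5, 3, 4, 2, 3, 7, 8, 3, 4, 5, 2, 3, 4, 1, 2, 3, 7, 6, 5, 4, 3, 2, 1], 0⟩] ⟨805, [3, 4, 2, 3, 7, 5, 4, 3, 2, 1], 0⟩ 1876 (by decide +kernel) <|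
  Good.cl ok [⟨3377, [3, 4, 2, 3, 7, 8, 7, 5, 2, 3, 4, 1, 2, 3, 7, 6, 5, 4, 3, 2, 1], 0⟩, ⟨3113, [5, 4, 0, 1, 2, 3, 7, 8, 3, 4, 2, 3, 7, 6, 5, 4, 3, 2], 1⟩, ⟨8005, [], 2⟩, ⟨10081, [3, 7, 4, 5, 3, 4, 2, 3, 7, 8, 3, 4, 5, 2, 3, 4, 1, 2, 3, 7, 6, 5, 4, 3, 2, 1], 0⟩, ⟨805, [3, 4, 2, 3, 7, 5, 4, 3, 2, 1], 0⟩] ⟨11589, [], 0⟩ 4566 (by decide +kernel) <|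
  Good.dead ok ⟨11589, [], 0⟩ [⟨11589, [], 0⟩, ⟨8005, [], 2⟩, ⟨497, [7, 8, 5, 4, 3, 7, 6, 5, 4, 3], 2⟩, ⟨1876, [7, 8, 3, 7, 4, 3], 2⟩, ⟨4566, [3, 4, 2, 3, 7, 8, 5, 4, 1, 2, 3, 7, 6, 5, 4, 3, 2, 1], 0⟩] [⟨4259, [3, 4, 2, 3, 7, 8, 3, 7, 5, 2, 3, 4, 1, 2, 3, 7, 6, 5, 4, 3, 2, 1], 0⟩] (by decide +kernel) (by decide)

theorem g10 : Good φ x0 Sg [14260, 3377, 899, 5353, 626, 3113, 805, 111, 11589, 8005] :=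
  Good.cl ok [⟨3377, [3, 4, 2, 3, 7, 8, 7, 5, 2, 3, 4, 1, 2, 3, 7, 6, 5, 4, 3, 2, 1], 0⟩, ⟨3113, [5, 4, 0, 1, 2, 3, 7, 8, 3, 4, 2, 3, 7, 6, 5, 4, 3, 2], 1⟩, ⟨14260, [8, 2, 3, 7, 4, 5, 3, 4, 2, 3, 7, 8, 3, 4, 5, 2, 3, 4, 1, 2, 3, 7, 6, 5, 4, 3, 2, 1], 0⟩, ⟨8005, [], 2⟩, ⟨3377, [3, 4, 2, 3, 7, 8, 7, 5, 2, 3, 4, 1, 2, 3, 7, 6, 5, 4, 3, 2, 1], 0⟩, ⟨14260, [8, 2, 3, 7, 4, 5, 3, 4, 2, 3, 7, 8, 3, 4, 5, 2, 3, 4, 1, 2, 3, 7, 6, 5, 4, 3, 2, 1], 0⟩, ⟨805, [3, 4, 2, 3, 7, 5, 4, 3, 2, 1], 0⟩] ⟨11589, [], 0⟩ 6526 (by decide +kernel) <|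
  Good.cl ok [⟨8005, [], 2⟩, ⟨14260, [8, 2, 3, 7, 4, 5, 3, 4, 2, 3, 7, 8, 3, 4, 5, 2, 3, 4, 1, 2, 3, 7, 6, 5, 4, 3, 2, 1], 0⟩] ⟨3377, [3, 4, 2, 3, 7, 8, 7, 5, 2, 3, 4, 1, 2, 3, 7, 6, 5, 4, 3, 2, 1], 0⟩ 3319 (by decide +kernel) <|
  Good.cl ok [⟨899, [5, 4, 3, 7, 6, 5, 4, 3], 2⟩, ⟨14260, [8, 2, 3, 7, 4, 5, 3, 4, 2, 3, 7, 8, 3, 4, 5, 2, 3, 4, 1, 2, 3, 7, 6, 5, 4, 3, 2, 1], 0⟩, ⟨3377, [3, 4, 2, 3, 7, 8, 7, 5, 2, 3, 4, 1, 2, 3, 7, 6, 5, 4, 3, 2, 1], 0⟩, ⟨3113, [5, 4, 0, 1, 2, 3, 7, 8, 3, 4, 2, 3, 7, 6, 5, 4, 3, 2], 1⟩] ⟨805, [3, 4, 2, 3, 7, 5, 4, 3, 2, 1], 0⟩ 5262 (by decide +kernel) <|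
  Good.cl ok [⟨805, [3, 4, 2, 3, 7, 5, 4, 3, 2, 1], 0⟩, ⟨14260, [8, 2, 3, 7, 4, 5, 3, 4, 2, 3, 7, 8, 3, 4, 5, 2, 3, 4, 1, 2, 3, 7, 6, 5, 4, 3, 2, 1], 0⟩, ⟨3377, [3, 4, 2, 3, 7, 8, 7, 5, 2, 3, 4, 1, 2, 3, 7, 6, 5, 4, 3, 2, 1], 0⟩, ⟨5353, [3, 4, 2, 3, 7, 8, 2, 3, 4, 1, 2, 3, 7, 6, 5, 4, 3, 2, 1], 0⟩, ⟨14260, [8, 2, 3, 7, 4, 5, 3, 4, 2, 3, 7, 8, 3, 4, 5, 2, 3, 4, 1, 2, 3, 7, 6, 5, 4, 3, 2, 1], 0⟩, ⟨805, [3, 4, 2, 3, 7, 5, 4, 3, 2, 1], 0⟩] ⟨11589, [], 0⟩ 1714 (by decide +kernel) <|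
  Good.cl ok [⟨805, [3, 4, 2, 3, 7, 5, 4, 3, 2, 1], 0⟩, ⟨14260, [8, 2, 3, 7, 4, 5, 3, 4, 2, 3, 7, 8, 3, 4, 5, 2, 3, 4, 1, 2, 3, 7, 6, 5, 4, 3, 2, 1], 0⟩, ⟨3377, [3, 4, 2, 3, 7, 8, 7, 5, 2, 3, 4, 1, 2, 3, 7, 6, 5, 4, 3, 2, 1], 0⟩, ⟨11589, [], 0⟩, ⟨3113, [5, 4, 0, 1, 2, 3, 7, 8, 3, 4, 2, 3, 7, 6, 5, 4, 3, 2], 1⟩] ⟨805, [3, 4, 2, 3, 7, 5, 4, 3, 2, 1], 0⟩ 6523 (by decide +kernel) <|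
  Good.cl ok [⟨14260, [8, 2, 3, 7, 4, 5, 3, 4, 2, 3, 7, 8, 3, 4, 5, 2, 3, 4, 1, 2, 3, 7, 6, 5, 4, 3, 2, 1], 0⟩, ⟨899, [5, 4, 3, 7, 6, 5, 4, 3], 2⟩, ⟨3377, [3, 4, 2, 3, 7, 8, 7, 5, 2, 3, 4, 1, 2, 3, 7, 6, 5, 4, 3, 2, 1], 0⟩] ⟨3113, [5, 4, 0, 1, 2, 3, 7, 8, 3, 4, 2, 3, 7, 6, 5, 4, 3, 2], 1⟩ 2347 (by decide +kernel) <|
  Good.sym ok [5, 3, 4, 2, 3, 7, 8, 2, 3, 4, 1, 2, 3, 7, 0, 1, 2, 3, 4, 5, 6] (by decide +kernel) Good.refl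

theorem g11 : Good φ x0 Sg [3377, 899, 5353, 626, 3113, 805, 111, 11589, 8005] :=
  Good.br ok ⟨11589, [], 0⟩ [⟨11589, [], 0⟩, ⟨111, [3, 4, 2, 3, 7, 8, 5, 4, 3, 7, 6, 5, 4, 3], 2⟩] ⟨3652, [6, 5, 3, 4, 2, 3, 7, 8, 7, 4, 5, 3, 4, 1, 2, 3, 7, 6, 5, 4, 3, 2, 1], 0⟩ ⟨5781, [6, 5, 3, 4, 2, 3, 7, 8, 5, 3, 4, 1, 2, 3, 7, 6, 5, 4, 3, 2, 1], 0⟩ ⟨10081, [3, 7, 4, 5, 3, 4, 2, 3, 7, 8, 3, 4, 5, 2, 3, 4, 1, 2, 3, 7, 6, 5, 4, 3, 2, 1], 0⟩ ⟨14260, [8, 2, 3, 7, 4, 5, 3, 4, 2, 3, 7, 8, 3, 4, 5, 2, 3, 4, 1, 2, 3, 7, 6, 5, 4, 3, 2, 1], 0⟩ (by decide +kernel)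
  g7 g8 g9 g10

theorem g12 : Good φ x0 Sg [5715, 7251, 899, 5353, 626, 3113, 805, 111, 11589, 8005] :=
  Good.cl ok [⟨5715, [5, 3, 4, 2, 3, 7, 8, 3, 4, 1, 2, 3, 7, 6, 5, 4, 3, 2, 1], 0⟩, ⟨899, [5, 4, 3, 7, 6, 5, 4, 3], 2⟩] ⟨5353, [3, 4, 2, 3, 7, 8, 2, 3, 4, 1, 2, 3, 7, 6, 5, 4, 3, 2, 1], 0⟩ 2531 (by decide +kernel) <|
  Good.cl ok [⟨7251, [8, 7, 6, 5, 3, 4, 2, 3, 7, 8, 7, 5, 3, 4, 1, 2, 3, 7, 6, 5, 4, 3, 2, 1], 0⟩, ⟨5715, [5, 3, 4, 2, 3, 7, 8, 3, 4, 1, 2, 3, 7, 6, 5, 4, 3, 2, 1], 0⟩, ⟨805, [3, 4, 2, 3, 7, 5, 4, 3, 2, 1], 0⟩, ⟨7251, [8, 7, 6, 5, 3, 4, 2, 3, 7, 8, 7, 5, 3, 4, 1, 2, 3, 7, 6, 5, 4, 3, 2, 1], 0⟩] ⟨3113, [5, 4, 0, 1, 2, 3, 7, 8, 3,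 4, 2, 3, 7, 6, 5, 4, 3, 2], 1⟩ 5257 (by decide +kernel) <|
  Good.dead ok ⟨11589, [], 0⟩ [⟨11589, [], 0⟩, ⟨111, [3, 4, 2, 3, 7, 8, 5, 4, 3, 7, 6, 5, 4, 3], 2⟩, ⟨2531, [7, 8, 3, 7, 2, 3, 4, 1, 2, 3, 7, 5, 4, 3, 2, 1], 0⟩, ⟨5257, [6, 5], 4⟩] [⟨997, [7, 8, 3, 7, 6, 5, 4, 3], 2⟩, ⟨2670, [7, 8, 4, 1, 2, 3, 7, 5, 4, 3, 2, 1], 0⟩] (by decide +kernel) (by decide)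

theorem g13 : Good φ x0 Sg [8073, 7251, 899, 5353, 626, 3113, 805, 111, 11589, 8005] :=
  Good.cl ok [⟨899, [5, 4, 3, 7, 6, 5, 4, 3], 2⟩, ⟨5353, [3, 4, 2, 3, 7, 8, 2, 3, 4, 1, 2, 3, 7, 6, 5, 4, 3, 2, 1], 0⟩, ⟨8073, [8, 7, 3, 4, 2, 3, 7, 8, 2, 3, 4, 1, 2, 3, 7, 6, 5, 4, 3, 2, 1], 0⟩, ⟨3113, [5, 4, 0, 1, 2, 3, 7, 8, 3, 4, 2, 3, 7, 6, 5, 4, 3, 2], 1⟩] ⟨11589, [], 0⟩ 804 (by decide +kernel) <|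
  Good.cl ok [⟨7251, [8, 7, 6, 5, 3, 4, 2, 3, 7, 8, 7, 5, 3, 4, 1, 2, 3, 7, 6, 5, 4, 3, 2, 1], 0⟩, ⟨5353, [3, 4, 2, 3, 7, 8, 2, 3, 4, 1, 2, 3, 7, 6, 5, 4, 3, 2, 1], 0⟩, ⟨899, [5, 4, 3, 7, 6, 5, 4, 3], 2⟩, ⟨3113, [5, 4, 0, 1, 2, 3, 7, 8, 3, 4, 2, 3, 7, 6, 5, 4, 3, 2], 1⟩, ⟨7251, [8, 7, 6, 5, 3, 4, 2, 3, 7, 8, 7, 5, 3, 4, 1, 2, 3, 7, 6, 5, 4, 3, 2, 1], 0⟩] ⟨8005, [], 2⟩ 3427 (by decide +kernel) <|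
  Good.dead ok ⟨8005, [], 2⟩ [⟨8005, [], 2⟩, ⟨111, [3, 4, 2, 3, 7, 8, 5, 4, 3, 7, 6, 5, 4, 3], 2⟩, ⟨804, [8, 3, 4, 2, 3, 7, 6, 5, 4, 3, 2, 1], 0⟩, ⟨3427, [5, 4, 1, 2, 3, 7, 8, 7, 4, 5, 2, 3, 4, 1, 2, 3, 7, 6, 5, 4, 3, 2, 1], 0⟩] [⟨431, [3, 4, 2, 3, 7, 6, 5, 4, 3, 2], 1⟩, ⟨5485, [5, 4, 0, 1, 2, 3, 7, 8, 4, 5, 2, 3, 4, 1, 2, 3, 7, 6, 5, 4, 3, 2, 1], 0⟩] (by decide +kernel) (by decide)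

theorem g14 : Good φ x0 Sg [8075, 7251, 899, 5353, 626, 3113, 805, 111, 11589, 8005] :=
  Good.cl ok [⟨8075, [5, 3, 4, 2, 3, 7, 8, 2, 3, 4, 1, 2, 3, 7, 5, 4, 3, 2, 1], 0⟩, ⟨5353, [3, 4, 2, 3, 7, 8, 2, 3, 4, 1, 2, 3, 7, 6, 5, 4, 3, 2, 1], 0⟩] ⟨111, [3, 4, 2, 3, 7, 8, 5, 4, 3, 7, 6, 5, 4, 3], 2⟩ 6537 (by decide +kernel) <|
  Good.cl ok [⟨111, [3, 4, 2, 3, 7, 8, 5, 4, 3, 7, 6, 5, 4, 3], 2⟩, ⟨899, [5, 4, 3, 7, 6, 5, 4, 3], 2⟩] ⟨5353, [3, 4, 2, 3, 7, 8, 2, 3, 4, 1, 2, 3, 7, 6, 5, 4, 3, 2, 1], 0⟩ 1971 (by decide +kernel) <|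
  Good.cl ok [⟨8075, [5, 3, 4, 2, 3, 7, 8, 2, 3, 4, 1, 2, 3, 7, 5, 4, 3, 2, 1], 0⟩, ⟨805, [3, 4, 2, 3, 7, 5, 4, 3, 2, 1], 0⟩, ⟨7251, [8, 7, 6, 5, 3, 4, 2, 3, 7, 8, 7, 5, 3, 4, 1, 2, 3, 7, 6, 5, 4, 3, 2, 1], 0⟩, ⟨899, [5, 4, 3, 7, 6, 5, 4, 3], 2⟩, ⟨8005, [], 2⟩, ⟨7251, [8, 7, 6, 5, 3, 4, 2, 3, 7, 8, 7, 5, 3, 4, 1, 2, 3, 7, 6, 5, 4, 3, 2, 1], 0⟩, ⟨805, [3, 4, 2, 3, 7, 5, 4, 3, 2, 1], 0⟩] ⟨11589, [], 0⟩ 8002 (by decide +kernel) <|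
  Good.cl ok [⟨7251, [8, 7, 6, 5, 3, 4, 2, 3, 7, 8, 7, 5, 3, 4, 1, 2, 3, 7, 6, 5, 4, 3, 2, 1], 0⟩, ⟨899, [5, 4, 3, 7, 6, 5, 4, 3], 2⟩, ⟨3113, [5, 4, 0, 1, 2, 3, 7, 8, 3, 4, 2, 3, 7, 6, 5, 4, 3, 2], 1⟩, ⟨7251, [8, 7, 6, 5, 3, 4, 2, 3, 7, 8, 7, 5, 3, 4, 1, 2, 3, 7, 6, 5, 4, 3, 2, 1], 0⟩, ⟨111, [3, 4, 2, 3, 7, 8, 5, 4, 3, 7, 6, 5, 4, 3], 2⟩, ⟨8005, [], 2⟩, ⟨7251, [8, 7, 6, 5, 3, 4, 2, 3, 7, 8, 7, 5, 3, 4, 1, 2, 3, 7, 6, 5, 4, 3, 2, 1], 0⟩, ⟨805, [3, 4, 2, 3, 7, 5, 4, 3, 2, 1], 0⟩] ⟨11589, [], 0⟩ 6526 (by decide +kernel) <|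
  Good.cl ok [⟨805, [3, 4, 2, 3, 7, 5, 4, 3, 2, 1], 0⟩, ⟨8075, [5, 3, 4, 2, 3, 7, 8, 2, 3, 4, 1, 2, 3, 7, 5, 4, 3, 2, 1], 0⟩, ⟨7251, [8, 7, 6, 5, 3, 4, 2, 3, 7, 8, 7, 5, 3, 4, 1, 2, 3, 7, 6, 5, 4, 3, 2, 1], 0⟩, ⟨805, [3, 4, 2, 3, 7, 5, 4, 3, 2, 1], 0⟩, ⟨111, [3, 4, 2, 3, 7, 8, 5, 4, 3, 7, 6, 5, 4, 3], 2⟩, ⟨7251, [8, 7, 6, 5, 3, 4, 2, 3, 7, 8, 7, 5, 3, 4, 1, 2, 3, 7, 6, 5, 4, 3, 2, 1], 0⟩] ⟨8005, [], 2⟩ 3518 (by decide +kernel) <|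
  Good.cl ok [⟨8075, [5, 3, 4, 2, 3, 7, 8, 2, 3, 4, 1, 2, 3, 7, 5, 4, 3, 2, 1], 0⟩, ⟨805, [3, 4, 2, 3, 7, 5, 4, 3, 2, 1], 0⟩, ⟨3113, [5, 4, 0, 1, 2, 3, 7, 8, 3, 4, 2, 3, 7, 6, 5, 4, 3, 2], 1⟩] ⟨11589, [], 0⟩ 1717 (by decide +kernel) <|
  Good.cl ok [⟨899, [5, 4, 3, 7, 6, 5, 4, 3], 2⟩, ⟨3113, [5, 4, 0, 1, 2, 3, 7, 8, 3, 4, 2, 3, 7, 6, 5, 4, 3, 2], 1⟩, ⟨7251, [8, 7, 6, 5, 3, 4, 2, 3, 7, 8, 7, 5, 3, 4, 1, 2, 3, 7, 6, 5, 4, 3, 2, 1], 0⟩] ⟨8005, [], 2⟩ 700 (by decide +kernel) <|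
  Good.sym ok [7, 1, 2, 3, 4, 0, 1, 2, 3, 7, 8, 3, 7, 5, 2, 3, 4, 1, 2, 3, 7, 0, 1, 2, 3, 4, 5, 6] (by decide +kernel) Good.refl

theorem g15 : Good φ x0 Sg [8101, 7251, 899, 5353, 626, 3113, 805, 111, 11589, 8005] :=
  Good.cl ok [⟨8101, [6, 4, 5, 3, 4, 2, 3, 7, 8, 3, 4, 1, 2, 3, 7, 6, 5, 4, 3, 2, 1], 0⟩, ⟨899, [5, 4, 3, 7, 6, 5, 4, 3], 2⟩] ⟨111, [3, 4, 2, 3, 7, 8, 5, 4, 3, 7, 6, 5, 4, 3], 2⟩ 3772 (by decide +kernel) <|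
  Good.cl ok [⟨3113, [5, 4, 0, 1, 2, 3, 7, 8, 3, 4, 2, 3, 7, 6, 5, 4, 3, 2], 1⟩, ⟨7251, [8, 7, 6, 5, 3, 4, 2, 3, 7, 8, 7, 5, 3, 4, 1, 2, 3, 7, 6, 5, 4, 3, 2, 1], 0⟩, ⟨111, [3, 4, 2, 3, 7, 8, 5, 4, 3, 7, 6, 5, 4, 3], 2⟩, ⟨8005, [], 2⟩, ⟨7251, [8, 7, 6, 5, 3, 4, 2, 3, 7, 8, 7, 5, 3, 4, 1, 2, 3, 7, 6, 5, 4, 3, 2, 1], 0⟩, ⟨805, [3, 4, 2, 3, 7, 5, 4, 3, 2, 1], 0⟩] ⟨11589, [], 0⟩ 13667 (by decide +kernel) <|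
  Good.cl ok [⟨805, [3, 4, 2, 3, 7, 5, 4, 3, 2, 1], 0⟩, ⟨8101, [6, 4, 5, 3, 4, 2, 3, 7, 8, 3, 4, 1, 2, 3, 7, 6, 5, 4, 3, 2, 1], 0⟩, ⟨7251, [8, 7, 6, 5, 3, 4, 2, 3, 7, 8, 7, 5, 3, 4, 1, 2, 3, 7, 6, 5, 4, 3, 2, 1], 0⟩, ⟨899, [5, 4, 3, 7, 6, 5, 4, 3], 2⟩, ⟨3113, [5, 4, 0, 1, 2, 3, 7, 8, 3, 4, 2, 3, 7, 6, 5, 4, 3, 2], 1⟩, ⟨7251, [8, 7, 6, 5, 3, 4, 2, 3, 7, 8, 7, 5, 3, 4, 1, 2, 3, 7, 6, 5, 4, 3, 2, 1], 0⟩] ⟨8005, [], 2⟩ 1376 (by decide +kernel) <|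
  Good.cl ok [⟨3113, [5, 4, 0, 1, 2, 3, 7, 8, 3, 4, 2, 3, 7, 6, 5, 4, 3, 2], 1⟩, ⟨7251, [8, 7, 6, 5, 3, 4, 2, 3, 7, 8, 7, 5, 3, 4, 1, 2, 3, 7, 6, 5, 4, 3, 2, 1], 0⟩, ⟨899, [5, 4, 3, 7, 6, 5, 4, 3], 2⟩, ⟨111, [3, 4, 2, 3, 7, 8, 5, 4, 3, 7, 6, 5, 4, 3], 2⟩, ⟨8101, [6, 4, 5, 3, 4, 2, 3, 7, 8, 3, 4, 1, 2, 3, 7, 6, 5, 4, 3, 2, 1], 0⟩, ⟨805, [3, 4, 2, 3, 7, 5, 4, 3, 2, 1], 0⟩, ⟨7251, [8, 7, 6, 5, 3, 4, 2, 3, 7, 8, 7, 5, 3, 4, 1, 2, 3, 7, 6, 5, 4, 3, 2, 1], 0⟩] ⟨8005, [], 2⟩ 3324 (by decide +kernel) <|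
  Good.dead ok ⟨11589, [], 0⟩ [⟨11589, [], 0⟩, ⟨8005, [], 2⟩, ⟨111, [3, 4, 2, 3, 7, 8, 5, 4, 3, 7, 6, 5, 4, 3], 2⟩, ⟨3772, [6, 4, 5, 3, 4, 2, 3, 7, 8, 3, 7, 4, 5, 3, 4, 1, 2, 3, 7, 6, 5, 4, 3, 2, 1], 0⟩, ⟨13667, [3, 7, 8, 2, 3, 7, 6, 4, 5, 3, 4, 2, 3, 7, 8, 3, 4, 5, 2, 3, 4, 1, 2, 3, 7, 6, 5, 4, 3, 2, 1], 0⟩, ⟨1376, [7, 8, 3, 7, 5, 4, 3], 2⟩, ⟨3324, [5, 3, 4, 2, 3, 7, 8, 1, 2, 3, 7, 4, 3, 2, 1], 0⟩] [] (by decide +kernel) (by decide)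

theorem g16 : Good φ x0 Sg [7251, 899, 5353, 626, 3113, 805, 111, 11589, 8005] :=
  Good.br ok ⟨11589, [], 0⟩ [⟨11589, [], 0⟩, ⟨8005, [], 2⟩] ⟨5715, [5, 3, 4, 2, 3, 7, 8, 3, 4, 1, 2, 3, 7, 6, 5, 4, 3, 2, 1], 0⟩ ⟨8073, [8, 7, 3, 4, 2, 3, 7, 8, 2, 3, 4, 1, 2, 3, 7, 6, 5, 4, 3, 2, 1], 0⟩ ⟨8075, [5, 3, 4, 2, 3, 7, 8, 2, 3, 4, 1, 2, 3, 7, 5, 4, 3, 2, 1], 0⟩ ⟨8101, [6, 4, 5, 3, 4, 2, 3, 7, 8, 3, 4, 1, 2, 3, 7, 6, 5, 4, 3, 2, 1], 0⟩ (by decide +kernel)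
  g12 g13 g14 g15

theorem g17 : Good φ x0 Sg [2091, 9839, 899, 5353, 626, 3113, 805, 111, 11589, 8005] :=
  Good.cl ok [⟨3113, [5, 4, 0, 1, 2, 3, 7, 8, 3, 4, 2, 3, 7, 6, 5, 4, 3, 2], 1⟩, ⟨2091, [5, 3, 4, 2, 3, 7, 8, 3, 7, 4, 5, 3, 4, 1, 2, 3, 7, 6, 5, 4, 3, 2, 1], 0⟩, ⟨805, [3, 4, 2, 3, 7, 5, 4, 3, 2, 1], 0⟩, ⟨3113, [5, 4, 0, 1, 2, 3, 7, 8, 3, 4, 2, 3, 7, 6, 5, 4, 3, 2], 1⟩] ⟨11589, [], 0⟩ 2531 (by decide +kernel) <|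
  Good.cl ok [⟨3113, [5, 4, 0, 1, 2, 3, 7, 8, 3, 4, 2, 3, 7, 6, 5, 4, 3, 2], 1⟩, ⟨9839, [7, 6, 4, 5, 3, 4, 2, 3, 7, 8, 5, 2, 3, 4, 1, 2, 3, 7, 6, 5, 4, 3, 2, 1], 0⟩, ⟨2091, [5, 3, 4, 2, 3, 7, 8, 3, 7, 4, 5, 3, 4, 1, 2, 3, 7, 6, 5, 4, 3, 2, 1], 0⟩, ⟨805, [3, 4, 2, 3, 7, 5, 4, 3, 2, 1], 0⟩, ⟨9839, [7, 6, 4, 5, 3, 4, 2, 3, 7, 8, 5, 2, 3, 4, 1, 2, 3, 7, 6, 5, 4, 3, 2, 1], 0⟩] ⟨8005, [], 2⟩ 6806 (by decide +kernel) <|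
  Good.dead ok ⟨11589, [], 0⟩ [⟨11589, [], 0⟩, ⟨8005, [], 2⟩, ⟨2531, [7, 8, 3, 7, 2, 3, 4, 1, 2, 3, 7, 5, 4, 3, 2, 1], 0⟩, ⟨6806, [4, 5, 3, 4, 2, 3, 7, 8, 3, 4, 5, 2, 3, 4, 1, 2, 3, 7, 6, 5, 4, 3, 2, 1], 0⟩] [⟨2525, [6, 5, 3, 4, 2, 3, 7, 8, 1, 2, 3, 7, 4, 3, 2, 1], 0⟩, ⟨6811, [6, 5, 3, 4, 2, 3, 7, 8, 3, 4, 5, 2, 3, 4, 1, 2, 3, 7, 6, 5, 4, 3, 2, 1], 0⟩] (by decide +kernel) (by decide)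

theorem g18 : Good φ x0 Sg [3324, 9839, 899, 5353, 626, 3113, 805, 111, 11589, 8005] :=
  Good.cl ok [⟨5353, [3, 4, 2, 3, 7, 8, 2, 3, 4, 1, 2, 3, 7, 6, 5, 4, 3, 2, 1], 0⟩, ⟨899, [5, 4, 3, 7, 6, 5, 4, 3], 2⟩, ⟨9839, [7, 6, 4, 5, 3, 4, 2, 3, 7, 8, 5, 2, 3, 4, 1, 2, 3, 7, 6, 5, 4, 3, 2, 1], 0⟩] ⟨8005, [], 2⟩ 2521 (by decide +kernel) <|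
  Good.cl ok [⟨9839, [7, 6, 4, 5, 3, 4, 2, 3, 7, 8, 5, 2, 3, 4, 1, 2, 3, 7, 6, 5, 4, 3, 2, 1], 0⟩, ⟨899, [5, 4, 3, 7, 6, 5, 4, 3], 2⟩, ⟨3113, [5, 4, 0, 1, 2, 3, 7, 8, 3, 4, 2, 3, 7, 6, 5, 4, 3, 2], 1⟩, ⟨9839, [7, 6, 4, 5, 3, 4, 2, 3, 7, 8, 5, 2, 3, 4, 1, 2, 3, 7, 6, 5, 4, 3, 2, 1], 0⟩, ⟨5353, [3, 4, 2, 3, 7, 8, 2, 3, 4, 1, 2, 3, 7, 6, 5, 4, 3, 2, 1], 0⟩, ⟨805, [3, 4, 2, 3, 7, 5, 4, 3, 2, 1], 0⟩, ⟨111, [3, 4, 2, 3, 7, 8, 5, 4, 3, 7, 6, 5, 4, 3], 2⟩, ⟨9839, [7, 6, 4, 5, 3, 4, 2, 3, 7, 8, 5, 2, 3, 4, 1, 2, 3, 7, 6, 5, 4, 3, 2, 1], 0⟩] ⟨8005, [], 2⟩ 6526 (by decide +kernel) <|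
  Good.cl ok [⟨3324, [5, 3, 4, 2, 3, 7, 8, 1, 2, 3, 7, 4, 3, 2, 1], 0⟩, ⟨9839, [7, 6, 4, 5, 3, 4, 2, 3, 7, 8, 5, 2, 3, 4, 1, 2, 3, 7, 6, 5, 4, 3, 2, 1], 0⟩, ⟨5353, [3, 4, 2, 3, 7, 8, 2, 3, 4, 1, 2, 3, 7, 6, 5, 4, 3, 2, 1], 0⟩, ⟨3113, [5, 4, 0, 1, 2, 3, 7, 8, 3, 4, 2, 3, 7, 6, 5, 4, 3, 2], 1⟩, ⟨111, [3, 4, 2, 3, 7, 8, 5, 4, 3, 7, 6, 5, 4, 3], 2⟩, ⟨9839, [7, 6, 4, 5, 3, 4, 2, 3, 7, 8, 5, 2, 3, 4, 1, 2, 3, 7, 6, 5, 4, 3, 2, 1], 0⟩] ⟨8005, [], 2⟩ 2345 (by decide +kernel) <|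
  Good.cl ok [⟨899, [5, 4, 3, 7, 6, 5, 4, 3], 2⟩] ⟨111, [3, 4, 2, 3, 7, 8, 5, 4, 3, 7, 6, 5, 4, 3], 2⟩ 2523 (by decide +kernel) <|
  Good.cl ok [⟨5353, [3, 4, 2, 3, 7, 8, 2, 3, 4, 1, 2, 3, 7, 6, 5, 4, 3, 2, 1], 0⟩, ⟨3324, [5, 3, 4, 2, 3, 7, 8, 1, 2, 3, 7, 4, 3, 2, 1], 0⟩] ⟨899, [5, 4, 3, 7, 6, 5, 4, 3], 2⟩ 8001 (by decide +kernel) <|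
  Good.cl ok [⟨899, [5, 4, 3, 7, 6, 5, 4, 3], 2⟩, ⟨3324, [5, 3, 4, 2, 3, 7, 8, 1, 2, 3, 7, 4, 3, 2, 1], 0⟩] ⟨3113, [5, 4, 0, 1, 2, 3, 7, 8, 3, 4, 2, 3, 7, 6, 5, 4, 3, 2], 1⟩ 5263 (by decide +kernel) <|
  Good.sym ok [6, 5, 3, 4, 2, 3, 7, 8, 7, 3, 4, 1, 2, 3, 7, 0, 1, 2, 3, 4, 5, 6] (by decide +kernel) Good.refl

theorem g19 : Good φ x0 Sg [5325, 9839, 899, 5353, 626, 3113, 805, 111, 11589, 8005] :=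
  Good.cl ok [⟨3113, [5, 4, 0, 1, 2, 3, 7, 8, 3, 4, 2, 3, 7, 6, 5, 4, 3, 2], 1⟩, ⟨9839, [7, 6, 4, 5, 3, 4, 2, 3, 7, 8, 5, 2, 3, 4, 1, 2, 3, 7, 6, 5, 4, 3, 2, 1], 0⟩, ⟨805, [3, 4, 2, 3, 7, 5, 4, 3, 2, 1], 0⟩, ⟨111, [3, 4, 2, 3, 7, 8, 5, 4, 3, 7, 6, 5, 4, 3], 2⟩, ⟨9839, [7, 6, 4, 5, 3, 4, 2, 3, 7, 8, 5, 2, 3, 4, 1, 2, 3, 7, 6, 5, 4, 3, 2, 1], 0⟩] ⟨8005, [], 2⟩ 997 (by decide +kernel) <|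
  Good.cl ok [⟨3113, [5, 4, 0, 1, 2, 3, 7, 8, 3, 4, 2, 3, 7, 6, 5, 4, 3, 2], 1⟩, ⟨5325, [6, 4, 5, 3, 4, 2, 3, 7, 8, 5, 4, 1, 2, 3, 7, 6, 5, 4, 3, 2, 1], 0⟩, ⟨805, [3, 4, 2, 3, 7, 5, 4, 3, 2, 1], 0⟩, ⟨3113, [5, 4, 0, 1, 2, 3, 7, 8, 3, 4, 2, 3, 7, 6, 5, 4, 3, 2], 1⟩] ⟨11589, [], 0⟩ 6590 (by decide +kernel) <|
  Good.dead ok ⟨11589, [], 0⟩ [⟨11589, [], 0⟩, ⟨8005, [], 2⟩, ⟨997, [7, 8, 3, 7, 6, 5, 4, 3], 2⟩, ⟨6590, [6, 5, 3, 4, 2, 3, 7, 8, 5, 4, 1, 2, 3, 7, 6, 5, 4, 3, 2, 1], 0⟩] [⟨999, [7, 8, 4, 3, 7, 5, 4, 3], 2⟩, ⟨6595, [4, 5, 3, 4, 2, 3, 7, 8, 5, 4, 1, 2, 3, 7, 6, 5, 4, 3, 2, 1], 0⟩] (by decide +kernel) (by decide)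

theorem g20 : Good φ x0 Sg [6524, 9839, 899, 5353, 626, 3113, 805, 111, 11589, 8005] :=
  Good.cl ok [⟨805, [3, 4, 2, 3, 7, 5, 4, 3, 2, 1], 0⟩, ⟨9839, [7, 6, 4, 5, 3, 4, 2, 3, 7, 8, 5, 2, 3, 4, 1, 2, 3, 7, 6, 5, 4, 3, 2, 1], 0⟩, ⟨111, [3, 4, 2, 3, 7, 8, 5, 4, 3, 7, 6, 5, 4, 3], 2⟩, ⟨8005, [], 2⟩, ⟨9839, [7, 6, 4, 5, 3, 4, 2, 3, 7, 8, 5, 2, 3, 4, 1, 2, 3, 7, 6, 5, 4, 3, 2, 1], 0⟩, ⟨805, [3, 4, 2, 3, 7, 5, 4, 3, 2, 1], 0⟩] ⟨11589, [], 0⟩ 5757 (by decide +kernel) <|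
  Good.cl ok [⟨3113, [5, 4, 0, 1, 2, 3, 7, 8, 3, 4, 2, 3, 7, 6, 5, 4, 3, 2], 1⟩, ⟨6524, [5], 4⟩, ⟨9839, [7, 6, 4, 5, 3, 4, 2, 3, 7, 8, 5, 2, 3, 4, 1, 2, 3, 7, 6, 5, 4, 3, 2, 1], 0⟩, ⟨899, [5, 4, 3, 7, 6, 5, 4, 3], 2⟩, ⟨3113, [5, 4, 0, 1, 2, 3, 7, 8, 3, 4, 2, 3, 7, 6, 5, 4, 3, 2], 1⟩, ⟨9839, [7, 6, 4, 5, 3, 4, 2, 3, 7, 8, 5, 2, 3, 4, 1, 2, 3, 7, 6, 5, 4, 3, 2, 1], 0⟩] ⟨8005, [], 2⟩ 5474 (by decide +kernel) <|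
  Good.cl ok [⟨9839, [7, 6, 4, 5, 3, 4, 2, 3, 7, 8, 5, 2, 3, 4, 1, 2, 3, 7, 6, 5, 4, 3, 2, 1], 0⟩, ⟨899, [5, 4, 3, 7, 6, 5, 4, 3], 2⟩, ⟨6524, [5], 4⟩, ⟨9839, [7, 6, 4, 5, 3, 4, 2, 3, 7, 8, 5, 2, 3, 4, 1, 2, 3, 7, 6, 5, 4, 3, 2, 1], 0⟩, ⟨111, [3, 4, 2, 3, 7, 8, 5, 4, 3, 7, 6, 5, 4, 3], 2⟩, ⟨899, [5, 4, 3, 7, 6, 5, 4, 3], 2⟩, ⟨9839, [7, 6, 4, 5, 3, 4, 2, 3, 7, 8, 5, 2, 3, 4, 1, 2, 3, 7, 6, 5, 4, 3, 2, 1], 0⟩] ⟨8005, [], 2⟩ 3517 (by decide +kernel) <|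
  Good.dead ok ⟨11589, [], 0⟩ [⟨11589, [], 0⟩, ⟨8005, [], 2⟩, ⟨111, [3, 4, 2, 3, 7, 8, 5, 4, 3, 7, 6, 5, 4, 3], 2⟩, ⟨6524, [5], 4⟩, ⟨5757, [5, 3, 4, 2, 3, 7, 8, 5, 4, 1, 2, 3, 7, 6, 5, 4, 3, 2, 1], 0⟩, ⟨5474, [5, 3, 4, 2, 3, 7, 8, 3, 4, 5, 2, 3, 4, 1, 2, 3, 7, 6, 5, 4, 3, 2, 1], 0⟩, ⟨3517, [7, 8, 1, 2, 3, 7, 5, 4, 3, 2, 1], 0⟩] [] (by decide +kernel) (by decide)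

theorem g21 : Good φ x0 Sg [9839, 899, 5353, 626, 3113, 805, 111, 11589, 8005] :=
  Good.br ok ⟨8005, [], 2⟩ [⟨8005, [], 2⟩, ⟨111, [3, 4, 2, 3, 7, 8, 5, 4, 3, 7, 6, 5, 4, 3], 2⟩] ⟨2091, [5, 3, 4, 2, 3, 7, 8, 3, 7, 4, 5, 3, 4, 1, 2, 3, 7, 6, 5, 4, 3, 2, 1], 0⟩ ⟨3324, [5, 3, 4, 2, 3, 7, 8, 1, 2, 3, 7, 4, 3, 2, 1], 0⟩ ⟨5325, [6, 4, 5, 3, 4, 2, 3, 7, 8, 5, 4, 1, 2, 3, 7, 6, 5, 4, 3, 2, 1], 0⟩ ⟨6524, [5], 4⟩ (by decide +kernel)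
  g17 g18 g19 g20

theorem g22 : Good φ x0 Sg [899, 5353, 626, 3113, 805, 111, 11589, 8005] :=
  Good.br ok ⟨11589, [], 0⟩ [⟨11589, [], 0⟩, ⟨5353, [3, 4, 2, 3, 7, 8, 2, 3, 4, 1, 2, 3, 7, 6, 5, 4, 3, 2, 1], 0⟩] ⟨498, [3, 7, 8, 4, 3, 7, 6, 5, 4, 3], 2⟩ ⟨3377, [3, 4, 2, 3, 7, 8, 7, 5, 2, 3, 4, 1, 2, 3, 7, 6, 5, 4, 3, 2, 1], 0⟩ ⟨7251, [8, 7, 6, 5, 3, 4, 2, 3, 7, 8, 7, 5, 3, 4, 1, 2, 3, 7, 6, 5, 4, 3, 2, 1], 0⟩ ⟨9839, [7, 6, 4, 5, 3, 4, 2, 3, 7, 8, 5, 2, 3, 4, 1, 2, 3, 7, 6, 5, 4, 3, 2, 1], 0⟩ (by decide +kernel)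
  g6 g11 g16 g21

theorem g23 : Good φ x0 Sg [3157, 5353, 626, 3113, 805, 111, 11589, 8005] :=
  Good.cl ok [⟨111, [3, 4, 2, 3, 7, 8, 5, 4, 3, 7, 6, 5, 4, 3], 2⟩, ⟨3157, [5, 4, 3, 2], 1⟩, ⟨111, [3, 4, 2, 3, 7, 8, 5, 4, 3, 7, 6, 5, 4, 3], 2⟩, ⟨5353, [3, 4, 2, 3, 7, 8, 2, 3, 4, 1, 2, 3, 7, 6, 5, 4, 3, 2, 1], 0⟩, ⟨805, [3, 4, 2, 3, 7, 5, 4, 3, 2, 1], 0⟩, ⟨3113, [5, 4, 0, 1, 2, 3, 7, 8, 3, 4, 2, 3, 7, 6, 5, 4, 3, 2], 1⟩, ⟨3157, [5, 4, 3, 2], 1⟩] ⟨11589, [], 0⟩ 53 (by decide +kernel) <|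
  Good.cl ok [⟨111, [3, 4, 2, 3, 7, 8, 5, 4, 3, 7, 6, 5, 4, 3], 2⟩, ⟨3157, [5, 4, 3, 2], 1⟩, ⟨5353, [3, 4, 2, 3, 7, 8, 2, 3, 4, 1, 2, 3, 7, 6, 5, 4, 3, 2, 1], 0⟩, ⟨3113, [5, 4, 0, 1, 2, 3, 7, 8, 3, 4, 2, 3, 7, 6, 5, 4, 3, 2], 1⟩, ⟨111, [3, 4, 2, 3, 7, 8, 5, 4, 3, 7, 6, 5, 4, 3], 2⟩, ⟨3157, [5, 4, 3, 2], 1⟩, ⟨805, [3, 4, 2, 3, 7, 5, 4, 3, 2, 1], 0⟩] ⟨11589, [], 0⟩ 8004 (by decide +kernel) <|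
  Good.dead ok ⟨11589, [], 0⟩ [⟨11589, [], 0⟩, ⟨8005, [], 2⟩, ⟨53, [1, 2, 3, 7, 4, 5, 3, 4, 2, 3, 7, 6, 5, 4, 3, 2], 1⟩, ⟨8004, [], 7⟩] [⟨175, [3, 7, 4, 5, 3, 4, 1, 2, 3, 7, 6, 5, 4, 3, 2, 1], 0⟩, ⟨727, [3, 4, 5, 2, 3, 4, 1, 2, 3, 7, 6, 5, 4, 3, 2, 1], 0⟩] (by decide +kernel) (by decide)

theorem g24 : Good φ x0 Sg [14332, 5353, 626, 3113, 805, 111, 11589, 8005] :=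
  Good.cl ok [⟨5353, [3, 4, 2, 3, 7, 8, 2, 3, 4, 1, 2, 3, 7, 6, 5, 4, 3, 2, 1], 0⟩, ⟨14332, [8, 7, 3, 4, 5, 2, 3, 4, 1, 2, 3, 7, 8, 4, 5, 2, 3, 4, 1, 2, 3, 7, 6, 5, 4, 3, 2, 1], 0⟩, ⟨111, [3, 4, 2, 3, 7, 8, 5, 4, 3, 7, 6, 5, 4, 3], 2⟩, ⟨5353, [3, 4, 2, 3, 7, 8, 2, 3, 4, 1, 2, 3, 7, 6, 5, 4, 3, 2, 1], 0⟩, ⟨805, [3, 4, 2, 3, 7, 5, 4, 3, 2, 1], 0⟩, ⟨3113, [5, 4, 0, 1, 2, 3, 7, 8, 3, 4, 2, 3, 7, 6, 5, 4, 3, 2], 1⟩, ⟨14332, [8, 7, 3, 4, 5, 2, 3, 4, 1, 2, 3, 7, 8, 4, 5, 2, 3, 4, 1, 2, 3, 7, 6, 5, 4, 3, 2, 1], 0⟩] ⟨11589, [], 0⟩ 53 (by decide +kernel) <|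
  Good.cl ok [⟨5353, [3, 4, 2, 3, 7, 8, 2, 3, 4, 1, 2, 3, 7, 6, 5, 4, 3, 2, 1], 0⟩, ⟨14332, [8, 7, 3, 4, 5, 2, 3, 4, 1, 2, 3, 7, 8, 4, 5, 2, 3, 4, 1, 2, 3, 7, 6, 5, 4, 3, 2, 1], 0⟩, ⟨5353, [3, 4, 2, 3, 7, 8, 2, 3, 4, 1, 2, 3, 7, 6, 5, 4, 3, 2, 1], 0⟩, ⟨3113, [5, 4, 0, 1, 2, 3, 7, 8, 3, 4, 2, 3, 7, 6, 5, 4, 3, 2], 1⟩, ⟨111, [3, 4, 2, 3, 7, 8, 5, 4, 3, 7, 6, 5, 4, 3], 2⟩, ⟨14332, [8, 7, 3, 4, 5, 2, 3, 4, 1, 2, 3, 7, 8, 4, 5, 2, 3, 4, 1, 2, 3, 7, 6, 5, 4, 3, 2, 1], 0⟩, ⟨805, [3, 4, 2, 3, 7, 5, 4, 3, 2, 1], 0⟩] ⟨11589, [], 0⟩ 8004 (by decide +kernel) <|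
  Good.dead ok ⟨11589, [], 0⟩ [⟨11589, [], 0⟩, ⟨8005, [], 2⟩, ⟨53, [1, 2, 3, 7, 4, 5, 3, 4, 2, 3, 7, 6, 5, 4, 3, 2], 1⟩, ⟨8004, [], 7⟩] [⟨175, [3, 7, 4, 5, 3, 4, 1, 2, 3, 7, 6, 5, 4, 3, 2, 1], 0⟩, ⟨727, [3, 4, 5, 2, 3, 4, 1, 2, 3, 7, 6, 5, 4, 3, 2, 1], 0⟩] (by decide +kernel) (by decide)

theorem g25 : Good φ x0 Sg [18744, 5353, 626, 3113, 805, 111, 11589, 8005] :=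
  Good.cl ok [⟨18744, [8, 6, 5, 4, 3, 7, 6, 5, 2, 3, 4, 1, 2, 3, 7, 8, 5, 2, 3, 4, 1, 2, 3, 7, 6, 5, 4, 3, 2, 1], 0⟩, ⟨111, [3, 4, 2, 3, 7, 8, 5, 4, 3, 7, 6, 5, 4, 3], 2⟩, ⟨5353, [3, 4, 2, 3, 7, 8, 2, 3, 4, 1, 2, 3, 7, 6, 5, 4, 3, 2, 1], 0⟩, ⟨3113, [5, 4, 0, 1, 2, 3, 7, 8, 3, 4, 2, 3, 7, 6, 5, 4, 3, 2], 1⟩, ⟨18744, [8, 6, 5, 4, 3, 7, 6, 5, 2, 3, 4, 1, 2, 3, 7, 8, 5, 2, 3, 4, 1, 2, 3, 7, 6, 5, 4, 3, 2, 1], 0⟩, ⟨3113, [5, 4, 0, 1, 2, 3, 7, 8, 3, 4, 2, 3, 7, 6, 5, 4, 3, 2], 1⟩, ⟨805, [3, 4, 2, 3, 7, 5, 4, 3, 2, 1], 0⟩] ⟨11589, [], 0⟩ 77 (by decide +kernel) <|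
  Good.cl ok [⟨18744, [8, 6, 5, 4, 3, 7, 6, 5, 2, 3, 4, 1, 2, 3, 7, 8, 5, 2, 3, 4, 1, 2, 3, 7, 6, 5, 4, 3, 2, 1], 0⟩, ⟨5353, [3, 4, 2, 3, 7, 8, 2, 3, 4, 1, 2, 3, 7, 6, 5, 4, 3, 2, 1], 0⟩, ⟨11589, [], 0⟩, ⟨805, [3, 4, 2, 3, 7, 5, 4, 3, 2, 1], 0⟩, ⟨3113, [5, 4, 0, 1, 2, 3, 7, 8, 3, 4, 2, 3, 7, 6, 5, 4, 3, 2], 1⟩, ⟨111, [3, 4, 2, 3, 7, 8, 5, 4, 3, 7, 6, 5, 4, 3], 2⟩, ⟨18744, [8, 6, 5, 4, 3, 7, 6, 5, 2, 3, 4, 1, 2, 3, 7, 8, 5, 2, 3, 4, 1, 2, 3, 7, 6, 5, 4, 3, 2, 1], 0⟩] ⟨11589, [], 0⟩ 257 (by decide +kernel) <|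
  Good.dead ok ⟨11589, [], 0⟩ [⟨11589, [], 0⟩, ⟨8005, [], 2⟩, ⟨77, [7, 3, 4, 2, 3, 7, 8, 5, 4, 3, 7, 6, 5, 4, 3], 2⟩, ⟨257, [8, 3, 7, 4, 5, 3, 4, 1, 2, 3, 7, 6, 5, 4, 3, 2, 1], 0⟩] [⟨1019, [8, 3, 4, 5, 2, 3, 4, 1, 2, 3, 7, 6, 5, 4, 3, 2, 1], 0⟩, ⟨6537, [8], 7⟩] (by decide +kernel) (by decide)

theorem g26 : Good φ x0 Sg [5353, 626, 3113, 805, 111, 11589, 8005] :=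
  Good.br ok ⟨8005, [], 2⟩ [⟨8005, [], 2⟩, ⟨805, [3, 4, 2, 3, 7, 5, 4, 3, 2, 1], 0⟩] ⟨899, [5, 4, 3, 7, 6, 5, 4, 3], 2⟩ ⟨3157, [5, 4, 3, 2], 1⟩ ⟨14332, [8, 7, 3, 4, 5, 2, 3, 4, 1, 2, 3, 7, 8, 4, 5, 2, 3, 4, 1, 2, 3, 7, 6, 5, 4, 3, 2, 1], 0⟩ ⟨18744, [8, 6, 5, 4, 3, 7, 6, 5, 2, 3, 4, 1, 2, 3, 7, 8, 5, 2, 3, 4, 1, 2, 3, 7, 6, 5, 4, 3, 2, 1], 0⟩ (by decide +kernel)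
  g22 g23 g24 g25

theorem g27 : Good φ x0 Sg [9011, 626, 3113, 805, 111, 11589, 8005] :=
  Good.cl ok [⟨805, [3, 4, 2, 3, 7, 5, 4, 3, 2, 1], 0⟩, ⟨11589, [], 0⟩, ⟨3113, [5, 4, 0, 1, 2, 3, 7, 8, 3, 4, 2, 3, 7, 6, 5, 4, 3, 2], 1⟩, ⟨805, [3, 4, 2, 3, 7, 5, 4, 3, 2, 1], 0⟩, ⟨9011, [3, 7, 5, 2, 3, 4, 1, 2, 3, 7, 8, 4, 5, 3, 4, 1, 2, 3, 7, 6, 5, 4, 3, 2, 1], 0⟩, ⟨3113, [5, 4, 0, 1, 2, 3, 7, 8, 3, 4, 2, 3, 7, 6, 5, 4, 3, 2], 1⟩, ⟨111, [3, 4, 2, 3, 7, 8, 5, 4, 3, 7, 6, 5, 4, 3], 2⟩, ⟨9011, [3, 7, 5, 2, 3, 4, 1, 2, 3, 7, 8, 4, 5, 3, 4, 1, 2, 3, 7, 6, 5, 4, 3, 2, 1], 0⟩] ⟨11589, [], 0⟩ 53 (by decide +kernel) <|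
  Good.cl ok [⟨3113, [5, 4, 0, 1, 2, 3, 7, 8, 3, 4, 2, 3, 7, 6, 5, 4, 3, 2], 1⟩, ⟨9011, [3, 7, 5, 2, 3, 4, 1, 2, 3, 7, 8, 4, 5, 3, 4, 1, 2, 3, 7, 6, 5, 4, 3, 2, 1], 0⟩, ⟨3113, [5, 4, 0, 1, 2, 3, 7, 8, 3, 4, 2, 3, 7, 6, 5, 4, 3, 2], 1⟩, ⟨11589, [], 0⟩, ⟨805, [3, 4, 2, 3, 7, 5, 4, 3, 2, 1], 0⟩, ⟨3113, [5, 4, 0, 1, 2, 3, 7, 8, 3, 4, 2, 3, 7, 6, 5, 4, 3, 2], 1⟩, ⟨9011, [3, 7, 5, 2, 3, 4, 1, 2, 3, 7, 8, 4, 5, 3, 4, 1, 2, 3, 7, 6, 5, 4, 3, 2, 1], 0⟩] ⟨111, [3, 4, 2, 3, 7, 8, 5, 4, 3, 7, 6, 5, 4, 3], 2⟩ 175 (by decide +kernel) <|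
  Good.cl ok [⟨3113, [5, 4, 0, 1, 2, 3, 7, 8, 3, 4, 2, 3, 7, 6, 5, 4, 3, 2], 1⟩, ⟨11589, [], 0⟩, ⟨9011, [3, 7, 5, 2, 3, 4, 1, 2, 3, 7, 8, 4, 5, 3, 4, 1, 2, 3, 7, 6, 5, 4, 3, 2, 1], 0⟩, ⟨805, [3, 4, 2, 3, 7, 5, 4, 3, 2, 1], 0⟩, ⟨3113, [5, 4, 0, 1, 2, 3, 7, 8, 3, 4, 2, 3, 7, 6, 5, 4, 3, 2], 1⟩, ⟨9011, [3, 7, 5, 2, 3, 4, 1, 2, 3, 7, 8, 4, 5, 3, 4, 1, 2, 3, 7, 6, 5, 4, 3, 2, 1], 0⟩] ⟨111, [3, 4, 2, 3, 7, 8, 5, 4, 3, 7, 6, 5, 4, 3], 2⟩ 727 (by decide +kernel) <|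
  Good.cl ok [⟨9011, [3, 7, 5, 2, 3, 4, 1, 2, 3, 7, 8, 4, 5, 3, 4, 1, 2, 3, 7, 6, 5, 4, 3, 2, 1], 0⟩, ⟨111, [3, 4, 2, 3, 7, 8, 5, 4, 3, 7, 6, 5, 4, 3], 2⟩, ⟨11589, [], 0⟩, ⟨9011, [3, 7, 5, 2, 3, 4, 1, 2, 3, 7, 8, 4, 5, 3, 4, 1, 2, 3, 7, 6, 5, 4, 3, 2, 1], 0⟩, ⟨3113, [5, 4, 0, 1, 2, 3, 7, 8, 3, 4, 2, 3, 7, 6, 5, 4, 3, 2], 1⟩] ⟨805, [3, 4, 2, 3, 7, 5, 4, 3, 2, 1], 0⟩ 8004 (by decide +kernel) <|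
  Good.dead ok ⟨11589, [], 0⟩ [⟨11589, [], 0⟩, ⟨8005, [], 2⟩, ⟨53, [1, 2, 3, 7, 4, 5, 3, 4, 2, 3, 7, 6, 5, 4, 3, 2], 1⟩, ⟨175, [3, 7, 4, 5, 3, 4, 1, 2, 3, 7, 6, 5, 4, 3, 2, 1], 0⟩, ⟨727, [3, 4, 5, 2, 3, 4, 1, 2, 3, 7, 6, 5, 4, 3, 2, 1], 0⟩, ⟨8004, [], 7⟩] [] (by decide +kernel) (by decide)

theorem g28 : Good φ x0 Sg [11027, 626, 3113, 805, 111, 11589, 8005] :=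
  Good.cl ok [⟨11027, [4, 5, 1, 2, 3, 4, 0, 1, 2, 3, 7, 8, 5, 2, 3, 4, 1, 2, 3, 7, 6, 5, 4, 3, 2, 1], 0⟩, ⟨3113, [5, 4, 0, 1, 2, 3, 7, 8, 3, 4, 2, 3, 7, 6, 5, 4, 3, 2], 1⟩, ⟨111, [3, 4, 2, 3, 7, 8, 5, 4, 3, 7, 6, 5, 4, 3], 2⟩, ⟨11027, [4, 5, 1, 2, 3, 4, 0, 1, 2, 3, 7, 8, 5, 2, 3, 4, 1, 2, 3, 7, 6, 5, 4, 3, 2, 1], 0⟩] ⟨11589, [], 0⟩ 53 (by decide +kernel) <|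
  Good.cl ok [⟨11027, [4, 5, 1, 2, 3, 4, 0, 1, 2, 3, 7, 8, 5, 2, 3, 4, 1, 2, 3, 7, 6, 5, 4, 3, 2, 1], 0⟩, ⟨805, [3, 4, 2, 3, 7, 5, 4, 3, 2, 1], 0⟩, ⟨3113, [5, 4, 0, 1, 2, 3, 7, 8, 3, 4, 2, 3, 7, 6, 5, 4, 3, 2], 1⟩, ⟨11589, [], 0⟩, ⟨11027, [4, 5, 1, 2, 3, 4, 0, 1, 2, 3, 7, 8, 5, 2, 3, 4, 1, 2, 3, 7, 6, 5, 4, 3, 2, 1], 0⟩, ⟨3113, [5, 4, 0, 1, 2, 3, 7, 8, 3, 4, 2, 3, 7, 6, 5, 4, 3, 2], 1⟩, ⟨805, [3, 4, 2, 3, 7, 5, 4, 3, 2, 1], 0⟩, ⟨11027, [4, 5, 1, 2, 3, 4, 0, 1, 2, 3, 7, 8, 5, 2, 3, 4, 1, 2, 3, 7, 6, 5, 4, 3, 2, 1], 0⟩] ⟨111, [3, 4, 2, 3, 7, 8, 5, 4, 3, 7, 6, 5, 4, 3], 2⟩ 175 (by decide +kernel) <|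
  Good.cl ok [⟨805, [3, 4, 2, 3, 7, 5, 4, 3, 2, 1], 0⟩, ⟨3113, [5, 4, 0, 1, 2, 3, 7, 8, 3, 4, 2, 3, 7, 6, 5, 4, 3, 2], 1⟩, ⟨11027, [4, 5, 1, 2, 3, 4, 0, 1, 2, 3, 7, 8, 5, 2, 3, 4, 1, 2, 3, 7, 6, 5, 4, 3, 2, 1], 0⟩, ⟨805, [3, 4, 2, 3, 7, 5, 4, 3, 2, 1], 0⟩, ⟨11589, [], 0⟩, ⟨3113, [5, 4, 0, 1, 2, 3, 7, 8, 3, 4, 2, 3, 7, 6, 5, 4, 3, 2], 1⟩, ⟨11027, [4, 5, 1, 2, 3, 4, 0, 1, 2, 3, 7, 8, 5, 2, 3, 4, 1, 2, 3, 7, 6, 5, 4, 3, 2, 1], 0⟩] ⟨111, [3, 4, 2, 3, 7, 8, 5, 4, 3, 7, 6, 5, 4, 3], 2⟩ 727 (by decide +kernel) <|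
  Good.cl ok [⟨805, [3, 4, 2, 3, 7, 5, 4, 3, 2, 1], 0⟩, ⟨11589, [], 0⟩, ⟨3113, [5, 4, 0, 1, 2, 3, 7, 8, 3, 4, 2, 3, 7, 6, 5, 4, 3, 2], 1⟩, ⟨11027, [4, 5, 1, 2, 3, 4, 0, 1, 2, 3, 7, 8, 5, 2, 3, 4, 1, 2, 3, 7, 6, 5, 4, 3, 2, 1], 0⟩, ⟨111, [3, 4, 2, 3, 7, 8, 5, 4, 3, 7, 6, 5, 4, 3], 2⟩, ⟨11589, [], 0⟩, ⟨11027, [4, 5, 1, 2, 3, 4, 0, 1, 2, 3, 7, 8, 5, 2, 3, 4, 1, 2, 3, 7, 6, 5, 4, 3, 2, 1], 0⟩, ⟨3113, [5, 4, 0, 1, 2, 3, 7, 8, 3, 4, 2, 3, 7, 6, 5, 4, 3, 2], 1⟩] ⟨805, [3, 4, 2, 3, 7, 5, 4, 3, 2, 1], 0⟩ 8004 (by decide +kernel) <|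
  Good.dead ok ⟨11589, [], 0⟩ [⟨11589, [], 0⟩, ⟨8005, [], 2⟩, ⟨53, [1, 2, 3, 7, 4, 5, 3, 4, 2, 3, 7, 6, 5, 4, 3, 2], 1⟩, ⟨175, [3, 7, 4, 5, 3, 4, 1, 2, 3, 7, 6, 5, 4, 3, 2, 1], 0⟩, ⟨727, [3, 4, 5, 2, 3, 4, 1, 2, 3, 7, 6, 5, 4, 3, 2, 1], 0⟩, ⟨8004, [], 7⟩] [] (by decide +kernel) (by decide)

theorem g29 : Good φ x0 Sg [3113, 805, 111, 11589, 8005] :=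
  Good.cl ok [⟨805, [3, 4, 2, 3, 7, 5, 4, 3, 2, 1], 0⟩] ⟨11589, [], 0⟩ 626 (by decide +kernel) <|
  Good.br ok ⟨8005, [], 2⟩ [⟨8005, [], 2⟩, ⟨626, [3, 4, 2, 3, 7, 5, 4, 3, 2], 1⟩] ⟨4142, [3, 7, 8, 2, 3, 7, 4, 3, 2], 1⟩ ⟨5353, [3, 4, 2, 3, 7, 8, 2, 3, 4, 1, 2, 3, 7, 6, 5, 4, 3, 2, 1], 0⟩ ⟨9011, [3, 7, 5, 2, 3, 4, 1, 2, 3, 7, 8, 4, 5, 3, 4, 1, 2, 3, 7, 6, 5, 4, 3, 2, 1], 0⟩ ⟨11027, [4, 5, 1, 2, 3, 4, 0, 1, 2, 3, 7, 8, 5, 2, 3, 4, 1, 2, 3, 7, 6, 5, 4, 3, 2, 1], 0⟩ (by decide +kernel)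
  g1 g26 g27 g28

theorem g30 : Good φ x0 Sg [805, 111, 11589, 8005] :=
  Good.br ok ⟨8005, [], 2⟩ [⟨8005, [], 2⟩, ⟨111, [3, 4, 2, 3, 7, 8, 5, 4, 3, 7, 6, 5, 4, 3], 2⟩] ⟨3113, [5, 4, 0, 1, 2, 3, 7, 8, 3, 4, 2, 3, 7, 6, 5, 4, 3, 2], 1⟩ ⟨3181, [5, 4, 1, 2, 3, 7, 8, 7, 3, 4, 2, 3, 7, 6, 5, 4, 3, 2], 1⟩ ⟨12824, [7, 4, 5, 1, 2, 3, 4, 0, 1, 2, 3, 7, 8, 5, 2, 3, 4, 1, 2, 3, 7, 6, 5, 4, 3, 2, 1], 0⟩ ⟨16451, [8, 7, 4, 5, 1, 2, 3, 4, 0, 1, 2, 3, 7, 8, 4, 5, 2, 3, 4, 1, 2, 3, 7, 6, 5, 4, 3, 2, 1], 0⟩ (by decide +kernel)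
  g29 (Good.sym ok (cat [⟨8002, [], 4⟩, ⟨1522, [3, 4, 2, 3, 7, 8, 3, 7, 4, 5, 3, 4, 1, 2, 3, 7, 6, 5, 4, 3, 2, 1], 0⟩]) (by decide +kernel) g29) (Good.sym ok (cat [⟨4259, [3, 4, 2, 3, 7, 8, 3, 7, 5, 2, 3, 4, 1, 2, 3, 7, 6, 5, 4, 3, 2, 1], 0⟩, ⟨1522, [3, 4, 2, 3, 7, 8, 3, 7, 4, 5, 3, 4, 1, 2, 3, 7, 6, 5, 4, 3, 2, 1], 0⟩]) (by decide +kernel) g29) (Good.sym ok (cat [⟨4241, [3, 4, 2, 3, 7, 8, 1, 2, 3, 7, 4, 3, 2, 1], 0⟩, ⟨1522, [3, 4, 2, 3, 7, 8, 3, 7, 4, 5, 3, 4, 1, 2, 3, 7, 6, 5, 4, 3, 2, 1], 0⟩]) (by decide +kernel) g29)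

theorem g31 : Good φ x0 Sg [111, 11589, 8005] :=
  Good.br ok ⟨8005, [], 2⟩ [⟨8005, [], 2⟩, ⟨111, [3, 4, 2, 3, 7, 8, 5, 4, 3, 7, 6, 5, 4, 3], 2⟩] ⟨805, [3, 4, 2, 3, 7, 5, 4, 3, 2, 1], 0⟩ ⟨894, [8, 3, 4, 2, 3, 7, 5, 4, 3, 2], 1⟩ ⟨5496, [6, 5, 4, 1, 2, 3, 7, 8, 4, 5, 2, 3, 4, 1, 2, 3, 7, 6, 5, 4, 3, 2, 1], 0⟩ ⟨5518, [0, 1, 2, 3, 7, 4, 5, 3, 4, 2, 3, 7, 8, 1, 2, 3, 7, 6, 5, 4, 3, 2, 1], 0⟩ (by decide +kernel)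
  g30 (Good.sym ok (cat [⟨1404, [7, 8, 3, 4, 5, 2, 3, 4, 1, 2, 3, 7, 6, 5, 4, 3, 2, 1], 0⟩, ⟨377, [7, 8, 3, 7, 4, 5, 3, 4, 1, 2, 3, 7, 6, 5, 4, 3, 2, 1], 0⟩]) (by decide +kernel) g30) (Good.sym ok (cat [⟨11589, [], 0⟩, ⟨377, [7, 8, 3, 7, 4, 5, 3, 4, 1, 2, 3, 7, 6, 5, 4, 3, 2, 1], 0⟩]) (by decide +kernel) g30) (Good.sym ok (cat [⟨8007, [], 8⟩, ⟨377, [7, 8, 3, 7, 4, 5, 3, 4, 1, 2, 3, 7, 6, 5, 4, 3, 2, 1], 0⟩]) (by decide +kernel) g30)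

theorem g32 : Good φ x0 Sg [11589, 8005] :=
  Good.br ok ⟨11589, [], 0⟩ [⟨11589, [], 0⟩, ⟨8005, [], 2⟩] ⟨111, [3, 4, 2, 3, 7, 8, 5, 4, 3, 7, 6, 5, 4, 3], 2⟩ ⟨377, [7, 8, 3, 7, 4, 5, 3, 4, 1, 2, 3, 7, 6, 5, 4, 3, 2, 1], 0⟩ ⟨1404, [7, 8, 3, 4, 5, 2, 3, 4, 1, 2, 3, 7, 6, 5, 4, 3, 2, 1], 0⟩ ⟨8007, [], 8⟩ (by decide +kernel)
  g31 (Good.sym ok (cat [⟨175, [3, 7, 4, 5, 3, 4, 1, 2, 3, 7, 6, 5, 4, 3, 2, 1], 0⟩, ⟨53, [1, 2, 3, 7, 4, 5, 3, 4, 2, 3, 7, 6, 5, 4, 3, 2], 1⟩]) (by decide +kernel) g31) (Good.sym ok (cat [⟨727, [3, 4, 5, 2, 3, 4, 1, 2, 3, 7, 6, 5, 4, 3, 2, 1], 0⟩, ⟨53, [1, 2, 3, 7, 4, 5, 3, 4, 2, 3, 7, 6, 5, 4, 3, 2], 1⟩]) (by decide +kernel)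 g31) (Good.sym ok (cat [⟨8004, [], 7⟩, ⟨53, [1, 2, 3, 7, 4, 5, 3, 4, 2, 3, 7, 6, 5, 4, 3, 2], 1⟩]) (by decide +kernel) g31)

end Tree

theorem good : Good φ x0 Sg [11589, 8005] := Tree.g32

end Cfsg.Agent.Fx.M23
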