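import Cfsg.Agent.Fx.Gen

/-!
Tuples of points of the model and relations between their lifts.
-/
set_option autoImplicit false

namespace Cfsg.Agent.Fx

open Cfsg.Agent.Spor Subgroup Equiv

theorem Cox.of_map {G H : Type*} [Group G] [Group H] {CM BR : List ℕ} {g : ℕ → G} {ψ : G →* H}
    (hi : Function.Injective ψ) (h : Cox CM BR fun j => ψ (g j)) : Cox CM BR g :=
  ⟨fun j => hi (by simpa using h.sq j), fun s t e => hi (by simpa using h.cm s t e),
    fun s t e => hi (by simpa using h.br s t e)⟩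

theorem Cox.map {G H : Type*} [Group G] [Group H] {CM BR : List ℕ} {g : ℕ → G} (ψ : G →* H)
    (h : Cox CM BR g) : Cox CM BR fun j => ψ (g j) :=
  ⟨fun j => by rw [← map_mul, h.sq, map_one], fun s t e => by
    simpa using congrArg ψ (h.cm s t e), fun s t e => by simpa using congrArg ψ (h.br s t e)⟩

theorem Cox.twist {G : Type*} [Group G] {CM BR : List ℕ} {g : ℕ → G} {d : G}
    (hd : ∀ u, u * d = d * u) (h2 : d * d = 1) (h : Cox CM BR g) : Cox CM BR fun j => d * g j := by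
  refine ⟨fun j => ?_, fun s t e => ?_, fun s t e => ?_⟩
  · have := wd_twist hd g [j, j]
    simpa [pow_two, h2, h.sq] using this
  · have h1 := wd_twist hd g [s, t]
    have h2 := wd_twist hd g [t, s]
    simp only [wd_cons, wd_nil, mul_one, List.length_cons] at h1 h2
    rw [h1, h2, h.cm s t e]
  · have h1 := wd_twist hd g [s, t, s]
    have h2 := wd_twist hd g [t, s, t]
    simp only [wd_cons, wd_nil, mul_one, List.length_cons, ← mul_assoc] at h1 h2 ⊢
    rw [h1, h2, mul_assoc, mul_assoc, ← mul_assoc (g s), h.br s t e]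
    simp only [mul_assoc]

noncomputable section
def sbw (a0 : NP) (T : List NP) (w : List ℕ) : List ℕ :=
  List.rec [] (fun j _ ih => lapp (nth a0 T j).w ih) w
def coxChk (E : Eng) (a0 : NP) (T : List NP) (CM BR : List ℕ) (n : ℕ) : Bool :=
  lall (isX E) (a0 :: T) && allR (fun s => allR (fun t =>
    (!tbit CM s t || E.fx (nth a0 T s).w (nth a0 T t).k) &&
    (!tbit BR s t || !E.fx (nth a0 T s).w (nth a0 T t).k)) n) n
/-- a pair of reflections -/
structure TQ where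
  u : List ℕ
  a : ℕ
  v : List ℕ
  b : ℕ
def TQ.w (q : TQ) : List ℕ := lapp (cw q.u [q.a]) (cw q.v [q.b])
def ncChk (E : Eng) (a0 : NP) (T : List NP) (q : TQ) : Bool :=
  !E.fx (sbw a0 T (cw q.u [q.a])) (E.ap (sbw a0 T q.v) (nth a0 T q.b).k)
def cmRow (CM BR u : List ℕ) (l : List (List ℕ)) : List ℕ → Bool :=
  List.rec (fun _ => true) (fun v _ ih bs => List.rec false (fun b bs' _ =>
    band (brun CM BR (lapp (lapp u v) (rva (lapp v u) [])) b []) (ih bs')) bs) l
def cmAll (CM BR : List ℕ) (l : List (List ℕ)) : List (List ℕ) → Bool :=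
  List.rec (fun _ => true) (fun u l' ih bs => List.rec false (fun b bs' _ =>
    band (cmRow CM BR u l' b) (ih bs')) bs) l
def genChk (E : Eng) (a0 : NP) (S : List NP) (n : ℕ) (x1 : NP) (BW : List (List ℕ))
    (PS : List NP) : Bool :=
  Nat.beq PS.length BW.length && (BW.zip PS).all fun q =>
    q.1.all (fun y => decide (y % 2 = 0 ∧ y / 2 < n)) && E.ok q.2 && E.fx E.xw q.2.k &&
      E.fx x1.w q.2.k && E.one (lapp q.2.w (sbw a0 S (q.1.map (· / 2))))
def catW (l : List (List ℕ)) : List ℕ := List.rec [] (fun u _ ih => lapp u ih) l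
end

theorem Cox.cmRow {G : Type*} [Group G] {CM BR : List ℕ} {g : ℕ → G} (h : Cox CM BR g)
    {u : List ℕ} {l : List (List ℕ)} {bs : List ℕ} (e : cmRow CM BR u l bs = true) :
    ∀ v ∈ l, Commute (wd g u) (wd g v) := by
  induction l generalizing bs with
  | nil => simp
  | cons v l ih => cases bs with
    | nil => cases e
    | cons b bs =>
      have e' : band _ (Fx.cmRow CM BR u l bs) = true := e
      rw [band_eq, Bool.and_eq_true] at e'
      rw [List.forall_mem_cons]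
      exact ⟨h.comm e'.1, ih e'.2⟩

theorem Cox.cmAll {G : Type*} [Group G] {CM BR : List ℕ} {g : ℕ → G} (h : Cox CM BR g)
    {l bs : List (List ℕ)} (e : cmAll CM BR l bs = true) : (l.map (wd g)).Pairwise Commute := by
  induction l generalizing bs with
  | nil => simp
  | cons v l ih => cases bs with
    | nil => cases e
    | cons b bs =>
      have e' : band _ (Fx.cmAll CM BR l bs) = true := e
      rw [band_eq, Bool.and_eq_true] at e'
      rw [List.map_cons, List.pairwise_cons]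
      refine ⟨fun x hx => ?_, ih e'.2⟩
      obtain ⟨w, hw, rfl⟩ := List.mem_map.1 hx
      exact h.cmRow e'.1 w hw

theorem wd_catW {G : Type*} [Group G] (g : ℕ → G) (l : List (List ℕ)) :
    wd g (catW l) = (l.map (wd g)).prod := by
  induction l with
  | nil => rfl
  | cons u l ih =>
    show wd g (lapp u (catW l)) = _
    rw [wd_lapp, ih, List.map_cons, List.prod_cons]

variable {F : Type} [Group F] {x0 : F} {φ : F →* Perm ℕ} {E : Eng} {f : ℕ → F} {N : ℕ}
  {L : Type*} [Group L] {π : CC x0 →* L}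

noncomputable def tp (φ : F →* Perm ℕ) (x0 : F) (a0 : NP) (T : List NP) (j : ℕ) : F :=
  pt φ x0 (nth a0 T j).k

structure Tup (E : Eng) (f : ℕ → F) (φ : F →* Perm ℕ) (x0 : F) (N : ℕ) (a0 : NP) (T : List NP)
    (CM BR : List ℕ) : Prop where
  xx : ∀ j, XX x0 (tp φ x0 a0 T j)
  lt : ∀ j, (nth a0 T j).k < N
  eq : ∀ j, tp φ x0 a0 T j = wd f (nth a0 T j).w
  cox : Cox CM BR (tp φ x0 a0 T)

theorem Eng.Ok.tup (hE : E.Ok φ f x0 N) (h : Base x0 L π) {a0 : NP} {T : List NP} {CM BR : List ℕ}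
    {n : ℕ} (h1 : CM.length ≤ n) (h2 : ∀ r ∈ CM, r < 2 ^ n) (h3 : BR.length ≤ n)
    (h4 : ∀ r ∈ BR, r < 2 ^ n) (hc : coxChk E a0 T CM BR n = true) :
    Tup E f φ x0 N a0 T CM BR := by
  simp only [coxChk, Bool.and_eq_true, lall_iff, allR_iff, Bool.or_eq_true, Bool.not_eq_true',
    ← Bool.not_eq_true] at hc
  have a := fun j => hE.isX (hc.1 _ (nth_mem a0 T j))
  refine ⟨fun j => (a j).2, fun j => (hE.ok (a j).1).1, fun j => (hE.ok (a j).1).2,
    Cox.of_lt h1 h2 h3 h4 (fun j => h.tr.sq _ (a j).2.1) (fun s hs t ht e => ?_)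
      fun s hs t ht e => ?_⟩
  · exact (hE.cm (a s).1 (hE.ok (a t).1).1).1 ((hc.2 s hs t ht).1.resolve_left (not_not.2 e))
  · exact (h.tr.three _ (a s).2.1 _ (a t).2.1).resolve_left fun c =>
      (hc.2 s hs t ht).2.resolve_left (not_not.2 e) ((hE.cm (a s).1 (hE.ok (a t).1).1).2 c)

theorem Eng.Ok.wd_tp (hE : E.Ok φ f x0 N) {a0 : NP} {S : List NP}
    (hS : lall E.ok (a0 :: S) = true) (w : List ℕ) : wd (tp φ x0 a0 S) w = wd f (sbw a0 S w) := by
  induction w with
  | nil => rfl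
  | cons j w ih =>
    show _ = wd f (lapp _ (sbw a0 S w))
    rw [wd_cons, wd_lapp, ih, ← (hE.ok ((lall_iff _ _).1 hS _ (nth_mem a0 S j))).2]; rfl

theorem Eng.Ok.hgen [Finite F] (hE : E.Ok φ f x0 N) (h : Base x0 L π) {a0 : NP} {S : List NP}
    (hS : lall E.ok (a0 :: S) = true) {n : ℕ} (hm : ∀ j < n, tp φ x0 a0 S j ∈ CC x0) {p : ℕ → L}
    (hp : ∀ j < n, ∀ hj, π ⟨tp φ x0 a0 S j, hj⟩ = p j) {BW : List (List ℕ)}
    (hc : IsCoatom (wsub n p BW)) {x1 : NP} (h1 : Fx.isX E x1 = true) {PS : List NP}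
    (hk : genChk E a0 S n x1 BW PS = true) : ∀ g ∈ CC x0, g * pt φ x0 x1.k = pt φ x0 x1.k * g →
      g ∈ closure {y | IsConj x0 y ∧ y * x0 = x0 * y ∧ y * pt φ x0 x1.k = pt φ x0 x1.k * y} := by
  simp only [genChk, Bool.and_eq_true, Nat.beq_eq] at hk
  refine h.hgen (hE.isX h1).2 (s := Spor.lift (CC x0) (tp φ x0 a0 S)) (fun j hj => by
    rw [← hp j hj (hm j hj)]; exact congrArg π (Subtype.ext (lift_coe (hm j hj)))) hc fun w hw => ?_
  obtain ⟨i, hi, rfl⟩ := List.getElem_of_mem hw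
  have := List.all_eq_true.1 hk.2 (BW[i], PS[i]'(hk.1 ▸ hi)) (by
    rw [List.mem_iff_getElem]
    exact ⟨i, by simp [hi, hk.1], by simp⟩)
  simp only [Bool.and_eq_true] at this
  obtain ⟨⟨⟨⟨a1, a2⟩, a3⟩, a4⟩, a5⟩ := this
  have e1 : (ev (atm n (Spor.lift (CC x0) (tp φ x0 a0 S))) BW[i]).1 =
      ev (atm n (tp φ x0 a0 S)) BW[i] :=
    ev_atm_map' (φ := (CC x0).subtype) (fun j hj => lift_coe (hm j hj)) _
  have e2 := hE.one a5
  rw [wd_lapp, ← hE.wd_tp hS, ← (hE.ok a2).2, mul_eq_one_iff_inv_eq] at e2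
  rw [e1, ev_atm_eq_wd _ a1, ← e2]
  have e3 := (hE.fx_iff (hE.ok a2).1).1 a3
  rw [hE.xw] at e3
  exact inv_mem (subset_closure ⟨hE.isConj (hE.ok a2).1, e3.symm,
    ((hE.cm (hE.isX h1).1 (hE.ok a2).1).1 a4).symm⟩)

namespace Tup
variable {a0 : NP} {T : List NP} {CM BR : List ℕ} (t : Tup E f φ x0 N a0 T CM BR)
include t

theorem wd_eq (w : List ℕ) : wd (tp φ x0 a0 T) w = wd f (sbw a0 T w) := by
  induction w with
  | nil => rfl
  | cons j w ih =>
    show _ = wd f (lapp _ (sbw a0 T w))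
    rw [wd_cons, wd_lapp, ih, t.eq]

theorem one (hE : E.Ok φ f x0 N) {w : List ℕ} (h : E.one (sbw a0 T w) = true) :
    wd (tp φ x0 a0 T) w = 1 := (t.wd_eq w).trans (hE.one h)

theorem eqx (hE : E.Ok φ f x0 N) {w : List ℕ} (h : E.one (lapp (sbw a0 T w) (rva E.xw [])) = true) :
    wd (tp φ x0 a0 T) w = x0 := by
  have := hE.one h
  rwa [wd_lapp, wd_rva hE.sq, hE.xw, wd_nil, mul_one, mul_inv_eq_one, ← t.wd_eq] at this

theorem nc (hE : E.Ok φ f x0 N) {q : TQ} (h : ncChk E a0 T q = true) :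
    wd (tp φ x0 a0 T) (cw q.u [q.a]) * wd (tp φ x0 a0 T) (cw q.v [q.b]) ≠
      wd (tp φ x0 a0 T) (cw q.v [q.b]) * wd (tp φ x0 a0 T) (cw q.u [q.a]) := by
  rw [ncChk, Bool.not_eq_true', ← Bool.not_eq_true, hE.fx_iff (hE.ap_lt _ (t.lt _)),
    ← hE.conj _ (t.lt _), ← t.wd_eq, ← t.wd_eq] at h
  rwa [wd_cw t.cox.sq q.v, wd_cons, wd_nil, mul_one]

variable {H : Type*} [Group H] {d : H} {π' : H →* L} {lam : F → H}

/-- a word which is a product of commuting elements of order three lifts to a relation -/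
theorem tau (hE : E.Ok φ f x0 N) (h : Base x0 L π) (e : Ext d π') (hl : Lam π π' lam)
    {Q : List TQ} {bs : List (List ℕ)} {w : List ℕ} {b : ℕ} (h1 : lall (ncChk E a0 T) Q = true)
    (h2 : cmAll CM BR (Q.map TQ.w) bs = true)
    (h3 : brun CM BR (lapp w (rva (catW (Q.map TQ.w)) [])) b [] = true)
    (h4 : E.one (sbw a0 T w) = true) : wd (fun j => lam (tp φ x0 a0 T j)) w = 1 := by
  have c := hl.cox t.xx t.cox
  refine e.one_of_cube (hl.pi_one h t.xx (Or.inl (t.one hE h4))) ?_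
  rw [c.eq h3, wd_catW]
  refine prod_cube (c.cmAll h2) fun x hx => ?_
  obtain ⟨_, hu, rfl⟩ := List.mem_map.1 hx
  obtain ⟨q, hq, rfl⟩ := List.mem_map.1 hu
  exact hl.cube h t.xx t.cox.sq (t.nc hE ((lall_iff _ _).1 h1 q hq))

end Tup

end Cfsg.Agent.Fx
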