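import Cfsg.Agent.Fx.V23
import Cfsg.Agent.Fx.Tree23
import Cfsg.Agent.Fx.Tup

/-!
The group with centraliser the double cover of the smaller Fischer group.
-/
set_option autoImplicit false
set_option maxRecDepth 100000
set_option Elab.async false

namespace Cfsg.Agent.Fx.M23
open Cfsg.Agent.Spor Cfsg.Spor Subgroup

def a0 : NP := ⟨11589, [], 0⟩
def T1 : List NP := [⟨11589, [], 0⟩, ⟨8006, [], 1⟩, ⟨8005, [], 2⟩, ⟨8003, [], 3⟩, ⟨8002, [], 4⟩, ⟨8001, [], 5⟩, ⟨8000, [], 6⟩, ⟨8004, [], 7⟩, ⟨8007, [], 8⟩]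
def T2 : List NP := [⟨8000, [], 6⟩, ⟨8001, [], 5⟩, ⟨8002, [], 4⟩, ⟨8003, [], 3⟩, ⟨8005, [], 2⟩, ⟨8006, [], 1⟩, ⟨11589, [], 0⟩, ⟨8004, [], 7⟩, ⟨8007, [], 8⟩]
def sp : List ℕ := [3, 2, 1, 3, 4, 5, 3, 7, 8, 3, 2, 1, 3, 4, 5, 3, 7, 8, 3, 2, 1, 3, 4, 5, 3, 7, 8, 3, 2, 1, 3, 4, 5, 3, 7, 8, 3, 2, 1, 3, 4, 5, 3, 7, 8, 3, 2, 1, 3, 4, 5, 3, 7, 8, 3, 2, 1, 3, 4, 5, 3, 7, 8, 3, 2, 1, 3, 4, 5, 3, 7, 8, 3, 2, 1, 3, 4, 5, 3, 7, 8, 3, 2, 1, 3, 4, 5, 3, 7, 8]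
def e71 : List ℕ := [0, 1, 2, 3, 4, 5, 7, 0, 1, 2, 3, 4, 5, 7, 0, 1, 2, 3, 4, 5, 7, 0, 1, 2, 3, 4, 5, 7, 0, 1, 2, 3, 4, 5, 7, 0, 1, 2, 3, 4, 5, 7, 0, 1, 2, 3, 4, 5, 7, 0, 1, 2, 3, 4, 5, 7, 0, 1, 2, 3, 4, 5, 7]
noncomputable abbrev q1 : ℕ → Fi23 := tp φ x0 a0 T1
noncomputable abbrev q2 : ℕ → Fi23 := tp φ x0 a0 T2

theorem okT : lall E.ok (a0 :: T1) = true := by decide +kernel

theorem q1_eq : ∀ j < 9, q1 j = f j := fun j hj => by
  have := (ok.ok ((lall_iff _ _).1 okT _ (nth_mem a0 T1 j))).2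
  rw [q1, tp, this]
  interval_cases j <;> exact mul_one _

theorem g_eq : ∀ j < 9, Fi23G.g j = q1 j := fun j hj => by
  rw [q1_eq j hj, f_eq j (by omega), Fi23G.g, wv,
    show Fi31671.BW.getD j [] = [2 * j] by interval_cases j <;> rfl,
    ev_cons, ev_nil, mul_one, atm_two_mul _ (by omega)]

theorem gen : gsub 9 q1 = CC x0 := (gsub_congr g_eq).symm.trans cent.symm

theorem presT : Pres 9 9 Fi14080.RL q1 := Fi23G.presH.congr g_eq

theorem base : ∃ π : CC x0 →* Fi22, Base x0 Fi22 π ∧ ∀ j < 9, ∀ hj, π ⟨q1 j, hj⟩ = Fi22G.f j := by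
  obtain ⟨ψ, h1, h2, h3⟩ := Fi23G.cover'
  haveI := Fi23G.simple
  haveI := Fi22G.simple
  obtain ⟨π, b, e⟩ := base_of Fi23G.perfect tt cent Fi23G.cover.1 ψ h1 h2
    ⟨_, (ok.isX (p := a0) (by decide +kernel)).2⟩
  refine ⟨π, b, fun j hj hm => ?_⟩
  rw [e _ (cent ▸ hm), ← h3 j hj]
  exact congrArg ψ (Subtype.ext ((g_eq j hj).symm.trans (lift_coe (mem_gsub _ hj)).symm))

theorem cardC : Nat.card (CC x0) = 2 * 64561751654400 := by
  rw [← Fi23G.cardH]; exact congrArg (fun K : Subgroup Fi23 => Nat.card K) cent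

def R7 : List NP := [⟨8004, [], 7⟩, ⟨8005, [], 2⟩, ⟨11589, [], 0⟩, ⟨3156, [3, 7, 4, 3], 2⟩, ⟨2666, [1, 2, 3, 7, 4, 3, 2, 1], 0⟩, ⟨2527, [5, 4, 3, 7, 2, 3, 4, 1, 2, 3, 7, 5, 4, 3, 2, 1], 0⟩]
def R6 : List NP := [⟨8002, [], 4⟩, ⟨8004, [], 7⟩, ⟨715, [3, 7, 5, 2, 3, 4, 1, 2, 3, 7, 6, 5, 4, 3, 2, 1], 0⟩, ⟨727, [3, 4, 5, 2, 3, 4, 1, 2, 3, 7, 6, 5, 4, 3, 2, 1], 0⟩, ⟨2527, [5, 4, 3, 7, 2, 3, 4, 1, 2, 3, 7, 5, 4, 3, 2, 1], 0⟩]
theorem r7 : relChk E (⟨8002, [], 4⟩ :: R7) [] = true := by decide +kernel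
theorem r6 : relChk E (⟨8000, [], 6⟩ :: R6) E.xw = true := by decide +kernel
theorem gk : genChk E a0 T1 9 a0 Fi3510.BW [⟨11589, [], 0⟩, ⟨8005, [], 2⟩, ⟨8003, [], 3⟩, ⟨8002, [], 4⟩, ⟨8001, [], 5⟩, ⟨8000, [], 6⟩, ⟨8004, [], 7⟩, ⟨8007, [], 8⟩, ⟨2527, [5, 4, 3, 7, 2, 3, 4, 1, 2, 3, 7, 5, 4, 3, 2, 1], 0⟩] = true := by decide +kernel
theorem ck1 : coxChk E a0 T1 YC YB 9 = true := by decide +kernel
theorem ck2 : coxChk E a0 T2 YC YB 9 = true := by decide +kernel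

theorem presOf {G : Type*} [Group G] {g : ℕ → G} (c : Cox YC YB g) (h1 : wd g sp = 1)
    (h2 : wd g e71 = 1) : Pres 9 9 Fi14080.RL g :=
  c.pres (SP := [sp, e71]) (by decide +kernel) (by simp [h1, h2])

variable {π : CC x0 →* Fi22} (b : Base x0 Fi22 π)
include b

theorem tup1 : Tup E f φ x0 31671 a0 T1 YC YB :=
  ok.tup b (by decide) (by decide) (by decide) (by decide) ck1
theorem tup2 : Tup E f φ x0 31671 a0 T2 YC YB :=
  ok.tup b (by decide) (by decide) (by decide) (by decide) ck2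

theorem base2 : Base2 x0 :=
  ok.base2 b (by norm_num) r7 (by decide) (k1 := a0) (k2 := ⟨8005, [], 2⟩) (r := ⟨8002, [], 4⟩)
    (y := ⟨8001, [], 5⟩) (by decide +kernel)

theorem spider {H : Type*} [Group H] {d : H} {π' : H →* Fi22} (e : Ext d π') {lam : Fi23 → H}
    (hl : Lam π π' lam) : wd (fun j => lam (q1 j)) sp = 1 := by
  have := (tup1 b).tau ok b e hl (w := cw [3, 7, 2] sp)
    (Q := [⟨[], 4, [3, 2, 1, 5, 7, 3, 2, 4, 3, 7], 8⟩, ⟨[4, 3, 2, 1, 7, 3, 2, 4, 3, 7], 8, [], 5⟩, ⟨[], 7, [3, 2, 1, 4, 3, 2, 5, 4, 3, 7], 8⟩, ⟨[7, 3, 2, 1, 4, 3, 2, 5, 4, 3], 7, [], 8⟩, ⟨[], 7, [3, 2, 1, 4, 3, 2, 5, 4, 3, 7], 8⟩, ⟨[7, 3, 2, 1, 4, 3, 2, 5, 4, 3], 7, [], 8⟩])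
    (bs := [[309485007515488865371553792, 309484977537556946914115584, 309485009803595034101022720, 309484977537556946914115584, 309485009803595034101022720], [309484977535586625776517120, 309485009785862114267627520, 309484977535586625776517120, 309485009785862114267627520], [309485009812324675330506752, 309485009821327476538736640, 309485009812324675330506752], [309485009821292309346516992, 309485009821327476538736640], [309485009812324675330506752], []])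
    (b := 431359146674350301444502007760077440167346102744622981163085937512512)
    (by decide +kernel) (by decide +kernel) (by decide +kernel) (by decide +kernel)
  rw [wd_cw (hl.cox (tup1 b).xx (tup1 b).cox).sq] at this
  exact conj_eq_one_iff.1 this

theorem ident1 (hp : ∀ j < 9, ∀ hj, π ⟨q1 j, hj⟩ = Fi22G.f j) (H : Type) [Group H] [Finite H]
    (d : H) (π' : H →* Fi22) (e : Ext d π') (pH : commutator H = ⊤) :
    ∃ ψ : CC x0 ≃* H, ψ ⟨x0, self_mem_CC x0⟩ = d := by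
  have t := tup1 b
  obtain ⟨lam, hl⟩ := ok.lam b (t.xx 0) (ok.hgen b okT (fun j _ => (t.xx j).mem) hp Fi22G.coatom
    (x1 := a0) (by decide +kernel) gk) (Or.inr rfl) r6 (by decide) r7 (by decide) e
  have key : ∀ lam : Fi23 → H, Lam π π' lam → wd (fun j => lam (q1 j)) e71 = 1 →
      ∃ ψ : CC x0 ≃* H, ψ ⟨x0, self_mem_CC x0⟩ = d := fun lam hl h1 => by
    obtain ⟨ψ, h2, -⟩ := ident b e pH (cardC ▸ FiB.b222) presT gen
      (presOf (hl.cox t.xx t.cox) (spider b e hl) h1) (j0 := 0) (by norm_num)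
      (by rw [hl.pi (t.xx 0)]; exact b.pi_ne (t.xx 0))
    exact ⟨ψ, h2⟩
  exact (hl.choose b e t.xx (w := e71) (Or.inl (t.one ok (by decide +kernel))) (by decide)).elim
    (key _ hl) (key _ (hl.flip e))

theorem twist : ∃ θ : CC x0 ≃* CC x0, θ ⟨x0, self_mem_CC x0⟩ = ⟨x0, self_mem_CC x0⟩ ∧
    (θ ⟨q1 0, ((tup1 b).xx 0).mem⟩).1 = x0 * q2 0 := by
  have t := tup2 b
  let u : ℕ → CC x0 := fun j => ⟨q2 j, (t.xx j).mem⟩
  have c : Cox YC YB u := Cox.of_map (CC x0).subtype_injective t.cox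
  have hw : ∀ w, (wd u w).1 = wd q2 w := fun w => wd_map (CC x0).subtype u w
  have z2 : ∀ n, (⟨x0, self_mem_CC x0⟩ : CC x0) ^ (2 * n) = 1 := fun n => by
    rw [pow_mul, pow_two, b.ext.sq, one_pow]
  obtain ⟨θ, h2, h3⟩ := ident b b.ext b.pH (cardC ▸ FiB.b222) presT gen
    (presOf (c.twist b.ext.cen b.ext.sq) (by
      rw [wd_twist b.ext.cen, show sp.length = 2 * 45 from rfl, z2, one_mul]
      exact Subtype.ext ((hw _).trans (t.one ok (by decide +kernel)))) (by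
      rw [wd_twist b.ext.cen, show e71.length = 2 * 31 + 1 from rfl, pow_succ, z2, one_mul,
        show wd u e71 = ⟨x0, self_mem_CC x0⟩ from
          Subtype.ext ((hw _).trans (t.eqx ok (by decide +kernel))), b.ext.sq]))
    (j0 := 0) (by norm_num) (by rw [map_mul, b.pi_x0, one_mul]; exact b.pi_ne (t.xx 0))
  exact ⟨θ, h2, congrArg Subtype.val (h3 0 (by norm_num) _)⟩

theorem loc {G : Type*} [Group G] {d : G} {ψ : CC x0 →* G} (c : Cen ψ ⟨x0, self_mem_CC x0⟩ d)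
    (hn : ∃ g, g * d * g⁻¹ * d = d * (g * d * g⁻¹) ∧ g * d * g⁻¹ ≠ d) :
    ∃ χ : CC x0 →* G, Loc x0 d χ := by
  obtain ⟨ν, h1, F⟩ := vd.fus b ok vk1 vk2 vk3 vk4 vk5 vk6 vk7 vk8 vk9 (by rw [cardC]; decide)
  rcases F.fusion (h1 ▸ c) hn with h | ⟨-, h⟩
  · exact ⟨ψ, c.loc (h1 ▸ h)⟩
  · obtain ⟨θ, h2, h3⟩ := twist b
    rw [h1] at h
    exact ⟨_, c.twist b θ h2 ((tup1 b).xx 0) ((tup2 b).xx 0) h3 h⟩

theorem hom {G : Type*} [Group G] {d : G} {ψ : CC x0 →* G} (l : Loc x0 d ψ) :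
    ∃ Φ : Fi23 →* G, Φ x0 = d := by
  have t := tup1 b
  obtain ⟨y, y1, y2, y3⟩ := l.exists_y b (φ := φ) (t.xx 0) (t.xx 2)
    (fun e => absurd (pt_inj ok.act (t.lt 2) (t.lt 0) e) (by decide))
    (t.cox.cm 0 2 (by decide)) good
  let u : ℕ → CC x0 := fun j => ⟨q1 j, (t.xx j).mem⟩
  have c : Cox YC YB fun j => ψ (u j) := (Cox.of_map (CC x0).subtype_injective t.cox).map ψ
  have y4 : ∀ j < 9, j ≠ 6 → ψ (u j) * y = y * ψ (u j) := fun j hj h6 =>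
    y3 (nth a0 T1 j).k (by interval_cases j <;> first | decide | omega) _
  have cl : ∀ j, IsConj d (ψ (u j)) := fun j => (l.cls _).2 (t.xx j).1
  have tr := l.tr b (cl 0)
  have my : y ∈ {v | IsConj d v ∧ v * ψ (u 0) = ψ (u 0) * v} :=
    ⟨y1, (y4 0 (by norm_num) (by norm_num)).symm⟩
  have br : ψ (u 6) * y * ψ (u 6) = y * ψ (u 6) * y := by
    refine (tr.three _ ⟨cl 6, c.cm 6 0 (by decide)⟩ _ my).resolve_left fun e => y2 ?_
    have : gsub 9 q1 ≤ ((CC y).comap ψ).map (CC x0).subtype := gsub_le fun j hj =>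
      ⟨u j, mem_CC.2 (if h6 : j = 6 then h6 ▸ e else y4 j hj h6), rfl⟩
    obtain ⟨a, ha, ea⟩ := this (gen ▸ self_mem_CC x0)
    rw [← l.pd, ← show a = ⟨x0, self_mem_CC x0⟩ from Subtype.ext ea]
    exact (mem_CC.1 ha).symm
  let g : ℕ → G := fun j => if j = 9 then y else ψ (u j)
  have g9 : g 9 = y := if_pos rfl
  have ge : ∀ j, j ≠ 9 → g j = ψ (u j) := fun j hj => if_neg hj
  have cz : Cox ZC ZB g := by
    refine Cox.of_lt (n := 10) (by decide) (by decide) (by decide) (by decide) (fun j => ?_)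
      (fun s hs t ht e => ?_) fun s hs t ht e => ?_
    · by_cases h : j = 9
      · rw [h, g9]; exact tr.sq _ my
      · rw [ge j h]; exact c.sq j
    · by_cases h : s = 9 <;> by_cases h' : t = 9
      · rw [h, h']
      · rw [h, g9, ge t h']
        exact (y4 t (by omega) (by rintro rfl; subst h; exact absurd e (by decide))).symm
      · rw [h', g9, ge s h]
        exact y4 s (by omega) (by rintro rfl; subst h'; exact absurd e (by decide))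
      · rw [ge s h, ge t h']
        exact c.cm s t ((by decide : ∀ s < 9, ∀ t < 9, tbit ZC s t = true → tbit YC s t = true)
          s (by omega) t (by omega) e)
    · by_cases h : s = 9 <;> by_cases h' : t = 9
      · rw [h, h']
      · obtain rfl := (by decide : ∀ t < 10, tbit ZB 9 t = true → t = 6) t ht (h ▸ e)
        rw [h, g9, ge 6 h', br]
      · obtain rfl := (by decide : ∀ t < 10, tbit ZB t 9 = true → t = 6) s hs (h' ▸ e)
        rw [h', g9, ge 6 h, br]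
      · rw [ge s h, ge t h']
        exact c.br s t ((by decide : ∀ s < 9, ∀ t < 9, tbit ZB s t = true → tbit YB s t = true)
          s (by omega) t (by omega) e)
  have hw : ∀ w : List ℕ, (∀ j ∈ w, j ≠ 9) → ∀ z : CC x0, wd q1 w = z → wd g w = ψ z := by
    intro w h z e
    rw [wd_congr fun j hj => ge j (h j hj), ← wd_map]
    exact congrArg ψ (Subtype.ext ((wd_map (CC x0).subtype u w).trans e))
  obtain ⟨Φ, hΦ⟩ := Fi23G.hom (cz.pres (SP := [sp, e71]) (by decide +kernel) (by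
    simp only [List.mem_cons, List.not_mem_nil, or_false, forall_eq_or_imp, forall_eq]
    exact ⟨(hw _ (by decide) 1 (t.one ok (by decide +kernel))).trans (map_one ψ),
      (hw _ (by decide) 1 (t.one ok (by decide +kernel))).trans (map_one ψ)⟩))
  refine ⟨Φ, ?_⟩
  rw [← ex0, wd_map, ← l.pd, ← hw E.xw (by decide +kernel) _ (t.eqx ok (by decide +kernel))]
  refine wd_congr fun j hj => ?_
  have : j < 10 := (by decide +kernel : ∀ j ∈ E.xw, j < 10) j hj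
  rw [f_eq j this, hΦ j this]

omit b in
theorem main {G : Type*} [Group G] [Finite G] {d : G} (hd : orderOf d = 2)
    (hq : commutator (CC d) = ⊤) [((zpowers d).subgroupOf (CC d)).Normal]
    (e : (CC d) ⧸ (zpowers d).subgroupOf (CC d) ≃* Fi22)
    (hn : ∃ g, g * d * g⁻¹ * d = d * (g * d * g⁻¹) ∧ g * d * g⁻¹ ≠ d) : Nonempty (G ≃* Fi23) := by
  obtain ⟨π, b, hp⟩ := base
  obtain ⟨ψ, c⟩ := reduce (ident1 b hp) hd hq e
  obtain ⟨χ, l⟩ := loc b c hn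
  obtain ⟨Φ, hΦ⟩ := hom b l
  exact finish b (base2 b) l Φ hΦ

end Cfsg.Agent.Fx.M23
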