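import Cfsg.Agent.Fx.T22
import Cfsg.Agent.Fx.Tup

/-!
Identification of the double covers of the unitary group.
-/
set_option autoImplicit false
set_option maxRecDepth 100000
set_option Elab.async false

namespace Cfsg.Agent.Fx
open Cfsg.Agent.Spor Cfsg.Spor Subgroup

noncomputable def frChk (E : Eng) (a0 : NP) (T T' : List NP) (q : TQ) : Bool :=
  Nat.beq (E.ap (sbw a0 T q.u) (nth a0 T q.a).k) (E.ap (sbw a0 T' q.v) (nth a0 T' q.b).k)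

section
variable {F : Type} [Group F] {x0 : F} {φ : F →* Equiv.Perm ℕ} {E : Eng} {f : ℕ → F} {N : ℕ}
  {L : Type*} [Group L] {π : CC x0 →* L} {a0 : NP} {T T' : List NP} {CM BR : List ℕ}
  {H : Type*} [Group H] {π' : H →* L} {lam : F → H}

theorem Tup.refl (t : Tup E f φ x0 N a0 T CM BR) (hE : E.Ok φ f x0 N) (u : List ℕ) (a : ℕ) :
    wd (tp φ x0 a0 T) (cw u [a]) = pt φ x0 (E.ap (sbw a0 T u) (nth a0 T a).k) := by
  rw [← hE.conj _ (t.lt _), ← t.wd_eq, wd_cw t.cox.sq, wd_cons, wd_nil, mul_one]; rfl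

theorem Tup.frame (t : Tup E f φ x0 N a0 T CM BR) (t' : Tup E f φ x0 N a0 T' CM BR)
    (hE : E.Ok φ f x0 N) (hl : Lam π π' lam) {Q : List TQ} {w w' : List ℕ} {b b' : ℕ}
    (h1 : lall (frChk E a0 T T') Q = true)
    (h2 : brun CM BR (lapp w (rva (catW (Q.map fun q => cw q.u [q.a])) [])) b [] = true)
    (h3 : brun CM BR (lapp w' (rva (catW (Q.map fun q => cw q.v [q.b])) [])) b' [] = true) :
    wd (fun j => lam (tp φ x0 a0 T j)) w = wd (fun j => lam (tp φ x0 a0 T' j)) w' := by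
  rw [(hl.cox t.xx t.cox).eq h2, (hl.cox t'.xx t'.cox).eq h3, wd_catW, wd_catW, List.map_map,
    List.map_map]
  refine congrArg List.prod (List.map_congr_left fun q hq => ?_)
  show wd _ _ = wd _ _
  rw [hl.wd_cw t.xx t.cox.sq, hl.wd_cw t'.xx t'.cox.sq, t.refl hE, t'.refl hE,
    Nat.eq_of_beq_eq_true ((lall_iff _ _).1 h1 q hq)]

end

namespace M22

def a0 : NP := ⟨0, [], 0⟩
def c0 : NP := ⟨6, [], 2⟩
def sN : NP := ⟨472, [5, 4, 3, 7, 2, 3, 4, 1, 2, 3, 7, 5, 4, 3, 2, 1], 0⟩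
def S : List NP := [a0, c0, ⟨16, [], 3⟩, ⟨40, [], 4⟩, ⟨88, [], 5⟩, ⟨154, [], 6⟩, ⟨43, [], 7⟩, ⟨92, [], 8⟩, sN]
def T1 : List NP := [⟨6, [], 2⟩, ⟨6, [], 2⟩, ⟨16, [], 3⟩, ⟨40, [], 4⟩, ⟨88, [], 5⟩, ⟨154, [], 6⟩, ⟨43, [], 7⟩, ⟨92, [], 8⟩, ⟨472, [5, 4, 3, 7, 2, 3, 4, 1, 2, 3, 7, 5, 4, 3, 2, 1], 0⟩]
def T2 : List NP := [⟨6, [], 2⟩, ⟨154, [], 6⟩, ⟨88, [], 5⟩, ⟨40, [], 4⟩, ⟨16, [], 3⟩, ⟨6, [], 2⟩, ⟨472, [5, 4, 3, 7, 2, 3, 4, 1, 2, 3, 7, 5, 4, 3, 2, 1], 0⟩, ⟨92, [], 8⟩, ⟨43, [], 7⟩]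
def T3 : List NP := [⟨6, [], 2⟩, ⟨3400, [3, 7, 8, 4, 3, 7, 1, 2, 3, 4, 0, 1, 2, 3, 7, 8, 3, 4, 5, 2, 3, 4, 1, 2, 3, 7, 6, 5, 4, 3, 2, 1], 0⟩, ⟨41, [5, 4], 3⟩, ⟨59, [1, 2, 3, 7, 4, 3, 2, 1], 0⟩, ⟨92, [], 8⟩, ⟨427, [3, 7, 5, 2, 3, 4, 1, 2, 3, 7, 6, 5, 4, 3, 2, 1], 0⟩, ⟨154, [], 6⟩, ⟨187, [3, 7, 8, 1, 2, 3, 7, 5, 4, 3, 2, 1], 0⟩, ⟨47, [3, 7, 4, 3], 2⟩]
def UC0 : List ℕ := [0, 506, 436, 490, 214, 494, 378, 190, 366]
def R1 : List ℕ := [7, 6, 2, 3, 4, 5, 1, 7, 6, 2, 3, 4, 5, 1, 7, 6, 2, 3, 4, 5, 1, 7, 6, 2, 3, 4, 5, 1, 7, 6, 2, 3, 4, 5, 1, 7, 6, 2, 3, 4, 5, 1, 7, 6, 2, 3, 4, 5, 1, 7, 6, 2, 3, 4, 5, 1, 7, 6, 2, 3, 4, 5, 1]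
def R2 : List ℕ := [6, 7, 2, 6, 3, 2, 4, 3, 8, 4, 7, 6, 2, 3, 8, 7, 4, 8, 6, 7, 2, 3, 4, 8]
def R3 : List ℕ := [6, 2, 6, 3, 2, 6, 4, 3, 2, 6, 5, 4, 3, 2, 6, 8, 4, 3, 2, 5, 4, 8, 6, 3, 4, 5, 2, 3, 4, 8]
def R4 : List ℕ := [6, 2, 6, 3, 2, 6, 4, 3, 2, 6, 1, 2, 6, 3, 2, 4, 3, 1, 2, 6, 8, 4, 3, 2, 6, 1, 2, 3, 4, 8]
def QH : List TQ := [⟨[2], 6, [3, 4, 7], 8⟩, ⟨[3, 2, 6], 7, [4], 8⟩, ⟨[4, 3, 2], 6, [7], 8⟩, ⟨[6], 7, [2, 3, 4], 8⟩]
noncomputable abbrev s : ℕ → Fi22 := tp φ x0 a0 S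

theorem okS : lall E.ok (a0 :: S) = true := by decide +kernel

theorem s_eq : ∀ j < 9, wv 9 Fi22G.f Fi3510.BW j = s j := fun j hj => by
  have h1 := (ok.ok ((lall_iff _ _).1 okS _ (nth_mem a0 S j))).2
  have h2 : E.one (lapp ((Fi3510.BW.getD j []).map (· / 2)) (rva (nth a0 S j).w [])) = true :=
    (by decide +kernel : ∀ j < 9,
      E.one (lapp ((Fi3510.BW.getD j []).map (· / 2)) (rva (nth a0 S j).w [])) = true) j hj
  have h3 := ok.one h2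
  rw [wd_lapp, wd_rva sq, wd_nil, mul_one, mul_inv_eq_one] at h3
  rw [s, tp, h1, ← h3, wv, atm_congr fun j hj => (f_eq j hj).symm,
    ev_atm_eq_wd f (by interval_cases j <;> decide)]

theorem gen : gsub 9 s = CC x0 := (gsub_congr s_eq).symm.trans cent.symm

theorem presS : Pres 9 9 U12672.RL s := Fi22G.presU.congr s_eq

theorem cardC : Nat.card (CC x0) = 2 * 9196830720 := by
  rw [← U693.cardP, ← Fi22G.coverU.card]
  exact congrArg (fun K : Subgroup Fi22 => Nat.card K) cent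

theorem base : ∃ π : CC x0 →* U693.P, Base x0 U693.P π ∧ ∀ j < 9, ∀ hj, π ⟨s j, hj⟩ = U693.p j := by
  haveI := U693.simpleP
  haveI := Fi22G.simple
  obtain ⟨ψ, h1, h2, h3⟩ := Fi22G.b2U.exists_cover (by norm_num) presS (g := U693.p)
    ⟨U693.presP.sq, fun l hl => U693.presP.rel l
      ((by decide +kernel : ∀ l ∈ U12672.RL, l ∈ U693.RL) l hl)⟩ (gsub_lift 9 _) U693.cardP
    (w := [0]) (U693.presP.rel _ (by decide +kernel)) (by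
      rw [ev_atm_eq_wd _ (by decide)]
      show pt φ x0 0 * 1 ≠ 1
      rw [pt_zero ok.act, mul_one, ← ex0]
      exact Fi22G.a_ne)
    ⟨1, by norm_num, 2, by norm_num, fun e => absurd ((ok.cm (a := c0) (k := 16)
      (by decide +kernel) (by norm_num)).2 e) (by decide +kernel)⟩
  obtain ⟨π, b, e⟩ := base_of Fi22G.perfect tt gen.symm
    (perfect_of_surj (inclusion (cent.symm.trans gen.symm).le) (fun ⟨x, hx⟩ =>
      ⟨⟨x, (cent.symm.trans gen.symm) ▸ hx⟩, rfl⟩) Fi22G.coverU.1) ψ h1 h2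
    ⟨_, (ok.isX (p := c0) (by decide +kernel)).2⟩
  refine ⟨π, b, fun j hj hm => ?_⟩
  rw [e _ (mem_gsub s hj), ← h3 j hj]
  exact congrArg ψ (Subtype.ext (lift_coe (mem_gsub s hj)).symm)

def R7 : List NP := [⟨40, [], 4⟩, ⟨43, [], 7⟩, ⟨154, [], 6⟩, ⟨47, [3, 7, 4, 3], 2⟩, ⟨155, [5, 4, 3, 7, 6, 5, 4, 3], 2⟩, ⟨637, [1, 2, 3, 7, 4, 5, 3, 4, 2, 3, 7, 6, 5, 4, 3, 2], 1⟩]
def R6 : List NP := [⟨40, [], 4⟩, ⟨43, [], 7⟩, ⟨47, [3, 7, 4, 3], 2⟩, ⟨59, [1, 2, 3, 7, 4, 3, 2, 1], 0⟩, sN]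
theorem r7 : relChk E (c0 :: R7) [] = true := by decide +kernel
theorem r6 : relChk E (c0 :: R6) E.xw = true := by decide +kernel
theorem gk : genChk E a0 S 9 c0 U693.BW [a0, c0, ⟨40, [], 4⟩, ⟨88, [], 5⟩, ⟨154, [], 6⟩, ⟨43, [], 7⟩, ⟨92, [], 8⟩, sN, ⟨47, [3, 2, 4, 3], 7⟩] = true := by decide +kernel
theorem ck1 : coxChk E c0 T1 UC0 UB 9 = true := by decide +kernel
theorem ck2 : coxChk E c0 T2 UC0 UB 9 = true := by decide +kernel
theorem ck3 : coxChk E c0 T3 UC0 UB 9 = true := by decide +kernel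

theorem presOf {G : Type*} [Group G] {g : ℕ → G} (c : Cox UC0 UB g) (h1 : wd g R1 = 1)
    (h2 : wd g R2 = 1) (h3 : wd g R3 = 1) (h4 : ∀ u, u * wd g R4 = wd g R4 * u)
    (h5 : wd g R4 * wd g R4 = 1) : Pres 9 9 U12672.RL fun j => if j = 0 then wd g R4 else g j := by
  have hw : ∀ w : List ℕ, (∀ j ∈ w, j ≠ 0) →
      wd (fun j => if j = 0 then wd g R4 else g j) w = wd g w :=
    fun w h => wd_congr fun j hj => if_neg (h j hj)
  refine Cox.pres (CM := UC) (BR := UB) (SP := [R1, R2, R3, R4 ++ [0]]) (Cox.of_lt (n := 9)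
    (by decide) (by decide) (by decide) (by decide) (fun j => ?_) (fun s hs t ht e => ?_)
    fun s hs t ht e => ?_) (by decide +kernel) ?_
  · split_ifs
    exacts [h5, c.sq j]
  · split_ifs with a1 a2 a2
    exacts [rfl, (h4 _).symm, h4 _, c.cm s t ((by decide : ∀ s < 9, ∀ t < 9, s ≠ 0 → t ≠ 0 →
      tbit UC s t = true → tbit UC0 s t = true) s hs t ht a1 a2 e)]
  · obtain ⟨a1, a2⟩ := (by decide : ∀ s < 9, ∀ t < 9, tbit UB s t = true → s ≠ 0 ∧ t ≠ 0) s hs t ht e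
    rw [if_neg a1, if_neg a2]
    exact c.br s t e
  · simp only [List.mem_cons, List.not_mem_nil, or_false, forall_eq_or_imp, forall_eq]
    refine ⟨(hw _ (by decide)).trans h1, (hw _ (by decide)).trans h2, (hw _ (by decide)).trans h3, ?_⟩
    rw [wd_append, hw _ (by decide)]
    simpa using h5

variable {π : CC x0 →* U693.P} (b : Base x0 U693.P π)
include b

theorem base2 : Base2 x0 :=
  ok.base2 b (by norm_num) r7 (by decide) (k1 := c0) (k2 := ⟨92, [], 8⟩) (r := ⟨40, [], 4⟩)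
    (y := ⟨88, [], 5⟩) (by decide +kernel)

theorem identT {H : Type} [Group H] [Finite H] {d : H} {π' : H →* U693.P} (e : Ext d π')
    (pH : commutator H = ⊤) {T : List NP} (t : Tup E f φ x0 3510 c0 T UC0 UB)
    (h1 : wd (tp φ x0 c0 T) R1 = 1 ∨ wd (tp φ x0 c0 T) R1 = x0)
    (h2 : lall (ncChk E c0 T) QH = true) (h2' : E.one (sbw c0 T R2) = true)
    (h4 : wd (tp φ x0 c0 T) R4 = 1 ∨ wd (tp φ x0 c0 T) R4 = x0) {lam : Fi22 → H}
    (hl : Lam π π' lam) (h3 : wd (fun j => lam (tp φ x0 c0 T j)) R3 = 1) :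
    ∃ ψ : CC x0 ≃* H, ψ ⟨x0, self_mem_CC x0⟩ = d := by
  have key : ∀ lam : Fi22 → H, Lam π π' lam → wd (fun j => lam (tp φ x0 c0 T j)) R3 = 1 →
      wd (fun j => lam (tp φ x0 c0 T j)) R1 = 1 →
      ∃ ψ : CC x0 ≃* H, ψ ⟨x0, self_mem_CC x0⟩ = d := fun lam hl h3 h1 => by
    have k := hl.pi_one b t.xx h4
    obtain ⟨ψ, h2, -⟩ := ident b e pH (cardC ▸ Fi22G.b2U) presS gen
      (presOf (hl.cox t.xx t.cox) h1 (t.tau ok b e hl (bs := [[1099505353728, 1099508484096, 1098970042368], [1099476501504, 1099242405888], [1099375448064], []]) (b := 18437160728080154624) h2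
        (by decide +kernel) (by decide +kernel) h2') h3 (e.cen_ker k) (e.sq_ker k))
      (j0 := 1) (by norm_num) (by
        rw [if_neg one_ne_zero, hl.pi (t.xx 1)]; exact b.pi_ne (t.xx 1))
    exact ⟨ψ, h2⟩
  refine (hl.choose b e t.xx h1 (by decide)).elim (key _ hl h3) (key _ (hl.flip e) ?_)
  rw [wd_twist e.cen, h3, show R3.length = 2 * 15 from rfl, pow_mul, pow_two, e.sq, one_pow, one_mul]

theorem ident1 (hp : ∀ j < 9, ∀ hj, π ⟨s j, hj⟩ = U693.p j) (H : Type) [Group H] [Finite H]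
    (d : H) (π' : H →* U693.P) (e : Ext d π') (pH : commutator H = ⊤) :
    ∃ ψ : CC x0 ≃* H, ψ ⟨x0, self_mem_CC x0⟩ = d := by
  have t1 := ok.tup b (by decide) (by decide) (by decide) (by decide) ck1
  have t2 := ok.tup b (by decide) (by decide) (by decide) (by decide) ck2
  have t3 := ok.tup b (by decide) (by decide) (by decide) (by decide) ck3
  obtain ⟨lam, hl⟩ := ok.lam b (ok.isX (p := c0) (by decide +kernel)).2
    (ok.hgen b okS (fun j hj => gen ▸ mem_gsub s hj) hp U693.coatomP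
    (x1 := c0) (by decide +kernel) gk) (Or.inr rfl) r6 (by decide) r7 (by decide) e
  have v4 := t1.eqx ok (w := R4) (by decide +kernel)
  rcases e.ker _ (hl.pi_one b t1.xx (w := R3) (Or.inl (t1.one ok (by decide +kernel)))) with h3 | h3
  · exact identT b e pH t1 (Or.inl (t1.one ok (by decide +kernel))) (by decide +kernel)
      (by decide +kernel) (Or.inr v4) hl h3
  rcases e.ker _ (hl.pi_one b t1.xx (Or.inr v4)) with h4 | h4
  · refine identT b e pH t2 (Or.inr (t2.eqx ok (by decide +kernel))) (by decide +kernel)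
      (by decide +kernel) (Or.inl (t2.one ok (by decide +kernel))) hl ?_
    rw [← h4]
    exact (t1.frame t2 ok hl (Q := [⟨[], 8, [], 6⟩, ⟨[], 3, [], 3⟩, ⟨[], 1, [], 5⟩, ⟨[], 6, [], 8⟩, ⟨[2, 3, 1, 2], 6, [4, 3, 5, 4], 8⟩, ⟨[4, 3, 2, 1, 8, 4, 3, 2], 6, [2, 3, 4, 5, 6, 2, 3, 4], 8⟩])
      (b := 1152921503533105152) (b' := 1152921503533105152) (by decide +kernel) (by decide +kernel)
      (by decide +kernel)).symm
  · refine identT b e pH t3 (Or.inl (t3.one ok (by decide +kernel))) (by decide +kernel)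
      (by decide +kernel) (Or.inr (t3.eqx ok (by decide +kernel))) hl ?_
    rw [← t1.frame t3 ok hl (w := lapp R3 R4) (Q := [⟨[], 5, [], 6⟩, ⟨[4, 3, 2, 1, 6, 2, 3, 4], 8, [], 3⟩, ⟨[4, 3, 5, 4], 8, [], 5⟩, ⟨[2, 1, 3, 2], 6, [], 8⟩, ⟨[2, 3, 4, 5, 6, 2, 3, 4], 8, [4, 3, 5, 4], 8⟩, ⟨[], 1, [2, 3, 4, 5, 6, 2, 3, 4], 8⟩])
      (b := 20769126155826071433376283767078912) (b' := 1152921503533105152) (by decide +kernel) (by decide +kernel)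
      (by decide +kernel), wd_lapp, h3, h4, e.sq]

end M22

end Cfsg.Agent.Fx
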