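import Cfsg.Agent.Fx.KL
import Cfsg.Agent.Spor.DC

/-!
A simple group with a class of 3-transpositions whose centralisers are double covers of a simple
group: transitivity properties.
-/
set_option autoImplicit false

namespace Cfsg.Agent.Fx

open Cfsg.Agent.Fis Cfsg.Agent.Spor Subgroup

theorem prim_of_simple {G : Type*} [Group G] [IsSimpleGroup G] (hp : commutator G = ⊤) {D : Set G}
    [TT D] (hD : Cfsg.IsThreeTranspositionClass D) : Prim D := by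
  refine prim_of (fun N hN hs => ?_) (by rw [hp]; exact (commutator_def G).symm.trans hp) hD
  rcases hN.eq_bot_or_eq_top with h | h
  · exact h
  · subst h
    have h1 : ⁅(⊤ : Subgroup G), ⊤⁆ = ⊤ := (commutator_def G).symm.trans hp
    exact Comp.perfect_solvable_eq_bot h1 hs

variable {F : Type*} [Group F]

/-- the conjugates of `x0` commuting with it and different from it -/
structure XX (x0 y : F) : Prop where
  c : IsConj x0 y
  m : y * x0 = x0 * y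
  n : y ≠ x0

abbrev CC (x0 : F) : Subgroup F := centralizer {x0}

theorem mem_CC {x0 h : F} : h ∈ CC x0 ↔ h * x0 = x0 * h := mem_centralizer_singleton_iff

theorem XX.mem {x0 y : F} (h : XX x0 y) : y ∈ CC x0 := mem_CC.2 h.2

theorem self_mem_CC (x0 : F) : x0 ∈ CC x0 := mem_CC.2 rfl

theorem XX.conj {x0 y h : F} (hy : XX x0 y) (hh : h ∈ CC x0) : XX x0 (h * y * h⁻¹) := by
  have e : h * x0 * h⁻¹ = x0 := by rw [mem_CC.1 hh]; group
  refine ⟨hy.1.trans (isConj_iff.2 ⟨h, rfl⟩), mem_CC.1 ((CC x0).mul_mem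
    ((CC x0).mul_mem hh hy.mem) ((CC x0).inv_mem hh)), fun e2 => hy.3 ?_⟩
  rw [← e] at e2
  simpa using e2

structure Base (x0 : F) (L : Type*) [Group L] (π : CC x0 →* L) : Prop where
  simple : IsSimpleGroup F
  perf : commutator F = ⊤
  tt : Cfsg.IsThreeTranspositionClass (conjugatesOf x0)
  sL : IsSimpleGroup L
  pH : commutator (CC x0) = ⊤
  surj : Function.Surjective π
  ker : Nat.card π.ker = 2
  ex : ∃ y, XX x0 y

namespace Base
variable [Finite F] {x0 : F} {L : Type*} [Group L] {π : CC x0 →* L} (h : Base x0 L π)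
include h

omit [Finite F] in
theorem tr : Tr (conjugatesOf x0) := by
  haveI := tt_of_class h.tt
  exact tr_of_tt _

omit [Finite F] in
theorem ne_one : x0 ≠ 1 := h.tr.ne _ (IsConj.refl _)

omit [Finite F] in
theorem sq : x0 * x0 = 1 := h.tr.sq _ (IsConj.refl _)

omit [Finite F] in
theorem pL : commutator L = ⊤ := perfect_of_surj π h.surj h.pH

omit [Finite F] in
theorem pi_x0 : π ⟨x0, self_mem_CC x0⟩ = 1 := by
  haveI := h.sL
  rw [← mem_bot, ← center_eq_bot_of_simple h.pL, mem_center_iff]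
  intro l
  obtain ⟨g, rfl⟩ := h.surj l
  rw [← map_mul, ← map_mul]
  exact congrArg π (Subtype.ext (mem_CC.1 g.2))

omit [Finite F] in
theorem ker_cases {g : CC x0} (hg : π g = 1) : g.1 = 1 ∨ g.1 = x0 :=
  (eq_of_card_two h.ker (z := ⟨x0, self_mem_CC x0⟩) h.pi_x0
    (fun e => h.ne_one (congrArg Subtype.val e)) hg).imp (congrArg Subtype.val)
    (congrArg Subtype.val)

theorem t1 {y y' : F} (hy : XX x0 y) (hy' : XX x0 y') : ∃ g ∈ CC x0, g * y * g⁻¹ = y' := by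
  haveI := tt_of_class h.tt
  haveI := h.simple
  obtain ⟨g, hg, e⟩ := (prim_of_simple h.perf h.tt).trD (x := ⟨x0, IsConj.refl _⟩)
    (y := ⟨y, hy.1⟩) (z := ⟨y', hy'.1⟩)
    ⟨fun e => hy.3 (congrArg Pt.t e), cm_iff.2 hy.2.symm⟩
    ⟨fun e => hy'.3 (congrArg Pt.t e), cm_iff.2 hy'.2.symm⟩
  exact ⟨g, mem_CC.2 (smul_eq_iff_commute.1 (HH_fix hg)), congrArg Pt.t e⟩

theorem sep {a b : F} (ha : IsConj x0 a) (hb : IsConj x0 b) (hab : a ≠ b) :
    ∃ x, IsConj x0 x ∧ x ≠ a ∧ a * x = x * a ∧ b * x ≠ x * b := by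
  haveI := tt_of_class h.tt
  haveI := h.simple
  obtain ⟨x, h1, h2, h3⟩ := (prim_of_simple h.perf h.tt).sep (a := ⟨a, ha⟩) (b := ⟨b, hb⟩)
    fun e => hab (congrArg Pt.t e)
  exact ⟨x.t, x.mem, fun e => h1 (Pt.ext e), cm_iff.1 h2, fun e => h3 (cm_iff.2 e)⟩

/-- a product of two members of the class is not in the class -/
theorem mul_not {a b c : F} (ha : IsConj x0 a) (hb : IsConj x0 b) (hc : IsConj x0 c) :
    a * b ≠ c := by
  intro e
  have hab : a ≠ b := by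
    rintro rfl
    exact h.tr.ne _ hc (e ▸ h.tr.sq _ ha)
  have hca : c ≠ a := by
    rintro rfl
    exact h.tr.ne _ hb (by simpa using e)
  obtain ⟨x, h1, -, h2, h3⟩ := h.sep hc ha hca
  exact h3 (h.tr.k2 ha hb h1 hab (e ▸ h2)).1

theorem inj {y y' : F} (hy : XX x0 y) (hy' : XX x0 y')
    (e : π ⟨y, hy.mem⟩ = π ⟨y', hy'.mem⟩) : y = y' := by
  have h1 : π (⟨y, hy.mem⟩ * ⟨y', hy'.mem⟩) = 1 := by
    rw [map_mul, e, ← map_mul, ← map_one π]
    exact congrArg π (Subtype.ext (h.tr.sq _ hy'.1))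
  rcases h.ker_cases h1 with h2 | h2
  · have h3 : y * y' = 1 := h2
    rw [← inv_eq_of_mul_eq_one_right h3, inv_eq_of_mul_eq_one_right (h.tr.sq _ hy.1)]
  · exact absurd h2 (h.mul_not hy.1 hy'.1 (IsConj.refl _))

omit [Finite F] in
theorem pi_sq {y : F} (hy : XX x0 y) : π ⟨y, hy.mem⟩ * π ⟨y, hy.mem⟩ = 1 := by
  rw [← map_mul, ← map_one π]
  exact congrArg π (Subtype.ext (h.tr.sq _ hy.1))

omit [Finite F] in
theorem pi_ne {y : F} (hy : XX x0 y) : π ⟨y, hy.mem⟩ ≠ 1 := fun e =>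
  (h.ker_cases e).elim (h.tr.ne _ hy.1) hy.3

theorem comm_of {y y' : F} (hy : XX x0 y) (hy' : XX x0 y')
    (e : π ⟨y, hy.mem⟩ * π ⟨y', hy'.mem⟩ = π ⟨y', hy'.mem⟩ * π ⟨y, hy.mem⟩) : y * y' = y' * y := by
  rcases h.tr.three _ hy.1 _ hy'.1 with h1 | h1
  · exact h1
  · have h2 : π ⟨y, hy.mem⟩ * π ⟨y', hy'.mem⟩ * π ⟨y, hy.mem⟩ =
        π ⟨y', hy'.mem⟩ * π ⟨y, hy.mem⟩ * π ⟨y', hy'.mem⟩ := by
      simp only [← map_mul]
      exact congrArg π (Subtype.ext h1)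
    rw [e, mul_assoc, h.pi_sq hy, ← e, mul_assoc, h.pi_sq hy', mul_one, mul_one] at h2
    rw [h.inj hy' hy h2]

theorem mem_DL {x1 : F} (h1 : XX x0 x1) {l : L} :
    l ∈ conjugatesOf (π ⟨x1, h1.mem⟩) ↔ ∃ y, ∃ hy : XX x0 y, l = π ⟨y, hy.mem⟩ := by
  show IsConj _ l ↔ _
  rw [isConj_iff]
  constructor
  · rintro ⟨c, rfl⟩
    obtain ⟨g, rfl⟩ := h.surj c
    refine ⟨_, h1.conj g.2, ?_⟩
    rw [← map_inv, ← map_mul, ← map_mul]; rfl
  · rintro ⟨y, hy, rfl⟩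
    obtain ⟨g, hg, rfl⟩ := h.t1 h1 hy
    refine ⟨π ⟨g, hg⟩, ?_⟩
    rw [← map_inv, ← map_mul, ← map_mul]; rfl

theorem ttL {x1 : F} (h1 : XX x0 x1) :
    Cfsg.IsThreeTranspositionClass (conjugatesOf (π ⟨x1, h1.mem⟩)) := by
  haveI := h.sL
  refine ⟨⟨fun d hd => ?_, fun d hd e he => ?_⟩, ⟨_, IsConj.refl _, rfl⟩,
    closure_conjugatesOf (h.pi_ne h1)⟩
  · obtain ⟨y, hy, rfl⟩ := (h.mem_DL h1).1 hd
    exact orderOf_eq_prime (by rw [pow_two, h.pi_sq hy]) (h.pi_ne hy)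
  · obtain ⟨y, hy, rfl⟩ := (h.mem_DL h1).1 hd
    obtain ⟨z, hz, rfl⟩ := (h.mem_DL h1).1 he
    rw [← map_mul, ← map_pow, ← map_pow]
    refine (h.tt.1.2 y hy.1 z hz.1).imp (fun e => ?_) (fun e => ?_)
    · rw [← map_one π]; exact congrArg π (Subtype.ext e)
    · rw [← map_one π]; exact congrArg π (Subtype.ext e)

theorem finL : Finite L := Finite.of_surjective π h.surj

theorem t2 {y1 y y' : F} (h1 : XX x0 y1) (hy : XX x0 y) (hy' : XX x0 y') (n1 : y ≠ y1)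
    (n2 : y' ≠ y1) (c1 : y1 * y = y * y1) (c2 : y1 * y' = y' * y1) :
    ∃ g ∈ CC x0, g * y1 * g⁻¹ = y1 ∧ g * y * g⁻¹ = y' := by
  haveI := tt_of_class (h.ttL h1)
  haveI := h.sL
  haveI := h.finL
  have cm : ∀ {z} (hz : XX x0 z), y1 * z = z * y1 → Commute (π ⟨y1, h1.mem⟩) (π ⟨z, hz.mem⟩) :=
    fun hz e => by
      show _ = _
      rw [← map_mul, ← map_mul]; exact congrArg π (Subtype.ext e)
  obtain ⟨g, hg, e⟩ := (prim_of_simple h.pL (h.ttL h1)).trD (x := ⟨_, IsConj.refl _⟩)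
    (y := ⟨_, (h.mem_DL h1).2 ⟨y, hy, rfl⟩⟩) (z := ⟨_, (h.mem_DL h1).2 ⟨y', hy', rfl⟩⟩)
    ⟨fun e => n1 (h.inj hy h1 (congrArg Pt.t e)), cm_iff.2 (cm hy c1)⟩
    ⟨fun e => n2 (h.inj hy' h1 (congrArg Pt.t e)), cm_iff.2 (cm hy' c2)⟩
  have e1 := congrArg Pt.t (HH_fix hg)
  have e2 := congrArg Pt.t e
  obtain ⟨k, rfl⟩ := h.surj g
  refine ⟨k, k.2, h.inj (h1.conj k.2) h1 ?_, h.inj (hy.conj k.2) hy' ?_⟩
  · rw [smul_t, ← map_inv, ← map_mul, ← map_mul] at e1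
    exact e1
  · rw [smul_t, ← map_inv, ← map_mul, ← map_mul] at e2
    exact e2

theorem e1 {y y' : F} (hy : XX x0 y) (hy' : XX x0 y') :
    ∃ w, XX x0 w ∧ w * y = y * w ∧ w * y' = y' * w := by
  haveI := tt_of_class (h.ttL hy)
  haveI := h.sL
  haveI := h.finL
  obtain ⟨w, h1, h2⟩ := (prim_of_simple h.pL (h.ttL hy)).exists_DD ⟨_, IsConj.refl _⟩
    ⟨_, (h.mem_DL hy).2 ⟨y', hy', rfl⟩⟩
  obtain ⟨z, hz, e⟩ := (h.mem_DL hy).1 w.mem
  refine ⟨z, hz, h.comm_of hz hy ?_, h.comm_of hz hy' ?_⟩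
  · rw [← e]; exact (cm_iff.1 h1).eq
  · rw [← e]; exact (cm_iff.1 h2).eq

/-- a point not commuting with a given one in the local class -/
theorem exists_nc {y : F} (hy : XX x0 y) : ∃ w, XX x0 w ∧ w * y ≠ y * w := by
  obtain ⟨x, h1, h2, h3, h4⟩ := h.sep (IsConj.refl _) hy.1 (Ne.symm hy.3)
  exact ⟨x, ⟨h1, h3.symm, h2⟩, fun e => h4 e.symm⟩

end Base

end Cfsg.Agent.Fx
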