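import Cfsg.Agent.Fx.Tab

/-!
A checker for word identities that follow from the relations of a simply laced Coxeter diagram.
-/
set_option autoImplicit false

namespace Cfsg.Agent.Fx

open Cfsg.Agent.Spor

noncomputable section

def tbit (R : List ℕ) (s t : ℕ) : Bool :=
  Nat.beq (Nat.land (Nat.shiftRight (nth (nat_lit 0) R s) t) (nat_lit 1)) (nat_lit 1)

def omap (t : ℕ) (o : Option (List ℕ)) : Option (List ℕ) :=
  Option.rec none (fun w => some (t :: w)) o

def omap2 (t s : ℕ) (o : Option (List ℕ)) : Option (List ℕ) :=
  Option.rec none (fun w => some (t :: s :: w)) o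

/-- rewrite the reversed word so that it ends in `s`, and drop that letter -/
def endw (CM BR : List ℕ) (fuel : ℕ) : ℕ → List ℕ → Option (List ℕ) :=
  Nat.rec (fun _ _ => none) (fun _ ih s l =>
    List.rec none (fun t w _ =>
      Bool.rec
        (Bool.rec
          (Bool.rec none (Option.rec none (fun w1 => omap2 t s (ih t w1)) (ih s w)) (tbit BR s t))
          (omap t (ih s w)) (tbit CM s t))
        (some w) (Nat.beq s t)) l) fuel

def brun (CM BR : List ℕ) (w : List ℕ) : ℕ → List ℕ → Bool :=
  List.rec (fun _ st => List.rec true (fun _ _ _ => false) st)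
    (fun s _ ih bits st =>
      Bool.rec
        (Option.rec false (fun st' => ih (Nat.shiftRight bits (nat_lit 1)) st')
          (endw CM BR (nat_lit 400) s st))
        (ih (Nat.shiftRight bits (nat_lit 1)) (s :: st))
        (Nat.beq (Nat.land bits (nat_lit 1)) (nat_lit 0))) w

end

section
variable {G : Type*} [Group G]

/-- the relations of a diagram given by its commutation and braid tables -/
structure Cox (CM BR : List ℕ) (g : ℕ → G) : Prop where
  sq : ∀ j, g j * g j = 1
  cm : ∀ s t, tbit CM s t = true → g s * g t = g t * g s
  br : ∀ s t, tbit BR s t = true → g s * g t * g s = g t * g s * g t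

variable {CM BR : List ℕ} {g : ℕ → G}

theorem endw_sound (h : Cox CM BR g) (fuel s : ℕ) (l w' : List ℕ)
    (e : endw CM BR fuel s l = some w') : evA g l.reverse.reverse.reverse.reverse = evA g l ∧
      wd g l.reverse = wd g w'.reverse * g s := by
  refine ⟨by simp, ?_⟩
  induction fuel generalizing s l w' with
  | zero => cases e
  | succ n ih =>
    cases l with
    | nil => cases e
    | cons t w =>
      have e' : (Bool.rec
        (Bool.rec
          (Bool.rec none (Option.rec none (fun w1 => omap2 t s (endw CM BR n t w1))
            (endw CM BR n s w)) (tbit BR s t))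
          (omap t (endw CM BR n s w)) (tbit CM s t))
        (some w) (Nat.beq s t) : Option (List ℕ)) = some w' := e
      rw [List.reverse_cons, wd_append, wd_cons, wd_nil, mul_one]
      cases h1 : Nat.beq s t with
      | true =>
        rw [h1] at e'
        obtain rfl := Nat.eq_of_beq_eq_true h1
        obtain rfl : w = w' := Option.some.inj e'
        rfl
      | false =>
        rw [h1] at e'
        cases h2 : tbit CM s t with
        | true =>
          rw [h2] at e'
          cases h3 : endw CM BR n s w with
          | none => rw [h3] at e'; cases e'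
          | some w1 =>
            rw [h3] at e'
            obtain rfl : t :: w1 = w' := Option.some.inj e'
            rw [ih _ _ _ h3, List.reverse_cons, wd_append, wd_cons, wd_nil, mul_one, mul_assoc,
              mul_assoc, h.cm s t h2]
        | false =>
          rw [h2] at e'
          cases h4 : tbit BR s t with
          | false => rw [h4] at e'; cases e'
          | true =>
            rw [h4] at e'
            cases h3 : endw CM BR n s w with
            | none => rw [h3] at e'; cases e'
            | some w1 =>
              rw [h3] at e'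
              cases h5 : endw CM BR n t w1 with
              | none =>
                have e'' : omap2 t s (endw CM BR n t w1) = some w' := e'
                rw [h5] at e''; cases e''
              | some w2 =>
                have e'' : omap2 t s (endw CM BR n t w1) = some w' := e'
                rw [h5] at e''
                obtain rfl : t :: s :: w2 = w' := Option.some.inj e''
                rw [ih _ _ _ h3, ih _ _ _ h5]
                simp only [List.reverse_cons, wd_append, wd_cons, wd_nil, mul_one]
                calc wd g w2.reverse * g t * g s * g t = wd g w2.reverse * (g t * g s * g t) := by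
                      group
                  _ = _ := by rw [← h.br s t h4]; group

theorem brun_aux (h : Cox CM BR g) (w : List ℕ) (bits : ℕ) (st : List ℕ)
    (e : brun CM BR w bits st = true) : wd g st.reverse * wd g w = 1 := by
  induction w generalizing bits st with
  | nil =>
    cases st with
    | nil => simp
    | cons a l => cases e
  | cons s w ih =>
    have e' : (Bool.rec
        (Option.rec false (fun st' => brun CM BR w (Nat.shiftRight bits 1) st')
          (endw CM BR 400 s st))
        (brun CM BR w (Nat.shiftRight bits 1) (s :: st))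
        (Nat.beq (Nat.land bits 1) 0) : Bool) = true := e
    cases h1 : Nat.beq (Nat.land bits 1) 0 with
    | true =>
      rw [h1] at e'
      have := ih _ _ e'
      rw [List.reverse_cons, wd_append, wd_cons, wd_nil, mul_one, mul_assoc] at this
      rw [wd_cons, this]
    | false =>
      rw [h1] at e'
      cases h2 : endw CM BR 400 s st with
      | none => rw [h2] at e'; cases e'
      | some st' =>
        rw [h2] at e'
        have := ih _ _ e'
        rw [(endw_sound h _ _ _ _ h2).2, wd_cons, mul_assoc, ← mul_assoc (g s), h.sq, one_mul, this]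

theorem Cox.one (h : Cox CM BR g) {w : List ℕ} {bits : ℕ} (e : brun CM BR w bits [] = true) :
    wd g w = 1 := by
  simpa using brun_aux h w bits [] e

theorem Cox.eq (h : Cox CM BR g) {u v : List ℕ} {bits : ℕ}
    (e : brun CM BR (lapp u (rva v [])) bits [] = true) : wd g u = wd g v := by
  have := h.one e
  rwa [wd_lapp, wd_rva h.sq, wd_nil, mul_one, mul_inv_eq_one] at this

theorem Cox.comm (h : Cox CM BR g) {u v : List ℕ} {bits : ℕ}
    (e : brun CM BR (lapp (lapp u v) (rva (lapp v u) [])) bits [] = true) :
    wd g u * wd g v = wd g v * wd g u := by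
  have := h.eq e
  rwa [wd_lapp, wd_lapp] at this

theorem tbit_lt {R : List ℕ} {n : ℕ} (hl : R.length ≤ n) (hR : ∀ r ∈ R, r < 2 ^ n) {s t : ℕ}
    (h : tbit R s t = true) : s < n ∧ t < n := by
  have e : Nat.land (Nat.shiftRight (nth 0 R s) t) 1 = 1 := Nat.eq_of_beq_eq_true h
  have e2 : (nth 0 R s).testBit t = true := by
    have : (Nat.land (Nat.shiftRight (nth 0 R s) t) 1).testBit 0 = true := by rw [e]; rfl
    rw [tb_land, tb_shr] at this
    simpa using (Bool.and_eq_true _ _ ▸ this).1
  rw [nth_eq] at e2
  by_cases hs : s < R.length
  · refine ⟨by omega, ?_⟩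
    rw [List.getD_eq_getElem _ _ hs] at e2
    by_contra ht
    rw [Nat.testBit_lt_two_pow ((hR _ (List.getElem_mem hs)).trans_le
      (Nat.pow_le_pow_right (by norm_num) (by omega)))] at e2
    cases e2
  · rw [List.getD_eq_default _ _ (by omega)] at e2
    simp at e2

theorem Cox.of_lt {n : ℕ} (h1 : CM.length ≤ n) (h2 : ∀ r ∈ CM, r < 2 ^ n) (h3 : BR.length ≤ n)
    (h4 : ∀ r ∈ BR, r < 2 ^ n) (sq : ∀ j, g j * g j = 1)
    (cm : ∀ s < n, ∀ t < n, tbit CM s t = true → g s * g t = g t * g s)
    (br : ∀ s < n, ∀ t < n, tbit BR s t = true → g s * g t * g s = g t * g s * g t) :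
    Cox CM BR g :=
  ⟨sq, fun s t h => cm s (tbit_lt h1 h2 h).1 t (tbit_lt h1 h2 h).2 h,
    fun s t h => br s (tbit_lt h3 h4 h).1 t (tbit_lt h3 h4 h).2 h⟩

theorem prod_cube {l : List G} (hc : l.Pairwise Commute) (h3 : ∀ x ∈ l, x ^ 3 = 1) :
    l.prod ^ 3 = 1 := by
  induction l with
  | nil => simp
  | cons a l ih =>
    rw [List.pairwise_cons] at hc
    rw [List.prod_cons, (Commute.list_prod_right _ _ hc.1).mul_pow, h3 a List.mem_cons_self,
      ih hc.2 fun x hx => h3 x (List.mem_cons_of_mem _ hx), mul_one]

end

end Cfsg.Agent.Fx
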