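import Cfsg.Agent.Fx.Tab
import Cfsg.Agent.Spor.Seq

/-!
Elements of an elementary abelian 2-group coded by natural numbers, linear maps on the codes, and
checkers for orbits and for fixed spaces.
-/
set_option autoImplicit false

namespace Cfsg.Agent.Fx

open Cfsg.Agent.Spor

noncomputable section

def lin (L : List ℕ) : ℕ → ℕ :=
  List.rec (fun _ => nat_lit 0) (fun a _ ih c =>
    Nat.xor (Nat.mul a (Nat.land c (nat_lit 1))) (ih (Nat.shiftRight c (nat_lit 1)))) L

def cmp (A B : List ℕ) : List ℕ := lmap (lin A) B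

def pows (r : ℕ) : ℕ → List ℕ :=
  Nat.rec (fun _ => []) (fun _ ih s => s :: ih (Nat.mul (nat_lit 2) s)) r

def linW (r : ℕ) (GN : List (List ℕ)) (w : List ℕ) : List ℕ :=
  List.rec (pows r 1) (fun j _ ih => cmp (nth (pows r 1) GN j) ih) w

def tyf (ty c : ℕ) : ℕ := Nat.land (Nat.shiftRight ty (Nat.mul (nat_lit 4) c)) (nat_lit 15)

def tb (x i : ℕ) : Bool := Nat.beq (Nat.land (Nat.shiftRight x i) (nat_lit 1)) (nat_lit 1)

def orbStep (ty c c' acc : ℕ) (k : ℕ → Bool) : Bool :=
  band (band (tb acc c) (Nat.beq (tyf ty c') (tyf ty c))) (k (Nat.lor acc (Nat.shiftLeft 1 c')))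

def orbGo (D : List ℕ) (GN : List (List ℕ)) (ty tgt : ℕ) (steps : List ℕ) : ℕ → Bool :=
  List.rec (fun acc => sub tgt acc) (fun s _ ih acc =>
    orbStep ty (Nat.shiftRight s (nat_lit 3))
      (lin (nth D GN (Nat.land s (nat_lit 7))) (Nat.shiftRight s (nat_lit 3))) acc ih) steps

def maskOf (l : List ℕ) : ℕ := List.rec 0 (fun a _ ih => Nat.lor (Nat.shiftLeft 1 a) ih) l

def orbChk (r : ℕ) (GN : List (List ℕ)) (ty : ℕ) (reps steps : List ℕ) : Bool :=
  band (lall (fun a => Nat.beq (nth 0 reps (tyf ty a)) a) reps)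
    (orbGo (pows r 1) GN ty (Nat.xor (ones (Nat.shiftLeft 1 r)) 1) steps (maskOf reps))

/-- spread mask of the codes on which the linear map takes the value `v` -/
def fmGo (Ds : List ℕ) : ℕ → ℕ → ℕ :=
  List.rec (fun v _ => Bool.rec (nat_lit 0) (nat_lit 1) (Nat.beq v (nat_lit 0)))
    (fun D _ ih v s => Nat.add (ih v (Nat.mul (nat_lit 2) s))
      (Nat.shiftLeft (ih (Nat.xor v D) (Nat.mul (nat_lit 2) s)) s)) Ds

def zx (A : List ℕ) : List ℕ → List ℕ :=
  List.rec (fun _ => []) (fun a _ ih B => List.rec [] (fun b B' _ => Nat.xor a b :: ih B') B) A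

def fm (r : ℕ) (L : List ℕ) : ℕ := fmGo (zx L (pows r 1)) 0 12

def cntL (p : ℕ → Bool) (l : List ℕ) : ℕ :=
  List.rec (nat_lit 0) (fun a _ ih => Bool.rec ih (Nat.succ ih) (p a)) l

def offOk (S n : ℕ) (FM : List ℕ) (dep : ℕ) : ℕ → Bool :=
  Nat.rec (fun W => Nat.ble (Nat.succ (Nat.mul (Nat.mod W 4095) n)) S)
    (fun _ ih W => Bool.rec
      (band (Nat.ble (Nat.succ (Nat.mul (Nat.mod W 4095) (cntL (sub W) FM))) S)
        (lall (fun x => Bool.rec (ih (Nat.land W x)) true (sub W x)) FM))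
      true (Nat.ble (Nat.succ (Nat.mul (Nat.mod W 4095) n)) S)) dep

def cntR (p : ℕ → Bool) (n : ℕ) : ℕ :=
  Nat.rec (nat_lit 0) (fun a ih => Bool.rec ih (Nat.succ ih) (p a)) n

def allR (p : ℕ → Bool) (n : ℕ) : Bool := Nat.rec true (fun a ih => band (p a) ih) n

def xorL (l : List ℕ) : ℕ := List.rec (nat_lit 0) (fun a _ ih => Nat.xor a ih) l

end

theorem lin_cons (a : ℕ) (L : List ℕ) (c : ℕ) :
    lin (a :: L) c = (a * (c % 2)) ^^^ lin L (c / 2) := by
  show (a * (c &&& 1)) ^^^ lin L (c >>> 1) = _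
  rw [Nat.and_one_is_mod, Nat.shiftRight_one]

theorem lin_zero (L : List ℕ) : lin L 0 = 0 := by
  induction L with
  | nil => rfl
  | cons a L ih => simp [lin_cons, ih]

theorem xor_mod_two (a b : ℕ) : (a ^^^ b) % 2 = (a % 2 + b % 2) % 2 := by
  rw [Nat.xor_mod_two_eq, Nat.add_mod]

theorem lin_xor (L : List ℕ) (a b : ℕ) : lin L (a ^^^ b) = lin L a ^^^ lin L b := by
  induction L generalizing a b with
  | nil => simp [lin]
  | cons x L ih =>
    rw [lin_cons, lin_cons, lin_cons, Nat.xor_div_two, ih, xor_mod_two]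
    rcases Nat.mod_two_eq_zero_or_one a with h | h <;>
      rcases Nat.mod_two_eq_zero_or_one b with h' | h' <;> simp only [h, h'] <;>
      simp [Nat.xor_assoc, Nat.xor_left_comm]

theorem lin_lt {L : List ℕ} {r : ℕ} (h : ∀ a ∈ L, a < 2 ^ r) (c : ℕ) : lin L c < 2 ^ r := by
  induction L generalizing c with
  | nil => exact Nat.two_pow_pos r
  | cons x L ih =>
    rw [lin_cons]
    refine Nat.xor_lt_two_pow ?_ (ih (fun a ha => h a (List.mem_cons_of_mem _ ha)) _)
    rcases Nat.mod_two_eq_zero_or_one c with h' | h' <;> simp [h', h x List.mem_cons_self]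

theorem lin_cmp (A B : List ℕ) (c : ℕ) : lin (cmp A B) c = lin A (lin B c) := by
  induction B generalizing c with
  | nil => exact (lin_zero A).symm
  | cons x B ih =>
    show lin (lin A x :: cmp A B) c = _
    rw [lin_cons, lin_cons, lin_xor, ih]
    rcases Nat.mod_two_eq_zero_or_one c with h' | h' <;> simp [h', lin_zero]

theorem pows_succ (r s : ℕ) : pows (r + 1) s = s :: pows r (2 * s) := rfl

theorem len_pows (r s : ℕ) : (pows r s).length = r := by
  induction r generalizing s with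
  | zero => rfl
  | succ r ih => rw [pows_succ, List.length_cons, ih]

theorem lin_pows (r k c : ℕ) : lin (pows r (2 ^ k)) c = 2 ^ k * (c % 2 ^ r) := by
  induction r generalizing k c with
  | zero => simp [pows, lin, Nat.mod_one]
  | succ r ih =>
    have key : (c % 2) ^^^ (2 * (c / 2 % 2 ^ r)) = c % 2 ^ (r + 1) := by
      apply Nat.eq_of_testBit_eq
      intro i
      rw [Nat.testBit_xor, Nat.testBit_mod_two_pow, show c % 2 = c % 2 ^ 1 from rfl,
        Nat.testBit_mod_two_pow, show 2 * (c / 2 % 2 ^ r) = 2 ^ 1 * (c / 2 % 2 ^ r) from rfl,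
        Nat.testBit_two_pow_mul, Nat.testBit_mod_two_pow]
      cases i with
      | zero => simp
      | succ i => simp [Nat.testBit_succ]
    rw [pows_succ, lin_cons, ← pow_succ', ih, pow_succ 2 k, mul_assoc, ← key, mul_comm (2 ^ k),
      mul_comm (2 ^ k), mul_comm (2 ^ k), ← Nat.shiftLeft_eq, ← Nat.shiftLeft_eq,
      ← Nat.shiftLeft_eq, Nat.shiftLeft_xor_distrib]

theorem lin_id {r c : ℕ} (hc : c < 2 ^ r) : lin (pows r 1) c = c := by
  have := lin_pows r 0 c
  rwa [pow_zero, one_mul, Nat.mod_eq_of_lt hc] at this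

theorem pows_lt (r k : ℕ) : ∀ a ∈ pows r (2 ^ k), a < 2 ^ (r + k) := by
  induction r generalizing k with
  | zero => simp [pows]
  | succ r ih =>
    intro a ha
    rw [pows_succ, ← pow_succ'] at ha
    rcases List.mem_cons.1 ha with rfl | ha
    · exact Nat.pow_lt_pow_right (by norm_num) (by omega)
    · have := ih _ a ha
      rwa [show r + (k + 1) = r + 1 + k by omega] at this

theorem lin_zx {A B : List ℕ} (h : A.length = B.length) (c : ℕ) :
    lin (zx A B) c = lin A c ^^^ lin B c ∧ (zx A B).length = A.length := by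
  induction A generalizing B c with
  | nil => cases B with
    | nil => exact ⟨by simp [zx, lin], rfl⟩
    | cons => cases h
  | cons a A ih => cases B with
    | nil => cases h
    | cons b B =>
      have e : zx (a :: A) (b :: B) = (a ^^^ b) :: zx A B := rfl
      have h' : A.length = B.length := by simpa using h
      rw [e, lin_cons, lin_cons, lin_cons, (ih h' _).1, List.length_cons, List.length_cons,
        (ih h' 0).2]
      refine ⟨?_, rfl⟩
      rcases Nat.mod_two_eq_zero_or_one c with h' | h' <;> simp [h', Nat.xor_assoc, Nat.xor_left_comm]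

theorem tb_eq (x i : ℕ) : tb x i = x.testBit i := by
  show Nat.beq ((x >>> i) &&& 1) 1 = _
  rw [Nat.and_one_is_mod, ← Nat.add_zero i, ← Nat.testBit_shiftRight, Nat.testBit_zero]
  rcases Nat.mod_two_eq_zero_or_one (x >>> i) with h | h <;> simp [h] <;> rfl

theorem tb_maskOf (l : List ℕ) (i : ℕ) : (maskOf l).testBit i = true ↔ i ∈ l := by
  induction l with
  | nil => simp [maskOf]
  | cons a l ih =>
    show (Nat.lor (Nat.shiftLeft 1 a) (maskOf l)).testBit i = true ↔ _
    rw [tb_lor, tb_shl_one, Bool.or_eq_true, ih, decide_eq_true_iff, List.mem_cons, eq_comm]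

theorem orbGo_sound {D : List ℕ} {GN : List (List ℕ)} {ty tgt : ℕ} {P : ℕ → Prop}
    (hP : ∀ j c, P c → tyf ty (lin (nth D GN j) c) = tyf ty c → P (lin (nth D GN j) c))
    (steps : List ℕ) (acc : ℕ) (ha : ∀ c, acc.testBit c = true → P c)
    (h : orbGo D GN ty tgt steps acc = true) : ∀ c, tgt.testBit c = true → P c := by
  induction steps generalizing acc with
  | nil => exact fun c hc => ha c ((sub_iff _ _).1 h c hc)
  | cons s steps ih =>
    have e : orbStep ty (Nat.shiftRight s 3) (lin (nth D GN (Nat.land s 7)) (Nat.shiftRight s 3)) acc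
      (orbGo D GN ty tgt steps) = true := h
    simp only [orbStep, band_eq, Bool.and_eq_true, tb_eq, Nat.beq_eq] at e
    refine ih _ (fun c hc => ?_) e.2
    rw [tb_lor, tb_shl_one, Bool.or_eq_true, decide_eq_true_iff] at hc
    rcases hc with hc | rfl
    · exact ha c hc
    · exact hP _ _ (ha _ e.1.1) e.1.2

theorem orbChk_sound {r : ℕ} {GN : List (List ℕ)} {ty : ℕ} {reps steps : List ℕ}
    (h : orbChk r GN ty reps steps = true) {R : ℕ → ℕ → Prop} (h0 : ∀ c, R c c)
    (hR : ∀ j a c, R a c → R a (lin (nth (pows r 1) GN j) c)) {c : ℕ} (h1 : c ≠ 0)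
    (h2 : c < 2 ^ r) : R (nth 0 reps (tyf ty c)) c := by
  simp only [orbChk, band_eq, Bool.and_eq_true, lall_iff, Nat.beq_eq] at h
  refine orbGo_sound (P := fun c => R (nth 0 reps (tyf ty c)) c) (fun j c hc e => by
    rw [e]; exact hR j _ c hc) steps _ (fun c hc => by
    rw [tb_maskOf] at hc
    rw [h.1 c hc]; exact h0 c) h.2 c ?_
  rw [tb_xor, tb_ones, shl_one, ← pow_zero 2, Nat.testBit_two_pow]
  simp [h2, h1.symm]

/-! ### spread masks -/

def sp (s n : ℕ) (p : ℕ → Bool) : ℕ := ∑ c ∈ Finset.range n, if p c then 2 ^ (s * c) else 0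

theorem sp_succ (s n : ℕ) (p : ℕ → Bool) :
    sp s (n + 1) p = sp s n p + if p n then 2 ^ (s * n) else 0 := Finset.sum_range_succ _ _

theorem sp_lt {s : ℕ} (hs : 0 < s) (n : ℕ) (p : ℕ → Bool) : sp s n p < 2 ^ (s * n) := by
  induction n with
  | zero => simp [sp]
  | succ n ih =>
    have : 2 ^ (s * n) * 2 ≤ 2 ^ (s * (n + 1)) := by
      rw [← pow_succ]; exact Nat.pow_le_pow_right (by norm_num) (by rw [mul_add]; omega)
    rw [sp_succ]; split_ifs <;> omega

theorem tb_sp {s : ℕ} (hs : 0 < s) (n : ℕ) (p : ℕ → Bool) (i : ℕ) :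
    (sp s n p).testBit i = true ↔ ∃ c < n, p c = true ∧ i = s * c := by
  induction n with
  | zero => simp [sp]
  | succ n ih =>
    rw [sp_succ]
    have hl := sp_lt hs n p
    split_ifs with h
    · rw [add_comm, ← mul_one (2 ^ (s * n)), Nat.testBit_two_pow_mul_add _ hl]
      split_ifs with h2
      · rw [ih]
        refine ⟨fun ⟨c, h3, h4⟩ => ⟨c, by omega, h4⟩, fun ⟨c, h3, h4, h5⟩ => ⟨c, ?_, h4, h5⟩⟩
        by_contra h6
        obtain rfl : c = n := by omega
        omega
      · rw [Nat.testBit_one_eq_true_iff_self_eq_zero]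
        refine ⟨fun h3 => ⟨n, by omega, h, by omega⟩, fun ⟨c, h3, _, h5⟩ => ?_⟩
        have : s * c ≤ s * n := Nat.mul_le_mul_left _ (by omega)
        omega
    · rw [add_zero, ih]
      refine ⟨fun ⟨c, h3, h4⟩ => ⟨c, by omega, h4⟩, fun ⟨c, h3, h4, h5⟩ => ⟨c, ?_, h4, h5⟩⟩
      by_contra h6
      obtain rfl : c = n := by omega
      exact h h4

theorem sp_land {s : ℕ} (hs : 0 < s) (n : ℕ) (p q : ℕ → Bool) :
    Nat.land (sp s n p) (sp s n q) = sp s n fun c => p c && q c := by
  apply Nat.eq_of_testBit_eq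
  intro i
  rw [tb_land, Bool.eq_iff_iff, Bool.and_eq_true, tb_sp hs, tb_sp hs, tb_sp hs]
  constructor
  · rintro ⟨⟨c, h1, h2, rfl⟩, c', -, h4, h5⟩
    obtain rfl := Nat.eq_of_mul_eq_mul_left hs h5
    exact ⟨c, h1, by simp [h2, h4], rfl⟩
  · rintro ⟨c, h1, h2, rfl⟩
    rw [Bool.and_eq_true] at h2
    exact ⟨⟨c, h1, h2.1, rfl⟩, c, h1, h2.2, rfl⟩

theorem sub_sp {s : ℕ} (hs : 0 < s) {n : ℕ} {p q : ℕ → Bool} :
    sub (sp s n p) (sp s n q) = true ↔ ∀ c < n, p c = true → q c = true := by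
  rw [sub_iff]
  constructor
  · intro h c h1 h2
    obtain ⟨c', -, h4, h5⟩ := (tb_sp hs _ _ _).1 (h _ ((tb_sp hs _ _ _).2 ⟨c, h1, h2, rfl⟩))
    rwa [Nat.eq_of_mul_eq_mul_left hs h5]
  · intro h i hi
    obtain ⟨c, h1, h2, rfl⟩ := (tb_sp hs _ _ _).1 hi
    exact (tb_sp hs _ _ _).2 ⟨c, h1, h c h1 h2, rfl⟩

theorem sp_mod {n : ℕ} (hn : n < 4095) (p : ℕ → Bool) :
    sp 12 n p % 4095 = ((Finset.range n).filter fun c => p c = true).card := by
  have h1 : sp 12 n p ≡ ((Finset.range n).filter fun c => p c = true).card [MOD 4095] := by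
    clear hn
    induction n with
    | zero => rfl
    | succ n ih =>
      rw [sp_succ, Finset.range_add_one, Finset.filter_insert]
      split_ifs with h
      · rw [Finset.card_insert_of_notMem (by simp)]
        refine ih.add ?_
        rw [pow_mul]
        simpa using (show (2 ^ 12 : ℕ) ≡ 1 [MOD 4095] by decide).pow n
      · exact ih
  have h2 := Finset.card_filter_le (Finset.range n) fun c => p c = true
  rw [Finset.card_range] at h2
  rw [h1, Nat.mod_eq_of_lt (by omega)]

theorem sp_double (s n : ℕ) (p : ℕ → Bool) :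
    sp s (2 * n) p = sp (2 * s) n (fun c => p (2 * c)) + sp (2 * s) n (fun c => p (2 * c + 1)) * 2 ^ s := by
  induction n with
  | zero => simp [sp]
  | succ n ih =>
    rw [show 2 * (n + 1) = 2 * n + 1 + 1 by ring, sp_succ, sp_succ, ih, sp_succ, sp_succ, add_mul,
      show s * (2 * n) = 2 * s * n by ring, show s * (2 * n + 1) = 2 * s * n + s by ring, pow_add]
    split_ifs <;> ring

theorem fmGo_eq (Ds : List ℕ) (v s : ℕ) :
    fmGo Ds v s = sp s (2 ^ Ds.length) fun c => lin Ds c == v := by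
  induction Ds generalizing v s with
  | nil =>
    show (Bool.rec 0 1 (Nat.beq v 0) : ℕ) = _
    rcases v with _ | v <;> simp [sp, lin, Nat.beq]
  | cons D Ds ih =>
    show fmGo Ds v (2 * s) + (fmGo Ds (v ^^^ D) (2 * s)) <<< s = _
    rw [ih, ih, List.length_cons, pow_succ', sp_double, Nat.shiftLeft_eq]
    congr 3
    · funext c
      simp [lin_cons]
    · funext c
      rw [lin_cons, show (2 * c + 1) % 2 = 1 by omega, show (2 * c + 1) / 2 = c by omega, mul_one,
        Bool.eq_iff_iff, beq_iff_eq, beq_iff_eq]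
      constructor
      · intro h; rw [h]; simp [Nat.xor_comm v, ← Nat.xor_assoc]
      · rintro rfl; simp [Nat.xor_comm D, Nat.xor_assoc]

theorem sp_congr {s n : ℕ} {p q : ℕ → Bool} (h : ∀ c < n, p c = q c) : sp s n p = sp s n q :=
  Finset.sum_congr rfl fun c hc => by rw [h c (Finset.mem_range.1 hc)]

theorem fm_eq {r : ℕ} {L : List ℕ} (h : L.length = r) :
    fm r L = sp 12 (2 ^ r) fun c => lin L c == c := by
  have h' : L.length = (pows r 1).length := by rw [len_pows, h]
  rw [fm, fmGo_eq, (lin_zx h' 0).2, h]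
  refine sp_congr fun c hc => ?_
  rw [(lin_zx h' c).1, lin_id hc, Bool.eq_iff_iff, beq_iff_eq, beq_iff_eq, Nat.xor_eq_zero_iff]

theorem cntL_eq (p : ℕ → Bool) (l : List ℕ) : cntL p l = l.countP p := by
  induction l with
  | nil => rfl
  | cons a l ih =>
    show (Bool.rec (cntL p l) (Nat.succ (cntL p l)) (p a) : ℕ) = _
    rw [List.countP_cons, ih]
    cases p a <;> simp

theorem cntR_eq (p : ℕ → Bool) (n : ℕ) :
    cntR p n = ((Finset.range n).filter fun c => p c = true).card := by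
  induction n with
  | zero => rfl
  | succ n ih =>
    show (Bool.rec (cntR p n) (Nat.succ (cntR p n)) (p n) : ℕ) = _
    rw [Finset.range_add_one, Finset.filter_insert, ih]
    cases p n
    · simp
    · simp

theorem allR_iff (p : ℕ → Bool) (n : ℕ) : allR p n = true ↔ ∀ c < n, p c = true := by
  induction n with
  | zero => simp [allR]
  | succ n ih =>
    show band (p n) (allR p n) = true ↔ _
    rw [band_eq, Bool.and_eq_true, ih, Nat.forall_lt_succ_right, and_comm]

theorem xorL_eq (l : List ℕ) : xorL l = l.foldr (· ^^^ ·) 0 := by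
  induction l with
  | nil => rfl
  | cons a l ih => exact congrArg (a ^^^ ·) ih

theorem xorL_perm {l m : List ℕ} (h : l.Perm m) : xorL l = xorL m := by
  rw [xorL_eq, xorL_eq]
  exact h.foldr_eq' (fun x _ y _ z => by simp [Nat.xor_left_comm]) 0

/-- no family of involutions is large compared with its fixed space -/
theorem offOk_sound {r : ℕ} (hr : 2 ^ r < 4095) {I : List (List ℕ)} (hI : ∀ L ∈ I, L.length = r)
    {S : Finset (List ℕ)} (hS : ∀ L ∈ S, L ∈ I) {W : Finset ℕ}
    (hW : ∀ c ∈ W, c < 2 ^ r ∧ ∀ L ∈ S, lin L c = c) (dep : ℕ) (p : ℕ → Bool)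
    (hp : ∀ c ∈ W, p c = true)
    (h : offOk (2 ^ r) I.length (I.map (fm r)) dep (sp 12 (2 ^ r) p) = true) :
    W.card * S.card < 2 ^ r := by
  have c1 : ∀ p : ℕ → Bool, (∀ c ∈ W, p c = true) → W.card ≤ sp 12 (2 ^ r) p % 4095 := fun p hp => by
    rw [sp_mod hr]
    exact Finset.card_le_card fun c hc => by simp [(hW c hc).1, hp c hc]
  have c2 : S.card ≤ I.length :=
    (Finset.card_le_card fun L hL => List.mem_toFinset.2 (hS L hL)).trans (List.toFinset_card_le I)
  have c3 : ∀ p : ℕ → Bool, (∀ c ∈ W, p c = true) →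
      Nat.ble (Nat.succ (Nat.mul (Nat.mod (sp 12 (2 ^ r) p) 4095) I.length)) (2 ^ r) = true →
      W.card * S.card < 2 ^ r := fun p hp h => by
    rw [Nat.ble_eq] at h
    exact lt_of_le_of_lt (Nat.mul_le_mul (c1 p hp) c2) h
  induction dep generalizing p with
  | zero => exact c3 p hp h
  | succ dep ih =>
    have e : (Bool.rec (band (Nat.ble (Nat.succ (Nat.mul (Nat.mod (sp 12 (2 ^ r) p) 4095)
        (cntL (sub (sp 12 (2 ^ r) p)) (I.map (fm r))))) (2 ^ r))
        (lall (fun x => Bool.rec (offOk (2 ^ r) I.length (I.map (fm r)) dep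
          (Nat.land (sp 12 (2 ^ r) p) x)) true (sub (sp 12 (2 ^ r) p) x)) (I.map (fm r))))
      true (Nat.ble (Nat.succ (Nat.mul (Nat.mod (sp 12 (2 ^ r) p) 4095) I.length)) (2 ^ r)) : Bool)
      = true := h
    cases h1 : Nat.ble (Nat.succ (Nat.mul (Nat.mod (sp 12 (2 ^ r) p) 4095) I.length)) (2 ^ r) with
    | true => exact c3 p hp h1
    | false =>
      rw [h1] at e
      have e' : band _ _ = true := e
      rw [band_eq, Bool.and_eq_true, Nat.ble_eq, lall_iff, cntL_eq, List.countP_map] at e'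
      by_cases h2 : ∀ L ∈ S, sub (sp 12 (2 ^ r) p) (fm r L) = true
      · refine lt_of_le_of_lt (Nat.mul_le_mul (c1 p hp) ?_) e'.1
        rw [List.countP_eq_length_filter]
        refine (Finset.card_le_card fun L hL => List.mem_toFinset.2 ?_).trans
          (List.toFinset_card_le _)
        exact List.mem_filter.2 ⟨hS L hL, h2 L hL⟩
      · push Not at h2
        obtain ⟨L, hL, h3⟩ := h2
        have h4 := e'.2 _ (List.mem_map_of_mem (hS L hL))
        have h3 := Bool.eq_false_iff.2 h3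
        rw [h3, fm_eq (hI L (hS L hL)), sp_land (by norm_num)] at h4
        exact ih _ (fun c hc => by simp [hp c hc, (hW c hc).2 L hL]) h4

end Cfsg.Agent.Fx
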