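import Cfsg.Agent.Fx.Ident

/-!
A subgroup isomorphic to the model group that contains the centraliser of a transposition and
controls its fusion is the whole group.
-/
set_option autoImplicit false

namespace Cfsg.Agent.Fx

open Cfsg.Agent.Spor Cfsg.Agent.Fis Subgroup

theorem dihedral {Q : Type*} [Group Q] [Finite Q] {s t : Q} (hs : s * s = 1) (ht : t * t = 1) :
    (∃ k, k * s * k⁻¹ = t) ∨ ∃ w, w ≠ 1 ∧ w * w = 1 ∧ w * s = s * w ∧ w * t = t * w ∧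
      (((∃ k, k * s * k⁻¹ = w * s) ∧ ∃ k, k * t * k⁻¹ = w * t) ∨
        ((∃ k, k * t * k⁻¹ = w * s) ∧ ∃ k, k * s * k⁻¹ = w * t)) := by
  have hsi := inv_eq_of_mul_eq_one_right hs
  have hti := inv_eq_of_mul_eq_one_right ht
  obtain ⟨ρ, hρ⟩ : ∃ ρ, ρ = s * t := ⟨_, rfl⟩
  have e0 : s * ρ⁻¹ = ρ * s := by rw [hρ, mul_inv_rev, hsi, hti, mul_assoc]
  have e1 : ∀ k : ℕ, s * (ρ ^ k)⁻¹ = ρ ^ k * s := fun k => by
    induction k with
    | zero => simp
    | succ k ih => rw [pow_succ', mul_inv_rev, ← mul_assoc, ih, mul_assoc, e0, ← mul_assoc,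
        ← pow_succ, ← pow_succ']
  have et : t = ρ⁻¹ * s := by rw [hρ, mul_inv_rev, hsi, hti, mul_assoc, hs, mul_one]
  have e2 : ∀ k : ℕ, ρ ^ k * s * (ρ ^ k)⁻¹ = ρ ^ (2 * k) * s := fun k => by
    rw [mul_assoc, e1, ← mul_assoc, ← pow_add, two_mul]
  have e3 : ∀ k : ℕ, ρ ^ (k + 1) * t * (ρ ^ (k + 1))⁻¹ = ρ ^ (2 * k + 1) * s := fun k => by
    rw [et, ← mul_assoc, mul_assoc, e1, ← mul_assoc, pow_succ, mul_inv_cancel_right, ← pow_succ,
      ← pow_add]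
    congr 2; omega
  have hn := pow_orderOf_eq_one ρ
  have hpos := orderOf_pos ρ
  rcases Nat.even_or_odd' (orderOf ρ) with ⟨m, hm | hm⟩
  · right
    have hm0 : 0 < m := by omega
    have w2 : ρ ^ m * ρ ^ m = 1 := by rw [← pow_add, ← two_mul, ← hm, hn]
    have ws : ρ ^ m * s = s * ρ ^ m := by rw [← e1, inv_eq_of_mul_eq_one_right w2]
    refine ⟨ρ ^ m, pow_ne_one_of_lt_orderOf hm0.ne' (by omega), w2, ws, ?_, ?_⟩
    · rw [et, mul_assoc, ← ws, ← mul_assoc, ← mul_assoc]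
      congr 1
      exact ((Commute.refl ρ).inv_right.pow_left m).eq
    · obtain ⟨j, rfl⟩ : ∃ j, m = j + 1 := ⟨m - 1, by omega⟩
      have e4 : ρ ^ (j + 1) * t = ρ ^ j * s := by
        rw [et, ← mul_assoc, pow_succ, mul_inv_cancel_right]
      rcases Nat.even_or_odd' j with ⟨i, rfl | rfl⟩
      · exact Or.inr ⟨⟨_, e3 i⟩, ⟨_, (e2 i).trans e4.symm⟩⟩
      · exact Or.inl ⟨⟨_, e2 (i + 1)⟩, ⟨_, (e3 i).trans e4.symm⟩⟩
  · left
    refine ⟨ρ ^ m, ?_⟩
    rw [e2, et]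
    congr 1
    rw [hm, pow_succ] at hn
    exact eq_inv_of_mul_eq_one_left hn

theorem exists_ext {H : Type*} [Group H] {z : H} (hc : ∀ u, u * z = z * u) (h2 : z * z = 1)
    (h1 : z ≠ 1) : ∃ _ : (zpowers z).Normal, Ext z (QuotientGroup.mk' (zpowers z)) := by
  have hn : (zpowers z).Normal := ⟨fun n hn g => by
    obtain ⟨k, rfl⟩ := mem_zpowers_iff.1 hn
    rw [(Commute.zpow_right (hc g) k).eq, mul_inv_cancel_right]
    exact hn⟩
  refine ⟨hn, hc, h2, h1, QuotientGroup.mk'_surjective _,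
    (QuotientGroup.eq_one_iff z).2 (mem_zpowers z), fun u hu => ?_⟩
  obtain ⟨k, rfl⟩ := mem_zpowers_iff.1 ((QuotientGroup.eq_one_iff u).1 hu)
  have h3 : z ^ (2 : ℤ) = 1 := by rw [zpow_two, h2]
  rcases Int.even_or_odd' k with ⟨m, rfl | rfl⟩
  · left; rw [zpow_mul, h3, one_zpow]
  · right; rw [zpow_add, zpow_mul, h3, one_zpow, one_mul, zpow_one]

variable {F : Type*} [Group F] [Finite F] {x0 : F} {L : Type*} [Group L] {π0 : CC x0 →* L}

theorem Base.e0 (h : Base x0 L π0) {a b : F} (ha : IsConj x0 a) (hb : IsConj x0 b) :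
    ∃ w, IsConj x0 w ∧ w * a = a * w ∧ w * b = b * w := by
  haveI := tt_of_class h.tt
  haveI := h.simple
  obtain ⟨w, h1, h2⟩ := (prim_of_simple h.perf h.tt).exists_DD ⟨a, ha⟩ ⟨b, hb⟩
  exact ⟨w.t, w.mem, (cm_iff.1 h1).eq, (cm_iff.1 h2).eq⟩

theorem Tr.k3 {G : Type*} [Group G] {E : Set G} (h : Tr E) {y a b c : G} (hy : y ∈ E) (ha : a ∈ E)
    (hb : b ∈ E) (hc : c ∈ E) (ab : a * b = b * a) (ac : a * c = c * a) (bc : b * c = c * b)
    (n1 : a ≠ b) (n2 : a ≠ c) (n3 : b ≠ c) (e : a * b * c * y = y * (a * b * c)) :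
    a * y = y * a := by
  classical
  by_contra hn
  obtain ⟨k1, k3, -, k2⟩ := h.klem hy (l := [a, b, c]) (by simp [ha, hb, hc])
    (by simp only [List.pairwise_cons, List.mem_cons, forall_eq_or_imp, List.not_mem_nil,
      or_false, forall_eq, IsEmpty.forall_iff, implies_true, List.Pairwise.nil, and_true]
        exact ⟨⟨ab, ac⟩, bc⟩) (by simpa [mul_assoc] using e)
  have k2' := k2 (by simp [n1, n2, n3])
  rw [List.filter_cons_of_pos (by simpa using hn), List.length_cons] at k1 k2' k3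
  have := List.length_filter_le (fun p => decide ¬ p * y = y * p) [b, c]
  simp only [List.length_cons, List.length_nil] at this
  omega

theorem Base.mul3_not (h : Base x0 L π0) {a b c q : F} (ha : IsConj x0 a) (hb : IsConj x0 b)
    (hc : IsConj x0 c) (hq : IsConj x0 q) (ab : a * b = b * a) (ac : a * c = c * a)
    (bc : b * c = c * b) (n1 : a ≠ b) (n2 : a ≠ c) (n3 : b ≠ c) : a * b * c ≠ q := by
  intro e
  have sa := h.tr.sq _ ha
  have n4 : q ≠ a := by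
    rintro rfl
    rw [mul_assoc, mul_eq_left] at e
    exact n3 (by rw [← inv_eq_of_mul_eq_one_right e, inv_eq_of_mul_eq_one_right (h.tr.sq _ hb)])
  obtain ⟨y, h1, -, h2, h3⟩ := h.sep hq ha n4
  exact h3 (h.tr.k3 h1 ha hb hc ab ac bc n1 n2 n3 (e ▸ h2))

theorem Base.uf (h : Base x0 L π0) {a b c e : F} (ha : IsConj x0 a) (hb : IsConj x0 b)
    (hc : IsConj x0 c) (he : IsConj x0 e) (ab : a * b = b * a) (ce : c * e = e * c) (n1 : a ≠ b)
    (e1 : a * b = c * e) : c = a ∨ c = b := by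
  by_contra hn
  push Not at hn
  obtain ⟨h1, h2⟩ := h.tr.k2 ha hb hc n1 (by rw [e1, mul_assoc, ← ce])
  exact h.mul3_not hc ha hb he h1.symm h2.symm ab hn.1 hn.2 n1
    (by rw [mul_assoc, e1, ← mul_assoc, h.tr.sq _ hc, one_mul])

theorem Base.t0 (h : Base x0 L π0) {a b k : F} (ha : IsConj x0 a) (hb : IsConj x0 b)
    (ab : a * b = b * a) (n : a ≠ b) (hk : XX x0 k) : ∃ g, g * x0 * g⁻¹ = a ∧ g * k * g⁻¹ = b := by
  obtain ⟨c, rfl⟩ := isConj_iff.1 ha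
  have hb' : XX x0 (c⁻¹ * b * c) := by
    refine ⟨hb.trans (isConj_iff.2 ⟨c⁻¹, by simp⟩), ?_, fun e => n (by rw [← e]; group)⟩
    simpa [mul_assoc] using (conj_comm ab c⁻¹).symm
  obtain ⟨g, hg, e⟩ := h.t1 hk hb'
  refine ⟨c * g, ?_, ?_⟩
  · rw [mul_assoc c, mem_CC.1 hg]; group
  · rw [show c * g * k * (c * g)⁻¹ = c * (g * k * g⁻¹) * c⁻¹ by group, e]; group

/-- the extra properties of the model group used in the last step -/
structure Base2 (x0 : F) : Prop where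
  f1 : ∀ t : F, t * t = 1 → ∃ r, IsConj x0 r ∧ t * r = r * t
  f2 : ∃ k, XX x0 k ∧ ∃ P : List F, Even P.length ∧ P.prod = k ∧
    ∀ p ∈ P, XX x0 p ∧ p ≠ k ∧ p * k = k * p
  f3 : ∃ k1 k2 r y, XX x0 k1 ∧ XX x0 k2 ∧ k2 ≠ k1 ∧ k1 * k2 = k2 * k1 ∧ XX x0 r ∧ XX x0 y ∧
    r * k1 = k1 * r ∧ r * k2 = k2 * r ∧ y * k1 = k1 * y ∧ y * k2 = k2 * y ∧ r * y ≠ y * r

variable {G : Type*} [Group G]

structure Emb (x0 : F) (Φ : F →* G) (D : Set G) : Prop where
  inj : Function.Injective Φ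
  cls : D = conjugatesOf (Φ x0)
  cen : ∀ g, g * Φ x0 = Φ x0 * g → ∃ y, Φ y = g
  fus : ∀ y, Φ y ∈ D → IsConj x0 y

variable {Φ : F →* G} {D : Set G}

namespace Emb
omit [Finite F]

theorem conj_mem (e : Emb x0 Φ D) {u : G} (hu : u ∈ D) (g : G) : g * u * g⁻¹ ∈ D := by
  rw [e.cls] at hu ⊢
  exact IsConj.trans hu (isConj_iff.2 ⟨g, rfl⟩)

theorem mem (e : Emb x0 Φ D) {y : F} (hy : IsConj x0 y) : Φ y ∈ D := by
  rw [e.cls]; exact Φ.map_isConj hy

theorem conj (e : Emb x0 Φ D) (g : G) : Emb x0 ((MulAut.conj g).toMonoidHom.comp Φ) D where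
  inj := (MulAut.conj g).injective.comp e.inj
  cls := by
    rw [e.cls]
    exact IsConj.conjugatesOf_eq (isConj_iff.2 ⟨g, rfl⟩)
  cen k hk := by
    obtain ⟨y, hy⟩ := e.cen (g⁻¹ * k * g) (by
      simpa [mul_assoc] using conj_comm hk g⁻¹)
    exact ⟨y, by simp [hy, mul_assoc]⟩
  fus y hy := e.fus y (by simpa [mul_assoc] using e.conj_mem hy g⁻¹)

theorem exists_emb (e : Emb x0 Φ D) {u : G} (hu : u ∈ D) :
    ∃ Ψ : F →* G, Emb x0 Ψ D ∧ u = Ψ x0 := by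
  rw [e.cls] at hu
  obtain ⟨g, rfl⟩ := isConj_iff.1 hu
  exact ⟨_, e.conj g, rfl⟩

theorem norm (e : Emb x0 Φ D) {g : G} {a b : F} (ha : IsConj x0 a) (hb : IsConj x0 b)
    (h : g * Φ a * g⁻¹ = Φ b) : ∃ y, Φ y = g := by
  obtain ⟨c, rfl⟩ := isConj_iff.1 ha
  obtain ⟨k, rfl⟩ := isConj_iff.1 hb
  obtain ⟨y, hy⟩ := e.cen ((Φ k)⁻¹ * g * Φ c) (by
    simp only [map_mul, map_inv] at h
    calc (Φ k)⁻¹ * g * Φ c * Φ x0 = (Φ k)⁻¹ * (g * (Φ c * Φ x0 * (Φ c)⁻¹) * g⁻¹) * (g * Φ c) := by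
          group
      _ = _ := by rw [h]; group)
  exact ⟨k * y * c⁻¹, by simp [hy, mul_assoc]⟩

theorem cent (e : Emb x0 Φ D) {g : G} {a : F} (ha : IsConj x0 a) (h : g * Φ a = Φ a * g) :
    ∃ y, Φ y = g := e.norm ha ha (mul_inv_eq_iff_eq_mul.2 h)

theorem lc (e : Emb x0 Φ D) {v : G} (hv : v ∈ D) {a : F} (ha : IsConj x0 a)
    (h : v * Φ a = Φ a * v) : ∃ y, IsConj x0 y ∧ v = Φ y := by
  obtain ⟨y, rfl⟩ := e.cent ha h
  exact ⟨y, e.fus y hv, rfl⟩

theorem comm_iff (e : Emb x0 Φ D) {a b : F} : Φ a * Φ b = Φ b * Φ a ↔ a * b = b * a := by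
  rw [← map_mul, ← map_mul, e.inj.eq_iff]

end Emb

variable (h : Base x0 L π0) (h2 : Base2 x0) [Finite G]
include h

omit [Finite G] [Finite F] in
theorem Emb.sq (e : Emb x0 Φ D) {u : G} (hu : u ∈ D) : u * u = 1 := by
  obtain ⟨Ψ, -, rfl⟩ := e.exists_emb hu
  rw [← map_mul, h.sq, map_one]

omit [Finite G] [Finite F] in
theorem Emb.n4 (e : Emb x0 Φ D) {u v : G} (hu : u ∈ D) (hv : v ∈ D)
    (hc : v * u * v * u = u * (v * u * v)) : v * u = u * v := by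
  obtain ⟨Ψ, e', rfl⟩ := e.exists_emb hu
  have vi := inv_eq_of_mul_eq_one_right (e.sq h hv)
  obtain ⟨y, hy, e1⟩ := e'.lc (v := v * Ψ x0 * v) (vi ▸ e.conj_mem hu v |> fun t => by
    simpa [vi] using e.conj_mem hu v) (IsConj.refl _) hc
  obtain ⟨c, rfl⟩ := e'.norm (g := v) (IsConj.refl _) hy (by rw [vi, e1])
  have hc' := e'.fus c hv
  rw [e'.comm_iff]
  rcases h.tr.three _ hc' _ (IsConj.refl x0) with hb | hb
  · exact hb
  rw [← map_mul, ← map_mul, e'.comm_iff, hb] at hc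
  have e3 : x0 * c * x0 * x0 = x0 * c := by rw [mul_assoc, h.sq, mul_one]
  have e4 : x0 * (x0 * c * x0) = c * x0 := by rw [← mul_assoc, ← mul_assoc, h.sq, one_mul]
  rw [← e3, hc, e4]

omit [Finite G] in
theorem Emb.same (e : Emb x0 Φ D) {Ψ : F →* G} (e' : Emb x0 Ψ D) {r r' a : F} (hr : IsConj x0 r)
    (hr' : IsConj x0 r') (er : Φ r = Ψ r') (ha : IsConj x0 a) : ∃ y, IsConj x0 y ∧ Φ a = Ψ y := by
  obtain ⟨w, hw, h1, h3⟩ := h.e0 hr ha
  obtain ⟨w', hw', e1⟩ := e'.lc (e.mem hw) hr' (by rw [← er, e.comm_iff, h1])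
  exact e'.lc (e.mem ha) hw' (by rw [← e1, e.comm_iff, h3])

omit [Finite G] in
theorem Emb.ufc (e0 : Emb x0 Φ D) {c e g g' : G} (hc : c ∈ D) (he : e ∈ D) (hg : g ∈ D)
    (hg' : g' ∈ D) (ce : c * e = e * c) (n : c ≠ e) (cg : g * c = c * g) (gg : g' * g = g * g')
    (e1 : c * e = g * g') : g = c ∨ g = e := by
  obtain ⟨Ψ, e', rfl⟩ := e0.exists_emb hc
  obtain ⟨a, ha, rfl⟩ := e'.lc he (IsConj.refl _) ce.symm
  obtain ⟨b, hb, rfl⟩ := e'.lc hg (IsConj.refl _) cg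
  obtain ⟨b', hb', rfl⟩ := e'.lc hg' hb gg
  rw [e'.comm_iff] at ce gg
  rw [← map_mul, ← map_mul, e'.inj.eq_iff] at e1
  exact (h.uf (IsConj.refl _) ha hb hb' ce gg.symm (fun t => n (by rw [← t])) e1).imp
    (congrArg Ψ) (congrArg Ψ)

omit [Finite G] in
theorem prod_mul_right {a : F} (ha : a * a = 1) {P : List F} (hP : ∀ p ∈ P, p * a = a * p)
    (he : Even P.length) : (P.map (· * a)).prod = P.prod := by
  have : (P.map (· * a)).prod = P.prod * a ^ P.length := by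
    clear he
    induction P with
    | nil => simp
    | cons p P ih =>
      have cm : Commute a P.prod := Commute.list_prod_right _ _ fun x hx =>
        (hP x (List.mem_cons_of_mem _ hx)).symm
      rw [List.map_cons, List.prod_cons, ih fun x hx => hP x (List.mem_cons_of_mem _ hx),
        List.prod_cons, List.length_cons, pow_succ', mul_assoc, ← mul_assoc a, cm.eq]
      simp only [mul_assoc]
  obtain ⟨n, hn⟩ := he
  rw [this, hn, ← two_mul, pow_mul, pow_two, ha, one_pow, mul_one]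

include h2

theorem Emb.uf (e0 : Emb x0 Φ D) {a b : F} (ha : IsConj x0 a) (hb : IsConj x0 b)
    (ab : a * b = b * a) (n : a ≠ b) {c e : G} (hc : c ∈ D) (he : e ∈ D) (ce : c * e = e * c)
    (e1 : Φ (a * b) = c * e) : ∃ y, IsConj x0 y ∧ c = Φ y := by
  have sa := h.tr.sq _ ha
  have sb := h.tr.sq _ hb
  have sc := e0.sq h hc
  obtain ⟨z, hz⟩ : ∃ z, z = Φ (a * b) := ⟨_, rfl⟩
  have z2 : z * z = 1 := by
    rw [hz, ← map_mul, ← map_one Φ, mul_assoc, ← mul_assoc b, ← ab, mul_assoc, sb, mul_one, sa]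
  have z1 : z ≠ 1 := fun t => n (by
    rw [hz, ← map_one Φ, e0.inj.eq_iff] at t
    rw [← inv_eq_of_mul_eq_one_right t, inv_eq_of_mul_eq_one_right sa])
  have cz : c * z = z * c := by rw [hz, e1, mul_assoc, ← ce]
  have cze : z * c = e := by rw [← cz, hz, e1, ← mul_assoc, sc, one_mul]
  have nce : c ≠ e := fun t => z1 (by rw [hz, e1, ← t, sc])
  have key : ∀ p, IsConj x0 p → p * a = a * p → p * b = b * p → p ≠ a → p ≠ b →
      c * Φ (p * a) = Φ (p * a) * c := by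
    intro p hp pa pb n1 n2
    have pz : Φ p * z = z * Φ p := by
      rw [hz, e0.comm_iff, ← mul_assoc, pa, mul_assoc, pb, mul_assoc]
    have az : Φ a * z = z * Φ a := by
      rw [hz, e0.comm_iff, mul_assoc, ← ab]
    have npz : z * Φ p ∉ D := fun t => by
      rw [← pz, hz, ← map_mul] at t
      exact h.mul3_not hp ha hb (e0.fus _ t) pa pb ab n1 n2 n (mul_assoc _ _ _)
    obtain ⟨hN, ex⟩ := exists_ext (H := CC z) (z := ⟨z, self_mem_CC z⟩)
      (fun u => Subtype.ext (mem_CC.1 u.2)) (Subtype.ext z2) (fun t => z1 (congrArg Subtype.val t))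
    generalize QuotientGroup.mk' (zpowers (⟨z, self_mem_CC z⟩ : CC z)) = π at ex
    have cs : ∀ {u v : CC z}, π u = π v → u.1 = v.1 ∨ u.1 = z * v.1 := fun t =>
      (ex.cases t).imp (congrArg Subtype.val) (congrArg Subtype.val)
    let p' : CC z := ⟨Φ p, mem_CC.2 pz⟩
    let c' : CC z := ⟨c, mem_CC.2 cz⟩
    let a' : CC z := ⟨Φ a, mem_CC.2 az⟩
    have sp : p' * p' = 1 := Subtype.ext (e0.sq h (e0.mem hp))
    have sc' : c' * c' = 1 := Subtype.ext sc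
    have zk : ∀ (k : CC z) (u : G), z * (k.1 * u * k.1⁻¹) = k.1 * (z * u) * k.1⁻¹ := fun k u => by
      rw [← mul_assoc, ← mul_assoc, ← mem_CC.1 k.2]; group
    have cj : ∀ (k u : CC z), π k * π u * (π k)⁻¹ = π (k * u * k⁻¹) := fun k u => by simp
    have nd : ∀ k : CC z, z * (k.1 * Φ p * k.1⁻¹) ∉ D := fun k t => npz (by
      rw [zk] at t
      simpa [mul_assoc] using e0.conj_mem t k.1⁻¹)
    have yd : ∀ k : CC z, z * (k.1 * c * k.1⁻¹) ∈ D := fun k => by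
      rw [zk, cze]; exact e0.conj_mem he _
    -- an element of `D` centralising another modulo `z` centralises it
    have cmz : ∀ u v : CC z, u.1 ∈ D → v.1 ∈ D → π v * π u = π u * π v → v.1 * u.1 = u.1 * v.1 := by
      intro u v hu hv t
      have sv : v * v = 1 := Subtype.ext (e0.sq h hv)
      have t2 : π (v * u * v) = π u := by
        rw [map_mul, map_mul, t, mul_assoc, ← map_mul, sv, map_one, mul_one]
      refine e0.n4 h hu hv ?_
      rcases cs t2 with t3 | t3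
      · have t4 : v.1 * u.1 * v.1 = u.1 := t3
        rw [t4]
      · have t4 : v.1 * u.1 * v.1 = z * u.1 := t3
        rw [t4, ← mul_assoc, mem_CC.1 u.2]
    rcases dihedral (s := π p') (t := π c') (by rw [← map_mul, sp, map_one])
      (by rw [← map_mul, sc', map_one]) with ⟨k, hk⟩ | ⟨w, w1, w2, wp, wc, hw⟩
    · exfalso
      obtain ⟨k, rfl⟩ := ex.surj k
      rw [cj] at hk
      rcases cs hk with t | t
      · have t2 : k.1 * Φ p * k.1⁻¹ = c := t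
        exact nd k (by rw [t2, cze]; exact he)
      · have t2 : k.1 * Φ p * k.1⁻¹ = z * c := t
        exact nd k (by rw [t2, ← mul_assoc, z2, one_mul]; exact hc)
    rcases hw with ⟨-, k, hk⟩ | ⟨⟨k, hk⟩, ⟨k', hk'⟩⟩
    · exfalso
      obtain ⟨k, rfl⟩ := ex.surj k
      rw [cj] at hk
      have hg : (k * c' * k⁻¹).1 ∈ D := e0.conj_mem hc k.1
      have t1 := cmz c' _ hc hg (by rw [hk, ← mul_assoc, ← wc])
      have hg' := yd k
      have gz : (k * c' * k⁻¹).1 * z = z * (k * c' * k⁻¹).1 := mem_CC.1 (k * c' * k⁻¹).2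
      have sg := e0.sq h hg
      rcases e0.ufc h hc he hg hg' ce nce t1 (by
          show z * (k * c' * k⁻¹).1 * _ = _ * (z * (k * c' * k⁻¹).1)
          rw [← mul_assoc, gz]) (by
          show _ = _ * (z * (k * c' * k⁻¹).1)
          rw [← mul_assoc, gz, mul_assoc, sg, mul_one, hz, e1]) with t | t
      · have t2 : k * c' * k⁻¹ = c' := Subtype.ext t
        rw [t2] at hk
        exact w1 (by simpa using hk.symm)
      · have t2 : k * c' * k⁻¹ = ⟨z, self_mem_CC z⟩ * c' := Subtype.ext (t.trans cze.symm)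
        rw [t2, map_mul, ex.pd, one_mul] at hk
        exact w1 (by simpa using hk.symm)
    · obtain ⟨k, rfl⟩ := ex.surj k
      obtain ⟨k', rfl⟩ := ex.surj k'
      rw [cj] at hk hk'
      have hf : (k * c' * k⁻¹).1 ∈ D := e0.conj_mem hc k.1
      have t1 := cmz p' _ (e0.mem hp) hf (by rw [hk, ← mul_assoc, ← wp])
      have hf' := yd k
      have fz : (k * c' * k⁻¹).1 * z = z * (k * c' * k⁻¹).1 := mem_CC.1 (k * c' * k⁻¹).2
      have sf := e0.sq h hf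
      obtain ⟨f, hf0, ef⟩ := e0.lc hf hp t1
      obtain ⟨f', hf0', ef'⟩ := e0.lc hf' hf0 (by
        rw [← ef]
        show z * (k * c' * k⁻¹).1 * _ = _ * (z * (k * c' * k⁻¹).1)
        rw [← mul_assoc, fz])
      have ef2 : z * (k * c' * k⁻¹).1 = Φ f' := ef'
      have t2 : π (k * c' * k⁻¹) = π a' := by
        rcases h.uf ha hb hf0 hf0' ab (by
            rw [← e0.comm_iff, ← ef, ← ef2, ← mul_assoc, fz]) n (by
            rw [← e0.inj.eq_iff, ← hz, map_mul, ← ef, ← ef2, ← mul_assoc, fz, mul_assoc, sf,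
              mul_one]) with t | t
        · exact congrArg π (Subtype.ext (ef.trans (congrArg Φ t)))
        · have : k * c' * k⁻¹ = ⟨z, self_mem_CC z⟩ * a' := Subtype.ext (by
            rw [ef, t]
            show Φ b = z * Φ a
            rw [← az, hz, ← map_mul, ← mul_assoc, sa, one_mul])
          rw [this, map_mul, ex.pd, one_mul]
      have hg : (k' * p' * k'⁻¹).1 ∈ D := e0.conj_mem (e0.mem hp) k'.1
      have t3 := cmz c' _ hc hg (by rw [hk', ← mul_assoc, ← wc])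
      have t4 : π (a' * p') = π (k' * p' * k'⁻¹ * c') := by
        rw [map_mul, map_mul _ _ c', ← t2, hk, hk', mul_assoc, mul_assoc, ← map_mul, ← map_mul, sp,
          sc']
      have t5 : c * ((k' * p' * k'⁻¹).1 * c) = (k' * p' * k'⁻¹).1 * c * c := by
        rw [← mul_assoc]; exact congrArg (· * c) t3.symm
      rw [pa, map_mul]
      rcases cs t4 with t | t
      · have t6 : Φ a * Φ p = (k' * p' * k'⁻¹).1 * c := t
        rw [t6, t5]
      · have t6 : Φ a * Φ p = z * ((k' * p' * k'⁻¹).1 * c) := t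
        rw [t6, ← mul_assoc, cz, mul_assoc, t5, mul_assoc z]
  obtain ⟨k, hk, P, hP, eP, hP2⟩ := h2.f2
  obtain ⟨g, g1, g2⟩ := h.t0 ha hb ab n hk
  have a1 : ((P.map fun p => g * p * g⁻¹).map (· * a)).prod = b := by
    rw [prod_mul_right h sa (by
      intro q hq
      obtain ⟨p, hp, rfl⟩ := List.mem_map.1 hq
      rw [← g1]; exact conj_comm (hP2 p hp).1.2 g) (by simpa using hP), ← g2, ← eP]
    exact (map_list_prod (MulAut.conj g).toMonoidHom P).symm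
  refine e0.lc hc hb ?_
  rw [← a1, map_list_prod]
  refine Commute.list_prod_right _ _ fun x hx => ?_
  simp only [List.map_map, List.mem_map, Function.comp] at hx
  obtain ⟨p, hp, rfl⟩ := hx
  obtain ⟨b1, b2, b3⟩ := hP2 p hp
  refine key _ (b1.1.trans (isConj_iff.2 ⟨g, rfl⟩)) (g1 ▸ conj_comm b1.2 g) (g2 ▸ conj_comm b3 g)
    (fun t => b1.3 ?_) (fun t => b2 ?_)
  · rw [← g1] at t; simpa using t
  · rw [← g2] at t; simpa using t

theorem Emb.lemA (e0 : Emb x0 Φ D) {Ψ : F →* G} (e' : Emb x0 Ψ D) {a b : F} (ha : IsConj x0 a)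
    (hb : IsConj x0 b) (ab : a * b = b * a) (n : a ≠ b) {t : F} (e1 : Φ (a * b) = Ψ t) :
    ∃ y, IsConj x0 y ∧ Φ a = Ψ y := by
  have sa := h.tr.sq _ ha
  have sb := h.tr.sq _ hb
  obtain ⟨r, hr, rt⟩ := h2.f1 t (by
    rw [← e'.inj.eq_iff, map_mul, ← e1, ← map_mul, mul_assoc, ← mul_assoc b, ← ab, mul_assoc, sb,
      mul_one, sa, map_one, map_one])
  have rz : Ψ r * Φ (a * b) = Φ (a * b) * Ψ r := by rw [e1, e'.comm_iff, rt]
  obtain ⟨y, hy, ey⟩ := e0.uf h h2 ha hb ab n (e0.conj_mem (e0.mem ha) (Ψ r))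
    (e0.conj_mem (e0.mem hb) (Ψ r)) (conj_comm (e0.comm_iff.2 ab) _) (by
      rw [show Ψ r * Φ a * (Ψ r)⁻¹ * (Ψ r * Φ b * (Ψ r)⁻¹) = Ψ r * (Φ a * Φ b) * (Ψ r)⁻¹ by group,
        ← map_mul, rz, mul_inv_cancel_right])
  obtain ⟨c, hc⟩ := e0.norm ha hy ey
  exact e0.same h e' (e0.fus c (hc ▸ e'.mem hr)) hr hc ha

theorem Emb.odd (e0 : Emb x0 Φ D) {x : F} (hx : IsConj x0 x) {y : G} (hy : y ∈ D)
    (hn : ¬ ∃ v, IsConj x0 v ∧ y = Φ v) {K : Subgroup G} (h1 : Φ x ∈ K) (h3 : y ∈ K) :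
    ∃ k ∈ K, k * Φ x * k⁻¹ = y := by
  have sx := e0.sq h (e0.mem hx)
  have sy := e0.sq h hy
  rcases dihedral (s := (⟨_, h1⟩ : K)) (t := ⟨y, h3⟩) (Subtype.ext sx) (Subtype.ext sy) with
    ⟨k, hk⟩ | ⟨w, w1, w2, wx, wy, hw⟩
  · exact ⟨k, k.2, congrArg Subtype.val hk⟩
  exfalso
  have wx' : w.1 * Φ x = Φ x * w.1 := congrArg Subtype.val wx
  have wy' : w.1 * y = y * w.1 := congrArg Subtype.val wy
  have hd : w.1 * Φ x ∈ D ∧ w.1 * y ∈ D := by
    rcases hw with ⟨⟨k, hk⟩, k', hk'⟩ | ⟨⟨k, hk⟩, k', hk'⟩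
    · have a1 : k.1 * Φ x * k.1⁻¹ = w.1 * Φ x := congrArg Subtype.val hk
      have a2 : k'.1 * y * k'.1⁻¹ = w.1 * y := congrArg Subtype.val hk'
      exact ⟨a1 ▸ e0.conj_mem (e0.mem hx) k.1, a2 ▸ e0.conj_mem hy k'.1⟩
    · have a1 : k.1 * y * k.1⁻¹ = w.1 * Φ x := congrArg Subtype.val hk
      have a2 : k'.1 * Φ x * k'.1⁻¹ = w.1 * y := congrArg Subtype.val hk'
      exact ⟨a1 ▸ e0.conj_mem hy k.1, a2 ▸ e0.conj_mem (e0.mem hx) k'.1⟩
  obtain ⟨u, hu, eu⟩ := e0.lc hd.1 hx (by rw [← mul_assoc, ← wx'])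
  refine hn (e0.uf h h2 hu hx (by rw [← e0.comm_iff, ← eu, ← mul_assoc, ← wx']) (fun t => w1 ?_)
    hy hd.2 (by rw [← mul_assoc, ← wy']) ?_)
  · rw [t] at eu
    exact Subtype.ext (by simpa using eu)
  · rw [map_mul, ← eu, mul_assoc, sx, mul_one, ← mul_assoc, ← wy', mul_assoc, sy, mul_one]

theorem Base.f3' {d p q : F} (hd : IsConj x0 d) (hp : IsConj x0 p) (hq : IsConj x0 q)
    (dp : d * p = p * d) (dq : d * q = q * d) (pq : p * q = q * p) (n1 : d ≠ p) (n2 : d ≠ q)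
    (n3 : p ≠ q) : ∃ r y, IsConj x0 r ∧ IsConj x0 y ∧ r * d = d * r ∧ r * p = p * r ∧
      r * q = q * r ∧ y * d = d * y ∧ y * p = p * y ∧ y * q = q * y ∧ r * y ≠ y * r := by
  obtain ⟨k1, k2, r, y, a1, a2, a3, a4, hr, hy, b1, b2, b3, b4, b5⟩ := h2.f3
  obtain ⟨g, rfl, rfl⟩ := h.t0 hd hp dp n1 a1
  have hq' : XX x0 (g⁻¹ * q * g) := by
    refine ⟨hq.trans (isConj_iff.2 ⟨g⁻¹, by simp⟩), ?_, fun e => n2 (by rw [← e]; group)⟩
    simpa [mul_assoc] using (conj_comm dq g⁻¹).symm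
  obtain ⟨c, hc, c1, c2⟩ := h.t2 a1 a2 hq' a3 (fun e => n3 (by rw [← e]; group)) a4
    (by simpa [mul_assoc] using conj_comm pq g⁻¹)
  have c0 : c * x0 * c⁻¹ = x0 := by rw [mem_CC.1 hc]; group
  have d0 : g * x0 * g⁻¹ = g * c * x0 * (g * c)⁻¹ := by
    rw [show g * c * x0 * (g * c)⁻¹ = g * (c * x0 * c⁻¹) * g⁻¹ by group, c0]
  have d1 : g * k1 * g⁻¹ = g * c * k1 * (g * c)⁻¹ := by
    rw [show g * c * k1 * (g * c)⁻¹ = g * (c * k1 * c⁻¹) * g⁻¹ by group, c1]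
  have d2 : q = g * c * k2 * (g * c)⁻¹ := by
    rw [show g * c * k2 * (g * c)⁻¹ = g * (c * k2 * c⁻¹) * g⁻¹ by group, c2]; group
  rw [d0, d1, d2]
  exact ⟨g * c * r * (g * c)⁻¹, g * c * y * (g * c)⁻¹, hr.1.trans (isConj_iff.2 ⟨_, rfl⟩),
    hy.1.trans (isConj_iff.2 ⟨_, rfl⟩), conj_comm hr.2 _, conj_comm b1 _, conj_comm b2 _,
    conj_comm hy.2 _, conj_comm b3 _, conj_comm b4 _,
    fun t => b5 (by simpa [mul_assoc] using conj_comm t (g * c)⁻¹)⟩

theorem Emb.sub (e0 : Emb x0 Φ D) {e : G} (he : e ∈ D) : ∃ v, IsConj x0 v ∧ e = Φ v := by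
  by_contra hn
  obtain ⟨Ψ, e', rfl⟩ := e0.exists_emb he
  obtain ⟨k, hk⟩ := h.ex
  have r0 := IsConj.refl x0
  have xk : x0 * k = k * x0 := hk.2.symm
  have sk := h.tr.sq _ hk.1
  have hd := e0.mem r0
  have sd := e0.sq h hd
  obtain ⟨z, hz⟩ : ∃ z, z = Ψ (x0 * k) := ⟨_, rfl⟩
  have z2 : z * z = 1 := by
    rw [hz, ← map_mul, ← map_one Ψ, mul_assoc, ← mul_assoc k, ← xk, mul_assoc, sk, mul_one, h.sq]
  -- an element centralising `z` lies in the second copy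
  have cz : ∀ w, w * z = z * w → ∃ t, Ψ t = w := fun w hw => by
    obtain ⟨y, hy, ey⟩ := e'.uf h h2 r0 hk.1 xk hk.3.symm (e'.conj_mem he w)
      (e'.conj_mem (e'.mem hk.1) w) (conj_comm (e'.comm_iff.2 xk) _) (by
        rw [show w * Ψ x0 * w⁻¹ * (w * Ψ k * w⁻¹) = w * (Ψ x0 * Ψ k) * w⁻¹ by group,
          ← map_mul, ← hz, hw, mul_inv_cancel_right])
    exact e'.norm r0 hy ey
  have ncm : ∀ {a}, IsConj x0 a → Ψ x0 * Φ a ≠ Φ a * Ψ x0 := fun ha t => hn (e0.lc he ha t)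
  rcases dihedral sd z2 with ⟨c, hc⟩ | ⟨w, w1, w2, wd, wz, hw⟩
  · have := e0.conj_mem hd c
    rw [hc, hz] at this
    exact h.mul_not r0 hk.1 (e'.fus _ this) rfl
  rcases hw with ⟨⟨c, hc⟩, -⟩ | ⟨⟨c, hc⟩, c', hc'⟩
  · obtain ⟨u, hu, eu⟩ := e0.lc (hc ▸ e0.conj_mem hd c) r0 (by rw [← mul_assoc, ← wd])
    obtain ⟨t, ht⟩ := cz w wz
    obtain ⟨y, hy, ey⟩ := e0.lemA h h2 e' hu r0 (by rw [← e0.comm_iff, ← eu, ← mul_assoc, ← wd])
      (fun s => w1 (by rw [s] at eu; simpa using eu)) (t := t)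
      (by rw [map_mul, ← eu, mul_assoc, sd, mul_one, ht])
    exact hn (e'.same h e0 hy hu ey.symm r0)
  · have hf : w * z ∈ D := hc' ▸ e0.conj_mem hd c'
    obtain ⟨f, ef⟩ := cz (w * z) (by rw [← mul_assoc, ← wz])
    have hf0 := e'.fus f (ef ▸ hf)
    obtain ⟨f1, f2⟩ := h.tr.k2 r0 hk.1 hf0 hk.3.symm (by
      rw [← e'.comm_iff, ← hz, ef, ← mul_assoc, ← wz])
    have ew : w = Ψ f * z := by rw [ef, mul_assoc, z2, mul_one]
    have we : Ψ x0 * w = w * Ψ x0 := by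
      rw [ew, hz, ← map_mul, e'.comm_iff, ← mul_assoc, f1, mul_assoc, mul_assoc, mul_assoc, xk]
    have wf : Ψ f * w = w * Ψ f := by rw [ef, mul_assoc, ← wz]
    have nw : ∀ {a}, IsConj x0 a → w ≠ Φ a := fun ha t => ncm ha (t ▸ we)
    -- products of two commuting members of `D` lying in the first copy
    have two : ∀ (c : G) (t : F), c * z * c⁻¹ = Φ t → ∃ p q, IsConj x0 p ∧ IsConj x0 q ∧
        p * q = q * p ∧ p ≠ q ∧ t = p * q := fun c t ht => by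
      obtain ⟨p, hp, ep⟩ := (e'.conj c).lemA h h2 e0 r0 hk.1 xk hk.3.symm (t := t)
        (by rw [← ht, hz]; rfl)
      have ep' : c * Ψ x0 * c⁻¹ = Φ p := ep
      have cm := conj_comm (e'.comm_iff.2 xk) c
      obtain ⟨q, hq, eq⟩ := e0.lc (e'.conj_mem (e'.mem hk.1) c) hp (by rw [← ep', cm])
      refine ⟨p, q, hp, hq, by rw [← e0.comm_iff, ← ep', ← eq, cm], fun s => hk.3 ?_, ?_⟩
      · rw [← s, ← ep'] at eq
        exact e'.inj (by simpa using eq)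
      · rw [← e0.inj.eq_iff, ← ht, map_mul, ← ep', ← eq, hz, map_mul]; group
    obtain ⟨t, ht⟩ := e0.cen (w * Φ x0) (by rw [← mul_assoc, ← wd])
    obtain ⟨p, q, hp, hq, pq, npq, rfl⟩ := two c t (hc.trans ht.symm)
    obtain ⟨pd, qd⟩ := h.tr.k2 hp hq r0 npq (by
      rw [← e0.comm_iff, ht, ← mul_assoc, ← wd])
    have ew2 : w = Φ (x0 * p * q) := by
      rw [mul_assoc, map_mul, ht, ← mul_assoc, ← wd, mul_assoc, sd, mul_one]
    have n1 : x0 ≠ p := fun s => nw hq (by rw [ew2, ← s, h.sq, one_mul])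
    have n2 : x0 ≠ q := fun s => nw hp (by rw [ew2, ← s, ← pd, mul_assoc, h.sq, mul_one])
    obtain ⟨r, y, hr, hy, r1, r2, r3, y1, y2, y3, ry⟩ :=
      h.f3' h2 r0 hp hq pd.symm qd.symm pq n1 n2 npq
    have cm3 : ∀ {r : F}, r * x0 = x0 * r → r * p = p * r → r * q = q * r →
        r * (x0 * p * q) = x0 * p * q * r := fun a1 a2 a3 =>
      ((Commute.mul_right a1 a2).mul_right a3).eq
    obtain ⟨m, hm, em⟩ := e0.odd h h2 hr (e'.mem hf0) (fun ⟨v, hv, ev⟩ => ncm hv (by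
        rw [← ev, e'.comm_iff, f1])) (K := CC w)
      (mem_CC.2 (by rw [ew2, e0.comm_iff, cm3 r1 r2 r3])) (mem_CC.2 wf)
    obtain ⟨u, v, hu, hv, uv, nuv, euv⟩ := two m⁻¹ (r * (x0 * p * q)) (by
      have sf := e'.sq h (e'.mem hf0)
      have : z = Ψ f * w := by rw [ew, ← mul_assoc, sf, one_mul]
      rw [this, map_mul, ← ew2, ← em, mul_assoc (m⁻¹), inv_inv, mul_assoc _ w, ← mem_CC.1 hm]
      group)
    have sr := h.tr.sq _ hr
    obtain ⟨ru, rv⟩ := h.tr.k2 hu hv hr nuv (by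
      rw [← euv, mul_assoc, ← cm3 r1 r2 r3])
    have e3 : x0 * p * q = r * u * v := by rw [mul_assoc r, ← euv, ← mul_assoc r, sr, one_mul]
    refine ry (h.tr.k3 hy hr hu hv ru.symm rv.symm uv (fun s => nw hv ?_) (fun s => nw hu ?_) nuv
      (e3 ▸ (cm3 y1 y2 y3).symm))
    · rw [ew2, e3, ← s, sr, one_mul]
    · rw [ew2, e3, ← s, ← ru, mul_assoc, sr, mul_one]

theorem Emb.surj (e0 : Emb x0 Φ D) : Function.Surjective Φ := fun g => by
  obtain ⟨v, hv, ev⟩ := e0.sub h h2 (e0.conj_mem (e0.mem (IsConj.refl x0)) g)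
  exact e0.norm (IsConj.refl _) hv ev

end Cfsg.Agent.Fx
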