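import Cfsg.Agent.Fx.Lift

/-!
Identification of a double cover from a presentation.
-/
set_option autoImplicit false

namespace Cfsg.Agent.Fx

open Cfsg.Agent.Spor Subgroup

theorem top_of_central {K : Type*} [Group K] (hp : commutator K = ⊤) {A : Subgroup K}
    (h : ∀ k, ∃ a ∈ A, ∃ c, (∀ x, x * c = c * x) ∧ k = a * c) : A = ⊤ := by
  rw [eq_top_iff, ← hp, commutator_def, commutator_le]
  intro x _ y _
  obtain ⟨a, ha, c, hc, rfl⟩ := h x
  obtain ⟨b, hb, e, he, rfl⟩ := h y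
  have : a * c * (b * e) * (a * c)⁻¹ * (b * e)⁻¹ = a * b * a⁻¹ * b⁻¹ := by
    calc a * c * (b * e) * (a * c)⁻¹ * (b * e)⁻¹ = a * (c * (b * e)) * c⁻¹ * a⁻¹ * e⁻¹ * b⁻¹ := by
          group
      _ = a * b * (e * a⁻¹) * e⁻¹ * b⁻¹ := by rw [← hc]; group
      _ = _ := by rw [← he]; group
  rw [commutatorElement_def, this]
  exact A.mul_mem (A.mul_mem (A.mul_mem ha hb) (A.inv_mem ha)) (A.inv_mem hb)

theorem card_eq_ker_mul {K L : Type*} [Group K] [Group L] {π : K →* L}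
    (hs : Function.Surjective π) : Nat.card K = Nat.card π.ker * Nat.card L := by
  rw [← π.ker.card_mul_index, index_ker, MonoidHom.range_eq_top.2 hs, card_top]

theorem Ext.card_ker {L H : Type*} [Group L] [Group H] {d : H} {π : H →* L} (e : Ext d π) :
    Nat.card π.ker = 2 := by
  rw [Nat.card_eq_two_iff]
  refine ⟨1, ⟨d, e.pd⟩, fun h => e.ne (congrArg Subtype.val h).symm, ?_⟩
  ext ⟨u, hu⟩
  simpa [Subtype.ext_iff] using e.ker u hu

theorem Base.ext {F : Type*} [Group F] {x0 : F} {L : Type*} [Group L] {π0 : CC x0 →* L}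
    (h : Base x0 L π0) : Ext (⟨x0, self_mem_CC x0⟩ : CC x0) π0 where
  cen u := Subtype.ext (mem_CC.1 u.2)
  sq := Subtype.ext h.sq
  ne e := h.ne_one (congrArg Subtype.val e)
  surj := h.surj
  pd := h.pi_x0
  ker _ hu := (h.ker_cases hu).imp Subtype.ext Subtype.ext

theorem ident {F H : Type} [Group F] [Finite F] [Group H] [Finite H] {x0 : F} {L : Type*} [Group L]
    {π0 : CC x0 →* L} (h : Base x0 L π0) {d : H} {π : H →* L} (e : Ext d π)
    (pH : commutator H = ⊤) {n : ℕ} {RL : List (List ℕ)} (b : Bound n n RL (Nat.card (CC x0)))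
    {s : ℕ → F} (hs : Pres n n RL s) (hgen : gsub n s = CC x0) {g : ℕ → H} (hg : Pres n n RL g)
    {j0 : ℕ} (hj0 : j0 < n) (hne : π (g j0) ≠ 1) :
    ∃ ψ : CC x0 ≃* H, ψ ⟨x0, self_mem_CC x0⟩ = d ∧
      ∀ j < n, ∀ hj : s j ∈ CC x0, ψ ⟨s j, hj⟩ = g j := by
  obtain ⟨ψ0, h0⟩ := b.exists_hom Nat.card_pos.ne' hs hg (by rw [hgen])
  obtain ⟨ψ, hψ⟩ : ∃ ψ : CC x0 →* H, ∀ j < n, ∀ hj : s j ∈ CC x0, ψ ⟨s j, hj⟩ = g j := by
    refine ⟨ψ0.comp (inclusion hgen.ge), fun j hj hj' => ?_⟩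
    rw [← h0 j hj]
    exact congrArg ψ0 (Subtype.ext (lift_coe (mem_gsub s hj)).symm)
  haveI := h.sL
  haveI := h.finL
  have k1 : (π.comp ψ).ker ≤ π0.ker := by
    rcases ((π.comp ψ).normal_ker.map π0 h.surj).eq_bot_or_eq_top with h1 | h1
    · exact (Subgroup.map_eq_bot_iff _).1 h1
    · exfalso
      have : (π.comp ψ).ker = ⊤ := top_of_central h.pH fun k => by
        obtain ⟨a, ha, e1⟩ : π0 k ∈ (π.comp ψ).ker.map π0 := h1 ▸ mem_top _
        refine ⟨a, ha, a⁻¹ * k, fun x => h.ext.cen_ker (by rw [map_mul, map_inv, e1]; simp) x, by simp⟩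
      have h2 : (⟨s j0, hgen ▸ mem_gsub s hj0⟩ : CC x0) ∈ (π.comp ψ).ker := this ▸ mem_top _
      rw [MonoidHom.mem_ker, MonoidHom.comp_apply, hψ j0 hj0] at h2
      exact hne h2
  have c0 := card_eq_ker_mul h.surj
  have c1 := card_eq_ker_mul e.surj
  rw [h.ker] at c0
  rw [e.card_ker] at c1
  have k2 : (π.comp ψ).range = ⊤ := by
    have a1 := (π.comp ψ).ker.card_mul_index
    rw [index_ker] at a1
    have a2 : Nat.card (π.comp ψ).ker ≤ 2 := h.ker ▸ card_le_of_le k1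
    refine eq_top_of_le_card _ ?_
    by_contra hlt
    have : Nat.card (π.comp ψ).ker * Nat.card (π.comp ψ).range < 2 * Nat.card L :=
      Nat.mul_lt_mul_of_le_of_lt a2 (by omega) (by norm_num)
    omega
  have k3 : ψ.range = ⊤ := top_of_central pH fun k => by
    obtain ⟨a, ha⟩ : π k ∈ (π.comp ψ).range := k2 ▸ mem_top _
    refine ⟨ψ a, ⟨a, rfl⟩, (ψ a)⁻¹ * k, fun x => e.cen_ker ?_ x, by simp⟩
    rw [map_mul, map_inv, ← ha]; simp
  have k4 : Function.Bijective ψ :=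
    (Nat.bijective_iff_surjective_and_card ψ).2 ⟨MonoidHom.range_eq_top.1 k3, by omega⟩
  refine ⟨MulEquiv.ofBijective ψ k4, ?_, hψ⟩
  show ψ _ = d
  refine (e.ker _ ?_).resolve_left fun e1 => h.ext.ne (k4.1 (e1.trans (map_one ψ).symm))
  rw [← mem_bot, ← center_eq_bot_of_simple h.pL, mem_center_iff]
  intro l
  obtain ⟨u, rfl⟩ := e.surj l
  obtain ⟨v, rfl⟩ := k4.2 u
  rw [← map_mul, ← map_mul, ← map_mul, ← map_mul, h.ext.cen v]

/-- an isomorphism sending one point to a chosen lift maps the local class onto the lifted class -/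
theorem Lam.image {F H : Type*} [Group F] [Finite F] [Group H] {x0 : F} {L : Type*} [Group L]
    {π0 : CC x0 →* L} (h : Base x0 L π0) {d : H} {π : H →* L} (e : Ext d π) {lam : F → H}
    (hl : Lam π0 π lam) (ψ : CC x0 ≃* H) {y1 y2 : F} (h1 : XX x0 y1) (h2 : XX x0 y2)
    (e1 : ψ ⟨y1, h1.mem⟩ = lam y2) (u : H) :
    (∃ y, ∃ hy : XX x0 y, u = ψ ⟨y, hy.mem⟩) ↔ ∃ y, XX x0 y ∧ u = lam y := by
  constructor
  · rintro ⟨y, hy, rfl⟩
    obtain ⟨g, hg, rfl⟩ := h.t1 h1 hy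
    obtain ⟨k, hk⟩ := h.surj (π (ψ ⟨g, hg⟩))
    refine ⟨_, h2.conj k.2, ?_⟩
    rw [← hl.eqv h2 _ k hk.symm, ← e1, ← map_inv, ← map_mul, ← map_mul]
    rfl
  · rintro ⟨y, hy, rfl⟩
    obtain ⟨g, hg, rfl⟩ := h.t1 h2 hy
    obtain ⟨k, hk⟩ := e.surj (π0 ⟨g, hg⟩)
    obtain ⟨v, rfl⟩ := ψ.surjective k
    refine ⟨_, h1.conj v.2, ?_⟩
    rw [← hl.eqv h2 _ ⟨g, hg⟩ hk, ← e1, ← map_inv, ← map_mul, ← map_mul]
    rfl

theorem wd_twist {H : Type*} [Group H] {d : H} (hd : ∀ u, u * d = d * u) (g : ℕ → H) (w : List ℕ) :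
    wd (fun j => d * g j) w = d ^ w.length * wd g w := by
  induction w with
  | nil => simp
  | cons j w ih =>
    rw [wd_cons, ih, wd_cons, List.length_cons, pow_succ', mul_assoc, ← mul_assoc (g j),
      (Commute.pow_right (hd (g j)) _).eq]
    simp only [mul_assoc]

section
variable {F H : Type*} [Group F] [Group H] {x0 : F} {L : Type*} [Group L]
    {π0 : CC x0 →* L} (h : Base x0 L π0) {d : H} {π : H →* L} (e : Ext d π) {lam : F → H}
    (hl : Lam π0 π lam) {t : ℕ → F} (ht : ∀ j, XX x0 (t j))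
include h hl ht

theorem Lam.pi_one {w : List ℕ} (hw : wd t w = 1 ∨ wd t w = x0) :
    π (wd (fun j => lam (t j)) w) = 1 := by
  rw [hl.pi_wd ht]
  rcases hw with hw | hw
  · rw [← map_one π0]; exact congrArg π0 (Subtype.ext hw)
  · rw [← h.pi_x0]; exact congrArg π0 (Subtype.ext hw)

theorem Lam.cube (hs : ∀ j, t j * t j = 1) {u v : List ℕ} {a b : ℕ}
    (hn : wd t (cw u [a]) * wd t (cw v [b]) ≠ wd t (cw v [b]) * wd t (cw u [a])) :
    wd (fun j => lam (t j)) (lapp (cw u [a]) (cw v [b])) ^ 3 = 1 := by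
  have h1 := XX.wd_cw ht hs u a
  have h2 := XX.wd_cw ht hs v b
  rw [wd_lapp, hl.wd_cw ht hs, hl.wd_cw ht hs]
  generalize wd t (cw u [a]) = p at *
  generalize wd t (cw v [b]) = q at *
  have h3 := (h.tr.three _ h1.1 _ h2.1).resolve_left hn
  have h4 : lam p * lam q * lam p = lam q * lam p * lam q := by
    rw [hl.st h1 h2 (h.tr.sq _ h1.1), hl.st h2 h1 (h.tr.sq _ h2.1), h3]
  calc (lam p * lam q) ^ 3 = (lam p * lam q * lam p) * (lam q * lam p * lam q) := by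
        simp [pow_succ, mul_assoc]
    _ = lam q * lam p * (lam q * lam q) * lam p * lam q := by rw [h4]; group
    _ = 1 := by rw [hl.sq h2, mul_one, mul_assoc (lam q), hl.sq h1, mul_one, hl.sq h2]

include e in
/-- for a word of odd length one of the two lifted classes makes it trivial -/
theorem Lam.choose {w : List ℕ} (hw : wd t w = 1 ∨ wd t w = x0) (ho : Odd w.length) :
    wd (fun j => lam (t j)) w = 1 ∨ wd (fun j => d * lam (t j)) w = 1 := by
  refine (e.ker _ (hl.pi_one h ht hw)).imp id fun e1 => ?_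
  obtain ⟨n, hn⟩ := ho
  rw [wd_twist e.cen, e1, hn, pow_succ, pow_mul, pow_two, e.sq, one_pow, one_mul, e.sq]

end

end Cfsg.Agent.Fx
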