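import Cfsg.Agent.Fx.PD
import Cfsg.Agent.Fx.Ident
import Cfsg.Agent.Fx.Cox

/-!
Generic steps: the base data from a cover, relations read off in the model, the passage from the
abstract centraliser to the model, and the final identification.
-/
set_option autoImplicit false

namespace Cfsg.Agent.Fx

open Cfsg.Agent.Spor Subgroup Equiv

section
variable {F : Type*} [Group F] {x0 : F} {L : Type*} [Group L]

theorem base_of [IsSimpleGroup F] [IsSimpleGroup L] (pF : commutator F = ⊤)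
    (tt : Cfsg.IsThreeTranspositionClass (conjugatesOf x0)) {K : Subgroup F} (hc : CC x0 = K)
    (pK : commutator K = ⊤) (ψ : K →* L) (hs : Function.Surjective ψ) (hk : Nat.card ψ.ker = 2)
    (ex : ∃ y, XX x0 y) : ∃ π : CC x0 →* L, Base x0 L π ∧
      ∀ y : CC x0, ∀ hy : y.1 ∈ K, π y = ψ ⟨y, hy⟩ := by
  subst hc
  exact ⟨ψ, ⟨inferInstance, pF, tt, inferInstance, pK, hs, hk, ex⟩, fun _ _ => rfl⟩

theorem Base.hgen [Finite F] {π : CC x0 →* L} (h : Base x0 L π) {x1 : F} (h1 : XX x0 x1) {n : ℕ}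
    {s : ℕ → CC x0} {p : ℕ → L} (hp : ∀ j < n, π (s j) = p j) {BW : List (List ℕ)}
    (hc : IsCoatom (wsub n p BW)) (hw : ∀ w ∈ BW, (ev (atm n s) w).1 ∈
      closure {y | IsConj x0 y ∧ y * x0 = x0 * y ∧ y * x1 = x1 * y}) :
    ∀ g ∈ CC x0, g * x1 = x1 * g →
      g ∈ closure {y | IsConj x0 y ∧ y * x0 = x0 * y ∧ y * x1 = x1 * y} := by
  intro g hg e
  generalize hK : closure {y | IsConj x0 y ∧ y * x0 = x0 * y ∧ y * x1 = x1 * y} = K at hw ⊢
  have k0 : x0 ∈ K := hK ▸ subset_closure ⟨IsConj.refl _, rfl, h1.2.symm⟩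
  have k1 : K ≤ CC x1 := hK ▸ (closure_le _).2 fun y hy => mem_CC.2 hy.2.2
  have k2 : wsub n p BW ≤ (K.subgroupOf (CC x0)).map π :=
    wsub_le fun w hw' => ⟨ev (atm n s) w, hw w hw', ev_atm_map' hp w⟩
  obtain ⟨v, hv, nv⟩ := h.exists_nc h1
  have k3 := centralizer_eq_of_coatom hc (d := π ⟨x1, h1.mem⟩) (fun x hx => by
    obtain ⟨a, ha, rfl⟩ := k2 hx
    rw [← map_mul, ← map_mul]
    exact congrArg π (Subtype.ext (mem_CC.1 (k1 ha)))) (y := π ⟨v, hv.mem⟩)
    fun t => nv (h.comm_of hv h1 t)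
  obtain ⟨a, ha, ea⟩ := k2 (k3 ▸ mem_centralizer_singleton_iff.2 (show π ⟨g, hg⟩ * _ = _ by
    rw [← map_mul, ← map_mul]; exact congrArg π (Subtype.ext e)))
  rcases h.ext.cases ea.symm with t | t
  · rw [show g = a from congrArg Subtype.val t]; exact ha
  · rw [show g = x0 * a from congrArg Subtype.val t]; exact K.mul_mem k0 ha

theorem f1_of [Finite F] (pF : commutator F = ⊤) (hN : ¬ 4 ∣ (CC x0).index) (t : F)
    (ht : t * t = 1) : ∃ r, IsConj x0 r ∧ t * r = r * t := by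
  classical
  haveI := Fintype.ofFinite (F ⧸ CC x0)
  by_contra hn
  let σ := MulAction.toPermHom F (F ⧸ CC x0)
  have h2 : σ t ^ 2 = 1 := by rw [← map_pow, pow_two, ht, map_one]
  have h0 : Fintype.card (Function.fixedPoints (σ t)) = 0 := by
    rw [Fintype.card_eq_zero_iff]
    refine ⟨fun ⟨q, hq⟩ => hn ?_⟩
    obtain ⟨g, rfl⟩ := QuotientGroup.mk_surjective q
    have : ((t * g : F) : F ⧸ CC x0) = g := hq
    rw [eq_comm, QuotientGroup.eq, mem_CC] at this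
    exact ⟨g * x0 * g⁻¹, isConj_iff.2 ⟨g, rfl⟩, by simpa [mul_assoc] using conj_comm this g⟩
  have h3 := Perm.sign_of_pow_two_eq_one h2
  have h4 := Perm.card_fixedPoints_modEq (α := F ⧸ CC x0) (f := fun x => σ t x) (p := 2) (n := 1)
    (by
      refine (pow_two (M := Function.End (F ⧸ CC x0)) _).trans ?_
      funext x
      show (σ t * σ t) x = x
      rw [← pow_two, h2]; rfl)
  have h5 : Perm.sign (σ t) = 1 :=
    Abelianization.commutator_subset_ker (Perm.sign.comp σ) (pF ▸ mem_top t)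
  rw [h0] at h3
  erw [h0] at h4
  rw [h5, eq_comm, neg_one_pow_eq_one_iff_even (by decide)] at h3
  rw [index_eq_card, Nat.card_eq_fintype_card] at hN
  obtain ⟨k, hk⟩ := h3
  rw [Nat.ModEq] at h4
  omega

variable {G : Type*} [Group G]

theorem finish [Finite F] [Finite G] {π : CC x0 →* L} (h : Base x0 L π) (h2 : Base2 x0) {d : G}
    {ψ : CC x0 →* G} (l : Loc x0 d ψ) (Φ : F →* G) (hd : Φ x0 = d) : Nonempty (G ≃* F) := by
  haveI := h.simple
  have hi : Function.Injective Φ := by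
    rw [← MonoidHom.ker_eq_bot_iff]
    refine Φ.normal_ker.eq_bot_or_eq_top.resolve_right fun e => h.ext.ne (l.inj ?_)
    rw [l.pd, map_one, ← hd]
    exact (e ▸ mem_top x0 : x0 ∈ Φ.ker)
  exact ⟨(MulEquiv.ofBijective Φ ⟨hi, Emb.surj h h2 (l.emb h2 h hi hd)⟩).symm⟩

theorem reduce [Finite G] (ID : ∀ (H : Type) [Group H] [Finite H] (d : H) (π : H →* L), Ext d π →
      commutator H = ⊤ → ∃ ψ : CC x0 ≃* H, ψ ⟨x0, self_mem_CC x0⟩ = d) {d : G}
    (hd : orderOf d = 2) (hq : commutator (CC d) = ⊤) [((zpowers d).subgroupOf (CC d)).Normal]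
    (e : (CC d) ⧸ (zpowers d).subgroupOf (CC d) ≃* L) :
    ∃ ψ : CC x0 →* G, Cen ψ ⟨x0, self_mem_CC x0⟩ d := by
  classical
  obtain ⟨H, _, _, ⟨ι⟩⟩ := Finite.exists_type_univ_nonempty_mulEquiv.{_, 0} (CC d)
  have d2 : d * d = 1 := by rw [← pow_two, ← hd, pow_orderOf_eq_one]
  obtain ⟨ψ, hψ⟩ := ID H (ι ⟨d, self_mem_CC d⟩)
    (e.toMonoidHom.comp ((QuotientGroup.mk' _).comp ι.symm.toMonoidHom)) ⟨fun u => by
      obtain ⟨v, rfl⟩ := ι.surjective u
      rw [← map_mul, ← map_mul]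
      exact congrArg ι (Subtype.ext (mem_CC.1 v.2)),
    by rw [← map_mul, ← map_one ι]; exact congrArg ι (Subtype.ext d2),
    fun t => by
      rw [← map_one ι, ι.apply_eq_iff_eq] at t
      rw [show d = 1 from congrArg Subtype.val t, orderOf_one] at hd
      omega,
    e.surjective.comp ((QuotientGroup.mk'_surjective _).comp ι.symm.surjective),
    by simp [mem_subgroupOf], fun u hu => by
      obtain ⟨v, rfl⟩ := ι.surjective u
      have h1 : v.1 ∈ zpowers d := by simpa [mem_subgroupOf] using hu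
      rw [mem_zpowers_iff_mem_range_orderOf, hd] at h1
      simp only [Finset.mem_image, Finset.mem_range] at h1
      obtain ⟨k, hk, ek⟩ := h1
      interval_cases k
      · left; rw [← map_one ι]; exact congrArg ι (Subtype.ext (by simpa using ek.symm))
      · right; exact congrArg ι (Subtype.ext (by simpa using ek.symm))⟩
    (perfect_of_surj ι.toMonoidHom ι.surjective hq)
  refine ⟨(CC d).subtype.comp (ι.symm.toMonoidHom.comp ψ.toMonoidHom),
    (CC d).subtype_injective.comp (ι.symm.injective.comp ψ.injective), fun g hg => ?_, ?_⟩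
  · exact ⟨ψ.symm (ι ⟨g, mem_CC.2 hg⟩), by simp⟩
  · simp [hψ]

theorem Cen.loc {d : G} {ψ : CC x0 →* G} (c : Cen ψ ⟨x0, self_mem_CC x0⟩ d)
    (h : ∀ y : CC x0, IsConj d (ψ y) ↔ y = ⟨x0, self_mem_CC x0⟩ ∨ XX x0 y.1) : Loc x0 d ψ := by
  refine ⟨c.inj, c.rng, c.pd, fun y => (h y).trans ⟨?_, fun t => ?_⟩⟩
  · rintro (rfl | t)
    exacts [IsConj.refl _, t.1]
  · by_cases e : y.1 = x0
    · exact Or.inl (Subtype.ext e)
    · exact Or.inr ⟨t, mem_CC.1 y.2, e⟩

theorem Cen.twist [Finite F] {π : CC x0 →* L} (b : Base x0 L π) {d : G} {ψ : CC x0 →* G}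
    (c : Cen ψ ⟨x0, self_mem_CC x0⟩ d) (θ : CC x0 ≃* CC x0)
    (h0 : θ ⟨x0, self_mem_CC x0⟩ = ⟨x0, self_mem_CC x0⟩) {y1 y2 : F} (h1 : XX x0 y1)
    (h2 : XX x0 y2) (e : (θ ⟨y1, h1.mem⟩).1 = x0 * y2)
    (h : ∀ y : CC x0, IsConj d (ψ y) ↔ y = ⟨x0, self_mem_CC x0⟩ ∨ XX x0 (x0 * y.1)) :
    Loc x0 d (ψ.comp θ.toMonoidHom) := by
  refine Cen.loc ⟨c.inj.comp θ.injective, fun g hg => ?_, by simp [h0, c.pd]⟩ fun y =>
    (h (θ y)).trans (or_congr ?_ ?_)
  · obtain ⟨k, rfl⟩ := c.rng g hg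
    exact ⟨θ.symm k, by simp⟩
  · conv_lhs => rw [← h0]
    exact θ.apply_eq_iff_eq
  · have key : ∀ g : CC x0, x0 * (θ (g * ⟨y1, h1.mem⟩ * g⁻¹)).1 = θ g * y2 * (θ g).1⁻¹ := fun g => by
      rw [map_mul, map_mul, map_inv, Subgroup.coe_mul, Subgroup.coe_mul, e, ← mul_assoc (θ g).1,
        mem_CC.1 (θ g).2, ← mul_assoc, ← mul_assoc, ← mul_assoc, b.sq, one_mul]
      rfl
    constructor
    · intro t
      obtain ⟨k, hk, ek⟩ := b.t1 h2 t
      obtain ⟨g, hg⟩ := θ.surjective ⟨k, hk⟩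
      have := key g
      rw [hg, ek, mul_left_cancel_iff, ← Subtype.ext_iff, θ.apply_eq_iff_eq] at this
      exact this ▸ h1.conj g.2
    · intro t
      obtain ⟨g, hg, eg⟩ := b.t1 h1 t
      have : y = ⟨g, hg⟩ * ⟨y1, h1.mem⟩ * ⟨g, hg⟩⁻¹ := Subtype.ext eg.symm
      rw [this, key]
      exact h2.conj (θ _).2

end

noncomputable def relChk (E : Eng) (P : List NP) (w : List ℕ) : Bool :=
  lall (isX E) P && pwc E P && E.one (lapp w (cat P))

variable {F : Type} [Group F] {x0 : F} {φ : F →* Perm ℕ} {E : Eng} {f : ℕ → F} {N : ℕ}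
  {L : Type*} [Group L] {π : CC x0 →* L}

theorem Eng.Ok.rel (hE : E.Ok φ f x0 N) {P : List NP} {w : List ℕ} (h : relChk E P w = true) :
    (∀ y ∈ P.map fun a => pt φ x0 a.k, XX x0 y) ∧ (P.map fun a => pt φ x0 a.k).Pairwise Commute ∧
      (P.map fun a => pt φ x0 a.k).Nodup ∧ wd f w * (P.map fun a => pt φ x0 a.k).prod = 1 := by
  simp only [relChk, Bool.and_eq_true, lall_iff] at h
  have ok := fun p hp => (hE.isX (h.1.1 p hp)).1
  obtain ⟨a, b⟩ := hE.pwc ok h.1.2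
  refine ⟨fun y hy => ?_, a, b, ?_⟩
  · obtain ⟨p, hp, rfl⟩ := List.mem_map.1 hy
    exact (hE.isX (h.1.1 p hp)).2
  · rw [← hE.cat ((lall_iff _ _).2 ok), ← wd_lapp]; exact hE.one h.2

theorem Eng.Ok.base2 [Finite F] (hE : E.Ok φ f x0 N) (h : Base x0 L π) (hN : ¬ 4 ∣ N) {k : NP}
    {P : List NP} (h1 : relChk E (k :: P) [] = true) (h2 : Even P.length) {k1 k2 r y : NP}
    (h3 : (lall (Fx.isX E) [k1, k2, r, y] && Fx.pwc E [k1, k2, r] && Fx.pwc E [k1, k2, y] &&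
      !E.fx r.w y.k) = true) : Base2 x0 := by
  refine ⟨f1_of h.perf (by rwa [hE.act.index]), ?_, ?_⟩
  · obtain ⟨a, b, c, e⟩ := hE.rel h1
    rw [List.map_cons] at a b c e
    rw [List.pairwise_cons] at b
    rw [List.nodup_cons] at c
    have a0 := a _ List.mem_cons_self
    rw [wd_nil, one_mul, List.prod_cons, mul_eq_one_iff_inv_eq,
      inv_eq_of_mul_eq_one_right (h.tr.sq _ a0.1)] at e
    exact ⟨_, a0, _, by rwa [List.length_map], e.symm, fun p hp =>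
      ⟨a p (List.mem_cons_of_mem _ hp), fun t => c.1 (t ▸ hp), (b.1 p hp).symm.eq⟩⟩
  · simp only [Bool.and_eq_true, lall_iff, List.mem_cons, List.not_mem_nil, or_false,
      forall_eq_or_imp, forall_eq, Bool.not_eq_true', ← Bool.not_eq_true] at h3
    obtain ⟨⟨⟨⟨a1, a2, a3, a4⟩, b⟩, c⟩, e⟩ := h3
    have a1 := hE.isX a1
    have a2 := hE.isX a2
    have a3 := hE.isX a3
    have a4 := hE.isX a4
    obtain ⟨b1, b2⟩ := hE.pwc (by simp [a1.1, a2.1, a3.1]) b
    obtain ⟨c1, -⟩ := hE.pwc (by simp [a1.1, a2.1, a4.1]) c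
    simp only [List.map_cons, List.map_nil, List.pairwise_cons, List.mem_cons, List.not_mem_nil,
      or_false, forall_eq_or_imp, forall_eq, List.nodup_cons, not_or] at b1 b2 c1
    exact ⟨_, _, _, _, a1.2, a2.2, Ne.symm b2.1.1, b1.1.1, a3.2, a4.2, b1.1.2.symm, b1.2.1.symm,
      c1.1.2.symm, c1.2.1.symm, fun t => e ((hE.cm a3.1 (hE.ok a4.1).1).2 t)⟩

theorem Eng.Ok.lam [Finite F] (hE : E.Ok φ f x0 N) (h : Base x0 L π) {x1 : F} (h1 : XX x0 x1)
    (hgen : ∀ g ∈ CC x0, g * x1 = x1 * g →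
      g ∈ closure {y | IsConj x0 y ∧ y * x0 = x0 * y ∧ y * x1 = x1 * y})
    {a : NP} {P Q : List NP} {w : List ℕ} (hw : w = [] ∨ w = E.xw)
    (h2 : relChk E (a :: P) w = true) (h3 : Odd P.length) (h4 : relChk E Q [] = true)
    (h5 : Odd Q.length) {H : Type*} [Group H] {d : H} {π' : H →* L} (e : Ext d π') :
    ∃ lam : F → H, Lam π π' lam := by
  obtain ⟨a1, a2, a3, a4⟩ := hE.rel h2
  obtain ⟨b1, b2, -, b4⟩ := hE.rel h4
  rw [List.map_cons] at a1 a2 a3 a4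
  refine exists_lam h e h1 hgen a1 (List.nodup_cons.1 a3).1
    (fun y hy => ((List.pairwise_cons.1 a2).1 y hy).eq) (by rwa [List.length_map]) ?_ b1 b2
    (by rwa [List.length_map]) (Or.inl (by simpa using b4))
  rcases hw with rfl | rfl
  · exact Or.inl (by simpa using a4)
  · rw [hE.xw, mul_eq_one_iff_inv_eq, inv_eq_of_mul_eq_one_right h.sq] at a4
    exact Or.inr a4.symm

end Cfsg.Agent.Fx
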