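import Cfsg.Agent.Fx.Code
import Cfsg.Agent.Fx.Lift

/-!
An elementary abelian 2-subgroup given by codes: a Sylow 2-subgroup normalising it, weak closure,
and conjugacy of involutions into it.
-/
set_option autoImplicit false

namespace Cfsg.Agent.Fx

open Cfsg.Agent.Spor Subgroup

variable {H : Type*} [Group H]

structure VS (ν : ℕ → H) (r : ℕ) : Prop where
  add : ∀ a b, ν (a ^^^ b) = ν a * ν b
  md : ∀ c, ν (c % 2 ^ r) = ν c
  inj : ∀ c < 2 ^ r, ν c = 1 → c = 0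

def Act (ν : ℕ → H) (r : ℕ) (h : H) (L : List ℕ) : Prop :=
  L.length = r ∧ (∀ a ∈ L, a < 2 ^ r) ∧ ∀ c, h * ν c * h⁻¹ = ν (lin L c)

theorem nu_zero {ν : ℕ → H} (add : ∀ a b, ν (a ^^^ b) = ν a * ν b) : ν 0 = 1 := by
  have := add 0 0
  simpa using this

theorem nu_lin_mem {ν : ℕ → H} (add : ∀ a b, ν (a ^^^ b) = ν a * ν b) {K : Subgroup H}
    {L : List ℕ} (h : ∀ a ∈ L, ν a ∈ K) (c : ℕ) : ν (lin L c) ∈ K := by
  induction L generalizing c with
  | nil => exact (nu_zero add).symm ▸ K.one_mem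
  | cons a L ih =>
    rw [lin_cons, add]
    refine K.mul_mem ?_ (ih (fun b hb => h b (List.mem_cons_of_mem _ hb)) _)
    rcases Nat.mod_two_eq_zero_or_one c with e | e <;> rw [e]
    · rw [mul_zero, nu_zero add]; exact K.one_mem
    · rw [mul_one]; exact h a List.mem_cons_self

theorem lin_ext {A B : List ℕ} (hl : A.length = B.length) (h : ∀ c, lin A c = lin B c) : A = B := by
  induction A generalizing B with
  | nil => cases B with
    | nil => rfl
    | cons => cases hl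
  | cons a A ih => cases B with
    | nil => cases hl
    | cons b B =>
      have h1 := h 1
      simp only [lin_cons, Nat.one_mod, mul_one, Nat.reduceDiv, lin_zero, Nat.xor_zero] at h1
      rw [h1, ih (by simpa using hl) fun c => ?_]
      have := h (2 * c)
      simpa [lin_cons] using this

theorem mem_pows {r s a : ℕ} (h : a ∈ pows r s) : ∃ i < r, a = 2 ^ i * s := by
  induction r generalizing s with
  | zero => simp [pows] at h
  | succ r ih =>
    rcases List.mem_cons.1 h with rfl | h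
    · exact ⟨0, by omega, by simp⟩
    · obtain ⟨i, hi, rfl⟩ := ih h
      exact ⟨i + 1, by omega, by show 2 ^ i * (2 * s) = _; ring⟩

theorem lin_id' (r c : ℕ) : lin (pows r 1) c = c % 2 ^ r := by
  have := lin_pows r 0 c
  rwa [pow_zero, one_mul] at this

theorem nth_mem {α : Type} (d : α) (l : List α) (j : ℕ) : nth d l j ∈ d :: l := by
  rw [nth_eq, List.getD_eq_getElem?_getD]
  cases h : l[j]? with
  | none => simp
  | some a => exact List.mem_cons_of_mem _ (List.mem_of_getElem? h)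

theorem conj_into [Finite H] (T : Sylow 2 H) {P : Subgroup H} (hP : IsPGroup 2 P) :
    ∃ g : H, ∀ x ∈ P, g * x * g⁻¹ ∈ T := by
  obtain ⟨Q, hQ⟩ := hP.exists_le_sylow
  obtain ⟨g, rfl⟩ := MulAction.exists_smul_eq H Q T
  refine ⟨g, fun x hx => ?_⟩
  show g * x * g⁻¹ ∈ ((g • Q : Sylow 2 H) : Subgroup H)
  rw [Sylow.coe_subgroup_smul]
  exact Subgroup.smul_mem_pointwise_smul x (MulAut.conj g) _ (hQ hx)

theorem pgroup_of_sq {P : Subgroup H} (h : ∀ x ∈ P, x * x = 1) : IsPGroup 2 P :=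
  fun x => ⟨1, Subtype.ext (by simpa [pow_two] using h x x.2)⟩

theorem closure_sq {Q : Set H} (h1 : ∀ x ∈ Q, x * x = 1) (h2 : ∀ x ∈ Q, ∀ y ∈ Q, x * y = y * x) :
    ∀ x ∈ closure Q, x * x = 1 := by
  have hc : ∀ x ∈ closure Q, ∀ y ∈ closure Q, x * y = y * x := fun x hx y hy =>
    congrArg Subtype.val ((closureCommGroupOfComm h2).mul_comm ⟨x, hx⟩ ⟨y, hy⟩)
  intro x hx
  induction hx using closure_induction with
  | mem x hx => exact h1 x hx
  | one => simp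
  | mul x y hx hy ix iy =>
    calc x * y * (x * y) = x * (y * x) * y := by group
      _ = x * x * (y * y) := by rw [hc y hy x hx]; group
      _ = 1 := by rw [ix, iy, mul_one]
  | inv x _ ix => rw [← mul_inv_rev, ix, inv_one]

theorem Act.one {ν : ℕ → H} {r : ℕ} (md : ∀ c, ν (c % 2 ^ r) = ν c) : Act ν r 1 (pows r 1) :=
  ⟨len_pows r 1, by simpa using pows_lt r 0, fun c => by rw [lin_id', md]; simp⟩

theorem Act.mul {ν : ℕ → H} {r : ℕ} {g h : H} {A B : List ℕ} (ha : Act ν r g A)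
    (hb : Act ν r h B) : Act ν r (g * h) (cmp A B) := by
  refine ⟨by rw [cmp, len_lmap, hb.1], fun a h1 => ?_, fun c => ?_⟩
  · rw [cmp, lmap_eq] at h1
    obtain ⟨b, -, rfl⟩ := List.mem_map.1 h1
    exact lin_lt ha.2.1 b
  · rw [lin_cmp, ← ha.2.2, ← hb.2.2]; group

theorem Act.wd {ν : ℕ → H} {r : ℕ} (md : ∀ c, ν (c % 2 ^ r) = ν c) {n : ℕ → H}
    {GN : List (List ℕ)} (hn : ∀ j, Act ν r (n j) (nth (pows r 1) GN j)) (w : List ℕ) :
    Act ν r (wd n w) (linW r GN w) := by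
  induction w with
  | nil => exact Act.one md
  | cons j w ih => rw [wd_cons]; exact (hn j).mul ih

/-- words in the generators as new generators -/
theorem Act.gens {ν : ℕ → H} {r : ℕ} (md : ∀ c, ν (c % 2 ^ r) = ν c) {n : ℕ → H}
    {GN : List (List ℕ)} (hn : ∀ j, Act ν r (n j) (nth (pows r 1) GN j)) (W : List (List ℕ))
    (j : ℕ) : Act ν r (Fx.wd n (nth [] W j)) (nth (pows r 1) (W.map (linW r GN)) j) := by
  have : nth (pows r 1) (W.map (linW r GN)) j = linW r GN (nth [] W j) := by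
    rw [nth_eq, nth_eq]
    exact List.getD_map W [] (linW r GN)
  rw [this]; exact Act.wd md hn _

namespace VS
variable {ν : ℕ → H} {r : ℕ} (hV : VS ν r)
include hV

theorem zero : ν 0 = 1 := nu_zero hV.add

theorem sq (c : ℕ) : ν c * ν c = 1 := by rw [← hV.add, Nat.xor_self, hV.zero]

theorem cm (a b : ℕ) : ν a * ν b = ν b * ν a := by rw [← hV.add, ← hV.add, Nat.xor_comm]

theorem inj' {a b : ℕ} (ha : a < 2 ^ r) (hb : b < 2 ^ r) (e : ν a = ν b) : a = b :=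
  Nat.xor_eq_zero_iff.1 (hV.inj _ (Nat.xor_lt_two_pow ha hb) (by rw [hV.add, e, hV.sq]))

def sub : Subgroup H where
  carrier := {x | ∃ c < 2 ^ r, ν c = x}
  one_mem' := ⟨0, Nat.two_pow_pos r, hV.zero⟩
  mul_mem' := by
    rintro _ _ ⟨a, ha, rfl⟩ ⟨b, hb, rfl⟩
    exact ⟨_, Nat.xor_lt_two_pow ha hb, hV.add a b⟩
  inv_mem' := by
    rintro _ ⟨a, ha, rfl⟩
    exact ⟨a, ha, (inv_eq_of_mul_eq_one_right (hV.sq a)).symm⟩

theorem mem (c : ℕ) : ν c ∈ hV.sub := ⟨_, Nat.mod_lt c (Nat.two_pow_pos r), hV.md c⟩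

theorem card : Nat.card hV.sub = 2 ^ r := by
  have : Function.Bijective fun c : Fin (2 ^ r) => (⟨ν c, hV.mem c⟩ : hV.sub) :=
    ⟨fun a b e => Fin.ext (hV.inj' a.2 b.2 (congrArg Subtype.val e)),
      fun ⟨_, c, hc, e⟩ => ⟨⟨c, hc⟩, Subtype.ext e⟩⟩
  rw [← Nat.card_eq_of_bijective _ this, Nat.card_fin]

theorem pg : IsPGroup 2 hV.sub := IsPGroup.of_card hV.card

theorem conj (g : H) : VS (fun c => g * ν c * g⁻¹) r where
  add a b := by simp only [hV.add]; group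
  md c := by simp only [hV.md]
  inj c hc e := hV.inj c hc (by simpa using e)

theorem uniq {g h : H} {A B : List ℕ} (ha : Act ν r g A) (hb : Act ν r h B)
    (e : ∀ c, g * ν c * g⁻¹ = h * ν c * h⁻¹) : A = B :=
  lin_ext (ha.1.trans hb.1.symm) fun c => hV.inj' (lin_lt ha.2.1 c) (lin_lt hb.2.1 c)
    (by rw [← ha.2.2, ← hb.2.2, e])

theorem norm [Finite H] {g : H} {A : List ℕ} (ha : Act ν r g A) :
    g ∈ normalizer (hV.sub : Set H) :=
  mem_normalizer_fintype (by rintro _ ⟨c, -, rfl⟩; rw [ha.2.2]; exact hV.mem _)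

theorem cen {t : H} (h : ∀ i < r, t * ν (2 ^ i) = ν (2 ^ i) * t) (c : ℕ) : t * ν c = ν c * t := by
  rw [← hV.md, ← lin_id', eq_comm, ← mem_centralizer_singleton_iff]
  refine nu_lin_mem hV.add (fun a ha => ?_) c
  obtain ⟨i, hi, rfl⟩ := mem_pows ha
  rw [mul_one, mem_centralizer_singleton_iff, h i hi]

end VS

structure Syl (ν : ℕ → H) (r : ℕ) (UL : List (List ℕ)) (T : Sylow 2 H) : Prop where
  le : ∀ c, ν c ∈ T
  act : ∀ t ∈ T, ∃ L ∈ UL, Act ν r t L
  cen : ∀ t ∈ T, (∀ c, t * ν c = ν c * t) → ∃ c < 2 ^ r, ν c = t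

theorem VS.exists_syl [Finite H] {ν : ℕ → H} {r : ℕ} (hV : VS ν r) {n : ℕ → H}
    {GN : List (List ℕ)} (hn : ∀ j, Act ν r (n j) (nth (pows r 1) GN j)) {UW UL : List (List ℕ)}
    (h1 : UW.map (linW r GN) = UL) (h0 : pows r 1 ∈ UL)
    (h2 : ∀ A ∈ pows r 1 :: GN, ∀ L ∈ UL, cmp A L ∈ UL) (h3 : UL.Nodup) {k : ℕ}
    (h4 : UL.length = 2 ^ k) (h5 : ¬ 2 ^ (r + k + 1) ∣ Nat.card H) : ∃ T, Syl ν r UL T := by
  classical
  have cl : ∀ w, ∀ B ∈ UL, (∀ a ∈ B, a < 2 ^ r) →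
      ∃ L ∈ UL, ∀ c, lin L c = lin (linW r GN w) (lin B c) := by
    intro w B hB hB'
    induction w with
    | nil => exact ⟨B, hB, fun c => (lin_id (lin_lt hB' c)).symm⟩
    | cons j w ih =>
      obtain ⟨L, hL, e⟩ := ih
      refine ⟨_, h2 _ (nth_mem _ GN j) L hL, fun c => ?_⟩
      show _ = lin (cmp _ (linW r GN w)) _
      rw [lin_cmp, lin_cmp, e]
  have ex : ∀ L ∈ UL, ∃ u, Act ν r u L := fun L hL => by
    obtain ⟨w, -, rfl⟩ := List.mem_map.1 (h1 ▸ hL)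
    exact ⟨_, Act.wd hV.md hn w⟩
  let M0 : Submonoid H :=
    { carrier := {h | ∃ L ∈ UL, Act ν r h L}
      one_mem' := ⟨_, h0, Act.one hV.md⟩
      mul_mem' := by
        rintro a b ⟨A, hA, ha⟩ ⟨B, hB, hb⟩
        obtain ⟨w, -, rfl⟩ := List.mem_map.1 (h1 ▸ hA)
        obtain ⟨L, hL, e⟩ := cl w B hB hb.2.1
        obtain ⟨u, hu⟩ := ex L hL
        exact ⟨L, hL, hu.1, hu.2.1, fun c => by rw [e, (ha.mul hb).2.2, lin_cmp]⟩ }
  let M : Subgroup H :=
    { M0 with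
      inv_mem' := fun {x} hx => by
        have : x⁻¹ = x ^ (orderOf x - 1) := by
          rw [inv_eq_iff_mul_eq_one, ← pow_succ', Nat.sub_add_cancel (orderOf_pos x),
            pow_orderOf_eq_one]
        exact this ▸ M0.pow_mem hx _ }
  have hMN : M ≤ normalizer (hV.sub : Set H) := fun x hx => hx.elim fun _ h => hV.norm h.2
  let ρ : M →* MulAut hV.sub := hV.sub.normalizerMonoidHom.comp (inclusion hMN)
  have hρ : ∀ (a : M) (v : hV.sub), (ρ a v : H) = a * v * (a : H)⁻¹ := fun a v => rfl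
  have hk : ρ.ker.index = 2 ^ k := by
    have ex' := ex
    choose u hu using ex'
    have : Function.Bijective fun L : UL.toFinset =>
        (⟨ρ ⟨u L.1 (List.mem_toFinset.1 L.2), L.1, List.mem_toFinset.1 L.2, hu _ _⟩, _, rfl⟩ :
          ρ.range) := by
      refine ⟨fun A B e => Subtype.ext (hV.uniq (hu _ (List.mem_toFinset.1 A.2))
        (hu _ (List.mem_toFinset.1 B.2)) fun c => ?_), ?_⟩
      · exact congrArg (fun α : ρ.range => (α.1 ⟨ν c, hV.mem c⟩ : H)) e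
      · rintro ⟨_, ⟨a, L, hL, ha⟩, rfl⟩
        refine ⟨⟨L, List.mem_toFinset.2 hL⟩, Subtype.ext (MulEquiv.ext ?_)⟩
        rintro ⟨_, c, hc, rfl⟩
        exact Subtype.ext (by rw [hρ, hρ]; exact ((hu L hL).2.2 c).trans (ha.2.2 c).symm)
    rw [index_ker, ← Nat.card_eq_of_bijective _ this, Nat.card_eq_fintype_card, Fintype.card_coe,
      List.toFinset_card_of_nodup h3, h4]
  have hVM : hV.sub ≤ M := by
    rintro _ ⟨a, -, rfl⟩
    refine ⟨_, h0, (Act.one hV.md).1, (Act.one hV.md).2.1, fun c => ?_⟩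
    rw [hV.cm a c, lin_id', hV.md, mul_inv_cancel_right]
  obtain ⟨T0⟩ : Nonempty (Sylow 2 M) := inferInstance
  haveI : (hV.sub.subgroupOf M).Normal := (normal_subgroupOf_iff_le_normalizer hVM).2 hMN
  have hVT : hV.sub.subgroupOf M ≤ T0 := 
    IsPGroup.le_sylow_of_normal (N := hV.sub.subgroupOf M) hV.pg.comap_subtype T0
  have hd : 2 ^ k ∣ ρ.ker.relIndex T0 := by
    have a1 := relIndex_mul_index (inf_le_right : ρ.ker ⊓ T0 ≤ T0)
    have a2 := index_dvd_of_le (inf_le_left : ρ.ker ⊓ T0 ≤ ρ.ker)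
    rw [hk, ← a1, inf_relIndex_right] at a2
    exact (Nat.Coprime.pow_left k ((Nat.Prime.coprime_iff_not_dvd Nat.prime_two).2
      T0.not_dvd_index)).dvd_of_dvd_mul_right a2
  have hle : hV.sub.subgroupOf M ≤ ρ.ker ⊓ T0 := by
    refine le_inf (fun a ha => ?_) hVT
    obtain ⟨b, -, e⟩ : ∃ c < 2 ^ r, ν c = a := ha
    rw [MonoidHom.mem_ker]
    refine MulEquiv.ext ?_
    rintro ⟨_, c, hc, rfl⟩
    exact Subtype.ext (by rw [hρ, ← e]; simp [hV.cm b c])
  have cV : Nat.card (hV.sub.subgroupOf M) = 2 ^ r := by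
    rw [Nat.card_congr (subgroupOfEquivOfLe hVM).toEquiv, hV.card]
  have cT : Nat.card (ρ.ker ⊓ T0 : Subgroup M) * ρ.ker.relIndex T0 = Nat.card T0 := by
    rw [← inf_relIndex_right, ← card_mul_index ((ρ.ker ⊓ T0).subgroupOf T0),
      Nat.card_congr (subgroupOfEquivOfLe inf_le_right).toEquiv]
    rfl
  have bd : ∀ Q : Subgroup H, IsPGroup 2 Q → Nat.card Q ≤ 2 ^ (r + k) := fun Q hQ => by
    obtain ⟨m, hm⟩ := IsPGroup.iff_card.1 hQ
    rw [hm]
    refine Nat.pow_le_pow_right (by norm_num) (le_of_not_gt fun t => h5 ?_)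
    exact (pow_dvd_pow 2 t).trans (hm ▸ Q.card_subgroup_dvd_card)
  have cM : Nat.card ((T0 : Subgroup M).map M.subtype) = Nat.card T0 :=
    card_map_of_injective M.subtype_injective
  have pT : IsPGroup 2 ((T0 : Subgroup M).map M.subtype) := T0.isPGroup'.map _
  have b1 := card_le_of_le hle
  have b2 := Nat.le_of_dvd (Nat.pos_of_ne_zero index_ne_zero_of_finite) hd
  have b3 := bd _ pT
  rw [cM, ← cT, pow_add] at b3
  rw [cV] at b1
  have b4 : Nat.card (ρ.ker ⊓ T0 : Subgroup M) ≤ 2 ^ r :=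
    Nat.le_of_mul_le_mul_right ((Nat.mul_le_mul_left _ b2).trans b3) (Nat.two_pow_pos k)
  have b5 : 2 ^ (r + k) ≤ Nat.card ((T0 : Subgroup M).map M.subtype) := by
    rw [cM, ← cT, pow_add]; exact Nat.mul_le_mul b1 b2
  have b6 := eq_of_le_of_card_ge hle (cV ▸ b4)
  refine ⟨⟨_, pT, fun {Q} hQ hle => (eq_of_le_of_card_ge hle ((bd Q hQ).trans b5)).symm⟩,
    fun c => ⟨⟨ν c, hVM (hV.mem c)⟩, hVT (hV.mem c), rfl⟩, ?_, ?_⟩
  · rintro _ ⟨a, -, rfl⟩
    exact a.2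
  · rintro _ ⟨a, ha, rfl⟩ hc
    have : a ∈ hV.sub.subgroupOf M := by
      rw [b6]
      refine ⟨MulEquiv.ext ?_, ha⟩
      rintro ⟨_, c, -, rfl⟩
      exact Subtype.ext (by rw [hρ]; exact mul_inv_eq_iff_eq_mul.2 (hc c))
    exact this

end Cfsg.Agent.Fx
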