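import Cfsg.Agent.Fx.PA

/-!
Weak closure of the coded subgroup and conjugacy of involutions into it.
-/
set_option autoImplicit false

namespace Cfsg.Agent.Fx

open Cfsg.Agent.Spor Subgroup

variable {H : Type*} [Group H] [Finite H] {ν : ℕ → H} {r : ℕ} {UL I : List (List ℕ)}
  {T : Sylow 2 H}

structure Wk (ν : ℕ → H) (r : ℕ) (UL I : List (List ℕ)) (T : Sylow 2 H) : Prop where
  vs : VS ν r
  syl : Syl ν r UL T
  hr : 2 ^ r < 4095
  inv : ∀ L ∈ UL, cmp L L = pows r 1 → L ∈ I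
  len : ∀ L ∈ I, L.length = r
  off : ∀ L ∈ I, L = pows r 1 ∨ offOk (2 ^ r) I.length (I.map (fm r)) 2 (fm r L) = true

namespace Wk
variable (w : Wk ν r UL I T)
include w

omit [Finite H] in
theorem invol {t : H} (ht : t ∈ T) (h2 : t * t = 1) : ∃ L ∈ I, Act ν r t L := by
  obtain ⟨L, hL, h⟩ := w.syl.act t ht
  exact ⟨L, w.inv L hL (w.vs.uniq (h.mul h) (Act.one w.vs.md) fun c => by rw [h2]), h⟩

omit [Finite H] in
theorem of_id {t : H} (ht : t ∈ T) (h : Act ν r t (pows r 1)) : ∃ c < 2 ^ r, ν c = t :=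
  w.syl.cen t ht fun c => by
    have := h.2.2 c
    rwa [lin_id', w.vs.md, mul_inv_eq_iff_eq_mul] at this

omit [Finite H] in
theorem f2 {μ : ℕ → H} (hμ : VS μ r) (hT : ∀ c, μ c ∈ T) (c : ℕ) : ∃ a < 2 ^ r, ν a = μ c := by
  classical
  choose f hf1 hf2 using fun a => w.invol (hT a) (hμ.sq a)
  by_cases h0 : ∀ a, f a = pows r 1
  · exact w.of_id (hT c) (h0 c ▸ hf2 c)
  exfalso
  push Not at h0
  obtain ⟨a0, h0⟩ := h0
  let S := (Finset.range (2 ^ r)).image f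
  let W := (Finset.range (2 ^ r)).filter fun c => ∃ a, ν c = μ a
  have fx : ∀ c ∈ W, ∀ a, lin (f a) c = c := fun c hc a => by
    obtain ⟨h1, b, e⟩ := Finset.mem_filter.1 hc
    refine w.vs.inj' (lin_lt (hf2 a).2.1 c) (Finset.mem_range.1 h1) ?_
    rw [← (hf2 a).2.2, e, hμ.cm a b, mul_inv_cancel_right]
  have h1 := (w.off _ (hf1 a0)).resolve_left h0
  rw [fm_eq (hf2 a0).1] at h1
  have h2 := offOk_sound w.hr w.len (S := S) (W := W) (fun L hL => by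
      obtain ⟨a, -, rfl⟩ := Finset.mem_image.1 hL
      exact hf1 a) (fun c hc => ⟨Finset.mem_range.1 (Finset.mem_filter.1 hc).1, fun L hL => by
      obtain ⟨a, -, rfl⟩ := Finset.mem_image.1 hL
      exact fx c hc a⟩) 2 _ (fun c hc => by simp [fx c hc a0]) h1
  have h3 := Finset.card_le_mul_card_image (f := f) (Finset.range (2 ^ r)) W.card (by
    intro L hL
    obtain ⟨b, hb, rfl⟩ := Finset.mem_image.1 hL
    have ex : ∀ a, f a = f b → ∃ c < 2 ^ r, ν c = μ (b ^^^ a) := fun a e =>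
      w.syl.cen _ (hT _) fun c => by
        have e1 := (hf2 a).2.2 c
        have e2 := (hf2 b).2.2 c
        rw [e, ← e2] at e1
        rw [hμ.add, ← mul_inv_eq_iff_eq_mul]
        calc μ b * μ a * ν c * (μ b * μ a)⁻¹ = μ b * (μ a * ν c * (μ a)⁻¹) * (μ b)⁻¹ := by group
          _ = μ b * μ b * ν c * (μ b * μ b)⁻¹ := by rw [e1]; group
          _ = ν c := by rw [hμ.sq]; group
    choose! g hg1 hg2 using ex
    refine Finset.card_le_card_of_injOn g (fun a ha => ?_) (fun a ha a' ha' e => ?_)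
    · have ha := Finset.mem_filter.1 (Finset.mem_coe.1 ha)
      exact Finset.mem_coe.2 (Finset.mem_filter.2
        ⟨Finset.mem_range.2 (hg1 a ha.2), _, hg2 a ha.2⟩)
    · have ha := Finset.mem_filter.1 (Finset.mem_coe.1 ha)
      have ha' := Finset.mem_filter.1 (Finset.mem_coe.1 ha')
      have := (hg2 a ha.2).symm.trans (e ▸ hg2 a' ha'.2)
      rw [hμ.add, hμ.add, mul_left_cancel_iff] at this
      exact hμ.inj' (Finset.mem_range.1 ha.1) (Finset.mem_range.1 ha'.1) this)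
  rw [Finset.card_range] at h3
  exact absurd h2 (not_lt.2 h3)

theorem f2' {μ : ℕ → H} (hμ : VS μ r) : ∃ g : H, ∀ c, ∃ a < 2 ^ r, ν a = g * μ c * g⁻¹ := by
  obtain ⟨g, hg⟩ := conj_into T hμ.pg
  exact ⟨g, w.f2 (hμ.conj g) fun c => hg _ (hμ.mem c)⟩

theorem two {x : H} {m : ℕ} (hx : x ^ 2 ^ m = 1) (hc : ∀ c, x * ν c = ν c * x) :
    ∃ c < 2 ^ r, ν c = x := by
  have p1 : IsPGroup 2 (zpowers x) := fun y => ⟨m, by
    obtain ⟨_, k, rfl⟩ := y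
    refine Subtype.ext ?_
    show (x ^ k) ^ 2 ^ m = 1
    rw [← zpow_natCast, ← zpow_mul, mul_comm, zpow_mul, zpow_natCast, hx, one_zpow]⟩
  have p2 : IsPGroup 2 (zpowers x ⊔ w.vs.sub : Subgroup H) :=
    p1.to_sup_of_normal_right' w.vs.pg (zpowers_le.2 (mem_normalizer_fintype (by
      rintro _ ⟨c, -, rfl⟩
      rw [hc, mul_inv_cancel_right]; exact w.vs.mem c)))
  obtain ⟨g, hg⟩ := conj_into T p2
  have h1 := w.f2 (w.vs.conj g) fun c => hg _ (mem_sup_right (w.vs.mem c))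
  have h2 : (w.vs.conj g).sub = w.vs.sub :=
    eq_of_le_of_card_ge (by rintro _ ⟨c, -, rfl⟩; exact h1 c) (by rw [VS.card, VS.card])
  obtain ⟨a, -, e⟩ := w.syl.cen _ (hg x (mem_sup_left (mem_zpowers x))) fun c => by
    obtain ⟨b, -, e⟩ : ν c ∈ (w.vs.conj g).sub := h2 ▸ w.vs.mem c
    rw [← e]; exact conj_comm (hc b) g
  obtain ⟨b, hb, e'⟩ : ν a ∈ (w.vs.conj g).sub := h2 ▸ w.vs.mem a
  exact ⟨b, hb, by simpa using e'.trans e⟩

omit [Finite H] in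
theorem pt_mem {E : Set H} (e2 : ∀ u ∈ E, ∀ v ∈ E, u * v = v * u ∨ (u * v) ^ 3 = 1)
    (e0 : ∀ u ∈ E, u * u = 1) (e3 : ∀ i < r, ν (2 ^ i) ∈ E) {p : H} (hp : p ∈ E) (hT : p ∈ T) :
    ∃ c < 2 ^ r, ν c = p := by
  refine w.syl.cen p hT (w.vs.cen fun i hi => ?_)
  refine (e2 p hp _ (e3 i hi)).elim id fun h3 => ?_
  obtain ⟨m, hm⟩ := T.isPGroup' ⟨_, T.1.mul_mem hT (w.syl.le (2 ^ i))⟩
  have hm' : (p * ν (2 ^ i)) ^ 2 ^ m = 1 := congrArg Subtype.val hm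
  have h1 : p * ν (2 ^ i) = 1 := by
    rw [← orderOf_eq_one_iff]
    exact Nat.eq_one_of_dvd_coprimes (Nat.Coprime.pow_right m (by norm_num : Nat.Coprime 3 2))
      (orderOf_dvd_of_pow_eq_one h3) (orderOf_dvd_of_pow_eq_one hm')
  rw [h1, mul_eq_one_comm.1 h1]

/-- every involution is conjugate into the coded subgroup -/
theorem f1 {E : Set H} (e1 : ∀ u ∈ E, ∀ g, g * u * g⁻¹ ∈ E)
    (e2 : ∀ u ∈ E, ∀ v ∈ E, u * v = v * u ∨ (u * v) ^ 3 = 1)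
    (e0 : ∀ u ∈ E, u * u = 1) (e3 : ∀ i < r, ν (2 ^ i) ∈ E) {n : ℕ → H}
    {GN : List (List ℕ)} (hn : ∀ j, Act ν r (n j) (nth (pows r 1) GN j)) {y1 y2 : H}
    (hy1 : y1 ∈ E) (hy2 : y2 ∈ E) (hy : y1 * y2 = y2 * y1) {A0 : List ℕ}
    (h0 : Act ν r (y1 * y2) A0)
    (hw : ∀ L ∈ I, L = pows r 1 ∨ ∃ u, cmp (linW r GN u) L = cmp A0 (linW r GN u))
    {HC : List ℕ} (hh : ∀ a ∈ HC, ν a ∈ E ∧ ν a * y1 = y1 * ν a ∧ ν a * y2 = y2 * ν a)
    (hx : ∀ c < 2 ^ r, lin A0 c = c → ∃ m u, c ^^^ (lin A0 u ^^^ u) = lin HC m)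
    {t : H} (ht : t * t = 1) : ∃ g : H, ∃ c < 2 ^ r, ν c = g * t * g⁻¹ := by
  suffices key : ∀ t ∈ T, t * t = 1 → ∃ g : H, ∃ c < 2 ^ r, ν c = g * t * g⁻¹ by
    obtain ⟨g, hg⟩ := conj_into T (P := closure {t})
      (pgroup_of_sq (closure_sq (by simpa using ht) (by simp)))
    obtain ⟨k, c, hc, e⟩ := key _ (hg t (subset_closure rfl)) (by
      rw [show g * t * g⁻¹ * (g * t * g⁻¹) = g * (t * t) * g⁻¹ by group, ht]; group)
    exact ⟨k * g, c, hc, by rw [e]; group⟩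
  clear ht t
  intro t hT ht
  obtain ⟨L, hL, ha⟩ := w.invol hT ht
  rcases hw L hL with rfl | ⟨u, hu⟩
  · exact ⟨1, by simpa using w.of_id hT ha⟩
  have hg := Act.wd w.vs.md hn u
  generalize wd n u = g at hg
  generalize linW r GN u = B at hg hu
  obtain ⟨s, hs⟩ : ∃ s, s = y1 * y2 := ⟨_, rfl⟩
  rw [← hs] at h0
  have ss : s * s = 1 := by
    rw [hs]
    calc y1 * y2 * (y1 * y2) = y1 * (y2 * y1) * y2 := by group
      _ = y1 * y1 * (y2 * y2) := by rw [← hy]; group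
      _ = 1 := by rw [e0 _ hy1, e0 _ hy2, mul_one]
  have si : s⁻¹ = s := inv_eq_of_mul_eq_one_right ss
  obtain ⟨t', ht'⟩ : ∃ s, s = g * t * g⁻¹ := ⟨_, rfl⟩
  have tt : t' * t' = 1 := by
    rw [show t' * t' = g * (t * t) * g⁻¹ by rw [ht']; group, ht]; group
  have ti : t'⁻¹ = t' := inv_eq_of_mul_eq_one_right tt
  have a1 : ∀ c, t' * ν c * t'⁻¹ = s * ν c * s⁻¹ := fun c => by
    obtain ⟨b, -, e⟩ : g⁻¹ * ν c * g ∈ w.vs.sub := by
      have := (mem_normalizer_iff.1 (inv_mem (w.vs.norm hg)) _).1 (w.vs.mem c)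
      rwa [inv_inv] at this
    have e1 := (hg.mul ha).2.2 b
    rw [hu, ← (h0.mul hg).2.2, e] at e1
    simpa [ht', mul_assoc] using e1
  have a2 : ∀ c, t' * s * ν c = ν c * (t' * s) := fun c => by
    rw [← mul_inv_eq_iff_eq_mul]
    calc t' * s * ν c * (t' * s)⁻¹ = t' * (s * ν c * s⁻¹) * t'⁻¹ := by group
      _ = s * (s * ν c * s⁻¹) * s⁻¹ := by rw [h0.2.2, a1]
      _ = s * s * ν c * (s * s)⁻¹ := by group
      _ = ν c := by rw [ss]; group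
  obtain ⟨ρ, hρ⟩ : ∃ ρ, ρ = t' * s := ⟨_, rfl⟩
  rw [← hρ] at a2
  obtain ⟨m, k, hk, e⟩ := Nat.exists_eq_two_pow_mul_odd (orderOf_pos ρ).ne'
  obtain ⟨k, rfl⟩ := hk
  obtain ⟨c, hc, ec⟩ := w.two (x := ρ ^ (2 * k + 1)) (m := m)
    (by rw [← pow_mul, mul_comm, ← e, pow_orderOf_eq_one])
    fun c => (Commute.pow_left (a2 c) _).eq
  have i1 : s * ρ * s⁻¹ = ρ⁻¹ := by
    rw [hρ, mul_inv_rev, si, ti, mul_assoc, mul_assoc, ss, mul_one]
  have i2 : ∀ j : ℕ, s * ρ ^ j * s⁻¹ = (ρ ^ j)⁻¹ := fun j => by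
    rw [← conj_pow, i1, inv_pow]
  have a3 : ρ ^ k * t' * (ρ ^ k)⁻¹ = ν c * s := by
    have : t' = ρ * s := by rw [hρ, mul_assoc, ss, mul_one]
    rw [this, ← i2, ec, si]
    calc ρ ^ k * (ρ * s) * (s * ρ ^ k * s) = ρ ^ k * ρ * (s * s) * ρ ^ k * s := by group
      _ = _ := by rw [ss]; group
  have a4 : lin A0 c = c := w.vs.inj' (lin_lt h0.2.1 c) hc (by
    rw [← h0.2.2, ec, i2, ← ec, inv_eq_of_mul_eq_one_right (w.vs.sq c)])
  obtain ⟨q, v, e5⟩ := hx c hc a4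
  have a5 : ν v * (ν c * s) * (ν v)⁻¹ = ν (lin HC q) * s := by
    rw [← e5, w.vs.add, w.vs.add, w.vs.cm _ v, ← h0.2.2, inv_eq_of_mul_eq_one_right (w.vs.sq v),
      ← mul_assoc (ν v), w.vs.cm v c]
    group
  let Q : Set H := {x | (∃ a ∈ HC, x = ν a) ∨ x = y1 ∨ x = y2}
  have q1 : ∀ x ∈ Q, x ∈ E := by
    rintro x (⟨a, ha, rfl⟩ | rfl | rfl)
    exacts [(hh a ha).1, hy1, hy2]
  obtain ⟨z, hz⟩ := conj_into T (P := closure Q)
    (pgroup_of_sq (closure_sq (fun x hx => e0 x (q1 x hx)) (by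
      rintro x (⟨a, ha, rfl⟩ | rfl | rfl) y (⟨b, hb, rfl⟩ | rfl | rfl)
      exacts [w.vs.cm a b, (hh a ha).2.1, (hh a ha).2.2, (hh b hb).2.1.symm, rfl, hy,
        (hh b hb).2.2.symm, hy.symm, rfl])))
  have q2 : closure Q ≤ w.vs.sub.comap (MulAut.conj z).toMonoidHom :=
    (closure_le _).2 fun x hx => w.pt_mem e2 e0 e3 (e1 x (q1 x hx) z) (hz x (subset_closure hx))
  obtain ⟨b, hb, e6⟩ : ν (lin HC q) * s ∈ w.vs.sub.comap (MulAut.conj z).toMonoidHom :=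
    hs ▸ q2 (mul_mem (nu_lin_mem w.vs.add (fun a ha => subset_closure (Or.inl ⟨a, ha, rfl⟩)) q)
      (mul_mem (subset_closure (Or.inr (Or.inl rfl))) (subset_closure (Or.inr (Or.inr rfl)))))
  refine ⟨z * ν v * ρ ^ k * g, b, hb, ?_⟩
  rw [e6, ← a5, ← a3, ht']
  simp [mul_assoc]

end Wk

end Cfsg.Agent.Fx
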