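import Cfsg.Agent.Fx.PB

/-!
Fusion of the central involution into the coded subgroup.
-/
set_option autoImplicit false

namespace Cfsg.Agent.Fx

open Cfsg.Agent.Spor Subgroup

noncomputable section
def xorR (p : ℕ → Bool) (n : ℕ) : ℕ :=
  Nat.rec (nat_lit 0) (fun a ih => Bool.rec ih (Nat.xor ih a) (p a)) n
def reps : List ℕ := [1, 2, 3, 6, 7, 14]
def c2 (N ty β w : ℕ) : ℕ :=
  cntR (fun u => band (tb β (tyf ty u)) (tb β (tyf ty (Nat.xor u w)))) N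
def alw (tw : Bool) (β : ℕ) : Bool :=
  β == 1 || β == 3 || (tb β 2 && (!tw || β == 5 || tb β 1))
def c2Chk (N ty : ℕ) (tw : Bool) (hint : List ℕ) (β : ℕ) : Bool :=
  !tb β 0 || alw tw β || (tb β (nth 0 hint β) &&
    !Nat.beq (c2 N ty β 1) (c2 N ty β (nth 0 reps (nth 0 hint β))))
def xwOk (tw : Bool) (γ x : ℕ) : Bool :=
  (!Nat.beq x 3 || tb γ 2 || (tw && (tb γ 0 || tb γ 1))) &&
    (!Nat.beq x 2 || tb γ 1 || (tb γ 0 && !tb γ 2) || (!tb γ 0 && tb γ 2 && tb γ 5))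
def xwChk (N ty1 n : ℕ) (tw : Bool) (γ : ℕ) : Bool :=
  !Nat.beq (cntR (fun a => tb γ (tyf ty1 a)) N) n || xwOk tw γ (xorR (fun a => tb γ (tyf ty1 a)) N)
def bigChk (N ty1 n t : ℕ) : Bool :=
  Nat.ble t 6 || Nat.beq (cntR (fun a => Nat.beq (tyf ty1 a) t) N) 0 ||
    Nat.blt n (cntR (fun a => Nat.beq (tyf ty1 a) t) N)
end

theorem xorL_append (l m : List ℕ) : xorL (l ++ m) = xorL l ^^^ xorL m := by
  induction l with
  | nil => exact (Nat.zero_xor _).symm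
  | cons a l ih =>
    show a ^^^ xorL (l ++ m) = (a ^^^ xorL l) ^^^ xorL m
    rw [ih, Nat.xor_assoc]

theorem xorR_eq (p : ℕ → Bool) (n : ℕ) : xorR p n = xorL ((List.range n).filter p) := by
  induction n with
  | zero => rfl
  | succ n ih =>
    show (Bool.rec (xorR p n) (Nat.xor (xorR p n) n) (p n) : ℕ) = _
    rw [List.range_succ, List.filter_append, xorL_append, ih]
    cases h : p n
    · simp [h, xorL]
    · simp [h, xorL]

theorem cntR_eq' (p : ℕ → Bool) (n : ℕ) : cntR p n = ((List.range n).filter p).length := by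
  induction n with
  | zero => rfl
  | succ n ih =>
    show (Bool.rec (cntR p n) (Nat.succ (cntR p n)) (p n) : ℕ) = _
    rw [List.range_succ, List.filter_append, List.length_append, ih]
    cases h : p n <;> simp [h]

theorem xorL_lt {r : ℕ} {l : List ℕ} (h : ∀ a ∈ l, a < 2 ^ r) : xorL l < 2 ^ r := by
  induction l with
  | nil => exact Nat.two_pow_pos r
  | cons a l ih =>
    exact Nat.xor_lt_two_pow (h a List.mem_cons_self) (ih fun b hb => h b (List.mem_cons_of_mem _ hb))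

theorem xorL_map {σ : ℕ → ℕ} (h : ∀ a b, σ (a ^^^ b) = σ a ^^^ σ b) (l : List ℕ) :
    xorL (l.map σ) = σ (xorL l) := by
  induction l with
  | nil =>
    have := h 0 0
    simp only [Nat.xor_self] at this
    exact this.symm
  | cons a l ih =>
    show σ a ^^^ xorL (l.map σ) = σ (a ^^^ xorL l)
    rw [ih, h]

theorem exists_bits (p : ℕ → Prop) (n : ℕ) :
    ∃ β < 2 ^ n, ∀ t, tb β t = true ↔ t < n ∧ p t := by
  classical
  refine ⟨maskOf ((List.range n).filter fun t => p t), ?_, fun t => by simp [tb_eq, tb_maskOf]⟩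
  refine Nat.lt_pow_two_of_testBit _ fun i hi => ?_
  rw [← Bool.not_eq_true, tb_maskOf]
  simp; omega

theorem xw3 {tw : Bool} {γ : ℕ} (h : xwOk tw γ 3 = true) (h2 : ¬ tb γ 2 = true) :
    tw = true ∧ (tb γ 0 = true ∨ tb γ 1 = true) := by
  unfold xwOk at h
  generalize tb γ 0 = a, tb γ 1 = b, tb γ 2 = c, tb γ 5 = e at h h2 ⊢
  revert a b c e tw; decide

theorem xw2 {tw : Bool} {γ : ℕ} (h : xwOk tw γ 2 = true) (h2 : ¬ tb γ 1 = true) :
    (tb γ 0 = true ∧ ¬ tb γ 2 = true) ∨ (tb γ 2 = true ∧ tb γ 5 = true) := by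
  unfold xwOk at h
  generalize tb γ 0 = a, tb γ 1 = b, tb γ 2 = c, tb γ 5 = e at h h2 ⊢
  revert a b c e tw; decide

theorem tyf_lt (ty c : ℕ) : tyf ty c < 16 := Nat.and_lt_two_pow _ (n := 4) (by norm_num)

variable {H : Type*} [Group H]

structure Fus (ν : ℕ → H) (r : ℕ) (X : Set H) (cps : List ℕ) (ty ty1 : ℕ) (reps1 hint : List ℕ)
    (tw : Bool) : Prop where
  vs : VS ν r
  hr : 14 < 2 ^ r
  f2 : ∀ μ : ℕ → H, VS μ r → ∃ g : H, ∀ c, ∃ a < 2 ^ r, ν a = g * μ c * g⁻¹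
  f1 : ∀ t : H, t * t = 1 → ∃ g : H, ∃ c < 2 ^ r, ν c = g * t * g⁻¹
  cj : ∀ y ∈ X, ∀ g, g * y * g⁻¹ ∈ X
  cen : ∀ h, h * ν 1 = ν 1 * h
  n1 : ν 1 ∉ X
  n2 : ∀ y ∈ X, ν 1 * y ∉ X
  m2 : ν 2 ∈ X
  t1 : ∀ y ∈ X, ∃ g, g * ν 2 * g⁻¹ = y
  sw : ∃ g, g * ν 2 * g⁻¹ = ν 4 ∧ g * ν 4 * g⁻¹ = ν 2
  xc : ∀ a < 2 ^ r, ν a ∈ X ↔ a ∈ cps
  nd : cps.Nodup
  lt : ∀ a ∈ cps, a < 2 ^ r
  xo : xorL cps = 1
  orb : ∀ c < 2 ^ r, c ≠ 0 → tyf ty c < 6 ∧ ∃ g, g * ν (nth 0 reps (tyf ty c)) * g⁻¹ = ν c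
  t0 : tyf ty 0 = 6
  orb1 : ∀ c < 2 ^ r, c ≠ 0 →
    ∃ g, g * ν 2 * g⁻¹ = ν 2 ∧ g * ν (nth 0 reps1 (tyf ty1 c)) * g⁻¹ = ν c
  t15 : tyf ty1 0 = 15
  r15 : nth 0 reps1 15 = 0
  r1 : ∀ t < 7, nth 0 reps1 t = t + 1
  k1 : ∀ β < 64, c2Chk (2 ^ r) ty tw hint β = true
  k2 : ∀ γ < 128, xwChk (2 ^ r) ty1 cps.length tw γ = true
  k3 : ∀ t < 15, bigChk (2 ^ r) ty1 cps.length t = true

variable {ν : ℕ → H} {r : ℕ} {X : Set H} {cps : List ℕ} {ty ty1 : ℕ} {reps1 hint : List ℕ}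
  {tw : Bool} {G : Type*} [Group G] {ψ : H →* G} {d : G}

structure Cen (ψ : H →* G) (z : H) (d : G) : Prop where
  inj : Function.Injective ψ
  rng : ∀ g, g * d = d * g → ∃ h, ψ h = g
  pd : ψ z = d

def RR (ψ : H →* G) (X : Set H) (d w x : G) : Prop :=
  ∃ g, g * d * g⁻¹ = w ∧ ∃ y ∈ X, x = g * ψ y * g⁻¹

theorem RR.conj {w x : G} (h : RR ψ X d w x) (k : G) : RR ψ X d (k * w * k⁻¹) (k * x * k⁻¹) := by
  obtain ⟨g, rfl, y, hy, rfl⟩ := h
  exact ⟨k * g, by group, y, hy, by group⟩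

namespace Fus
variable (F : Fus ν r X cps ty ty1 reps1 hint tw) (C : Cen ψ (ν 1) d)
include F C

theorem cm (h : H) : ψ h * d * (ψ h)⁻¹ = d := by
  rw [← C.pd, ← map_mul, F.cen, map_mul, mul_inv_cancel_right]

theorem rr_d {x : G} : RR ψ X d d x ↔ ∃ y ∈ X, x = ψ y := by
  refine ⟨?_, fun ⟨y, hy, e⟩ => ⟨1, by simp, y, hy, by simpa using e⟩⟩
  rintro ⟨g, hg, y, hy, rfl⟩
  obtain ⟨k, rfl⟩ := C.rng g (mul_inv_eq_iff_eq_mul.1 hg)
  exact ⟨_, F.cj y hy k, by simp⟩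

theorem rr_gen {P : G → G → Prop} (hP : ∀ w x k, P w x → P (k * w * k⁻¹) (k * x * k⁻¹))
    (h0 : P d (ψ (ν 2))) {w x : G} (h : RR ψ X d w x) : P w x := by
  obtain ⟨g, rfl, y, hy, rfl⟩ := h
  obtain ⟨k, rfl⟩ := F.t1 y hy
  have := hP _ _ (g * ψ k) h0
  rw [show g * ψ k * d * (g * ψ k)⁻¹ = g * (ψ k * d * (ψ k)⁻¹) * g⁻¹ by group, F.cm C] at this
  simpa [mul_assoc] using this

theorem rr_not {w x : G} (h : RR ψ X d w x) : ¬ RR ψ X d w (w * x) := by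
  refine F.rr_gen C (P := fun w x => ¬ RR ψ X d w (w * x)) (fun w x k h1 h2 => h1 ?_) ?_ h
  · simpa [mul_assoc] using h2.conj k⁻¹
  · rw [F.rr_d C]
    rintro ⟨y, hy, e⟩
    rw [← C.pd, ← map_mul, C.inj.eq_iff] at e
    exact F.n2 _ F.m2 (e ▸ hy)

theorem rr_irr (w : G) : ¬ RR ψ X d w w := by
  rintro ⟨g, rfl, y, hy, e⟩
  rw [← C.pd, mul_left_inj, mul_right_inj, C.inj.eq_iff] at e
  exact F.n1 (e ▸ hy)

theorem sig {c : ℕ} (hc : c < 2 ^ r) (h : IsConj d (ψ (ν c))) : ∃ m : G, ∃ σ : ℕ → ℕ,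
    (∀ a, σ a < 2 ^ r ∧ m * ψ (ν a) * m⁻¹ = ψ (ν (σ a))) ∧ σ c = 1 ∧
    (∀ a b, σ (a ^^^ b) = σ a ^^^ σ b) ∧ (∀ a < 2 ^ r, ∀ b < 2 ^ r, σ a = σ b → a = b) ∧
    ∀ b < 2 ^ r, ∃ a < 2 ^ r, σ a = b := by
  obtain ⟨g, hg⟩ := isConj_iff.1 h
  have ex : ∀ a, ∃ y, ψ y = g⁻¹ * ψ (ν a) * g := fun a => C.rng _ (by
    have : ψ (ν a) * ψ (ν c) = ψ (ν c) * ψ (ν a) := by rw [← map_mul, F.vs.cm, map_mul]
    rw [← hg] at this
    simpa [mul_assoc] using conj_comm this g⁻¹)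
  choose μ hμ using ex
  have vμ : VS μ r := ⟨fun a b => C.inj (by rw [map_mul, hμ, hμ, hμ, F.vs.add, map_mul]; group),
    fun a => C.inj (by rw [hμ, hμ, F.vs.md]), fun a ha e => F.vs.inj a ha (C.inj (by
      have := hμ a
      rw [e, map_one, eq_comm, mul_eq_one_iff_eq_inv, mul_eq_left] at this
      rw [this, map_one]))⟩
  obtain ⟨k, hk⟩ := F.f2 μ vμ
  choose σ h1 h2 using hk
  have h3 : ∀ a, ψ k * g⁻¹ * ψ (ν a) * (ψ k * g⁻¹)⁻¹ = ψ (ν (σ a)) := fun a => by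
    rw [h2, map_mul, map_mul, hμ, map_inv]; group
  have h4 : ∀ a < 2 ^ r, ∀ b < 2 ^ r, σ a = σ b → a = b := fun a ha b hb e =>
    F.vs.inj' ha hb (C.inj (by
      have := (h3 a).trans (e ▸ (h3 b).symm)
      simpa using this))
  refine ⟨ψ k * g⁻¹, σ, fun a => ⟨h1 a, h3 a⟩, ?_, fun a b => ?_, h4, fun b hb => ?_⟩
  · refine F.vs.inj' (h1 c) (lt_trans (by norm_num) F.hr) (C.inj ?_)
    rw [← h3, ← hg, C.pd]
    simpa [mul_assoc] using F.cm C k
  · refine F.vs.inj' (h1 _) (Nat.xor_lt_two_pow (h1 a) (h1 b)) (C.inj ?_)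
    rw [F.vs.add, map_mul, ← h3, ← h3, ← h3, F.vs.add, map_mul]; group
  · obtain ⟨a, ha, e⟩ := Finset.surj_on_of_inj_on_of_card_le (s := Finset.range (2 ^ r))
      (t := Finset.range (2 ^ r)) (fun a _ => σ a) (fun a _ => Finset.mem_range.2 (h1 a))
      (fun a b ha hb e => h4 a (Finset.mem_range.1 ha) b (Finset.mem_range.1 hb) e) le_rfl b
      (Finset.mem_range.2 hb)
    exact ⟨a, Finset.mem_range.1 ha, e.symm⟩

theorem xw {c : ℕ} (hc : c = 2 ∨ c = 3) (h : IsConj d (ψ (ν c))) : ∃ γ, xwOk tw γ c = true ∧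
    ∀ t < 7, tb γ t = true ↔ RR ψ X d (ψ (ν c)) (ψ (ν (t + 1))) := by
  classical
  have hc' : c < 2 ^ r := lt_trans (by omega) F.hr
  obtain ⟨m, σ, s1, s2, s3, s4, s5⟩ := F.sig C hc' h
  have a1 : ∀ a, RR ψ X d (ψ (ν c)) (ψ (ν a)) ↔ σ a ∈ cps := fun a => by
    rw [← F.xc _ (s1 a).1]
    constructor
    · intro t
      have := t.conj m
      rw [(s1 a).2, (s1 c).2, s2, C.pd, F.rr_d C] at this
      obtain ⟨y, hy, e⟩ := this
      rwa [C.inj e]
    · intro t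
      have := ((F.rr_d C).2 ⟨_, t, rfl⟩).conj m⁻¹
      have e : m⁻¹ * d * m⁻¹⁻¹ = ψ (ν c) := by
        rw [← C.pd, ← s2, ← (s1 c).2]; group
      rw [← (s1 a).2, e] at this
      simpa [mul_assoc] using this
  have a2 : ∀ a < 2 ^ r, a ≠ 0 → (σ a ∈ cps ↔ σ (nth 0 reps1 (tyf ty1 a)) ∈ cps) := by
    intro a ha h0
    obtain ⟨g, g1, g2⟩ := F.orb1 a ha h0
    have g3 : ψ g * ψ (ν c) * (ψ g)⁻¹ = ψ (ν c) := by
      rw [← map_inv, ← map_mul, ← map_mul]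
      rcases hc with rfl | rfl
      · rw [g1]
      · rw [show ν 3 = ν 1 * ν 2 from F.vs.add 1 2, ← mul_assoc, F.cen, mul_assoc (ν 1),
          mul_assoc (ν 1), g1]
    rw [← a1, ← a1, ← g2]
    constructor
    · intro t
      have := t.conj (ψ g)⁻¹
      have e : (ψ g)⁻¹ * ψ (ν c) * (ψ g)⁻¹⁻¹ = ψ (ν c) := by
        conv_lhs => rw [← g3]
        group
      rw [e] at this
      simpa [mul_assoc] using this
    · intro t
      have := t.conj (ψ g)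
      rw [g3] at this
      simpa using this
  have a0 : σ 0 ∉ cps := fun t => by
    have e : σ 0 = 0 := by simpa using s3 0 0
    rw [e, ← F.xc _ (Nat.two_pow_pos r), F.vs.zero] at t
    obtain ⟨g, hg⟩ := F.t1 _ t
    have := F.vs.inj 2 (lt_trans (by norm_num) F.hr) (by simpa using hg)
    omega
  let l := (List.range (2 ^ r)).filter fun a => σ a ∈ cps
  have pm : (l.map σ).Perm cps := by
    rw [List.perm_ext_iff_of_nodup _ F.nd]
    · intro b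
      simp only [l, List.mem_map, List.mem_filter, List.mem_range, decide_eq_true_eq]
      refine ⟨by rintro ⟨a, ⟨-, h2⟩, rfl⟩; exact h2, fun hb => ?_⟩
      obtain ⟨a, ha, rfl⟩ := s5 b (F.lt b hb)
      exact ⟨a, ⟨ha, hb⟩, rfl⟩
    · refine (List.nodup_range.filter _).map_on fun a ha b hb e => s4 a ?_ b ?_ e
      · exact List.mem_range.1 (List.mem_filter.1 ha).1
      · exact List.mem_range.1 (List.mem_filter.1 hb).1
  have len : l.length = cps.length := by rw [← pm.length_eq, List.length_map]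
  have xo : xorL l = c := s4 _ (xorL_lt fun a ha => List.mem_range.1 (List.mem_filter.1 ha).1) _ hc'
    (by rw [← xorL_map s3, xorL_perm pm, F.xo, s2])
  have a3 : ∀ a < 2 ^ r, σ a ∈ cps → tyf ty1 a < 7 := by
    intro a ha h1
    have h0 : a ≠ 0 := by rintro rfl; exact a0 h1
    by_contra h2
    have h3 : tyf ty1 a ≠ 15 := fun e => a0 (by rwa [a2 a ha h0, e, F.r15] at h1)
    have h4 := F.k3 (tyf ty1 a) (by have := tyf_lt ty1 a; omega)
    simp only [bigChk, Bool.or_eq_true, Nat.ble_eq, Nat.beq_eq, Nat.blt_eq, cntR_eq'] at h4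
    have h5 : a ∈ (List.range (2 ^ r)).filter fun b => Nat.beq (tyf ty1 b) (tyf ty1 a) := by
      simp [ha]
    have h6 := List.length_pos_of_mem h5
    have h7 : ((List.range (2 ^ r)).filter fun b => Nat.beq (tyf ty1 b) (tyf ty1 a)).Sublist l := by
      rw [← List.filter_congr (p := fun b => Nat.beq (tyf ty1 b) (tyf ty1 a) && decide (σ b ∈ cps)),
        ← List.filter_filter]
      · exact List.filter_sublist
      · intro b hb
        rw [Bool.and_eq_left_iff_imp, Nat.beq_eq, decide_eq_true_iff]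
        intro e
        have b0 : b ≠ 0 := by rintro rfl; exact h3 (e ▸ F.t15)
        rwa [a2 b (List.mem_range.1 hb) b0, e, ← a2 a ha h0]
    have := h7.length_le
    omega
  obtain ⟨γ, g1, g2⟩ := exists_bits (fun t => σ (t + 1) ∈ cps) 7
  have el : (List.range (2 ^ r)).filter (fun a => tb γ (tyf ty1 a)) = l := by
    refine List.filter_congr fun a ha => ?_
    have ha := List.mem_range.1 ha
    rw [Bool.eq_iff_iff, g2, decide_eq_true_iff]
    by_cases h0 : a = 0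
    · subst h0
      rw [F.t15]
      exact ⟨fun t => absurd t.1 (by norm_num), fun t => absurd t a0⟩
    · refine ⟨fun t => ?_, fun t => ⟨a3 a ha t, ?_⟩⟩
      · rw [a2 a ha h0, F.r1 _ t.1]; exact t.2
      · rwa [← F.r1 _ (a3 a ha t), ← a2 a ha h0]
  have k := F.k2 γ g1
  rw [xwChk, cntR_eq', xorR_eq, el, len, xo] at k
  refine ⟨γ, by simpa using k, fun t ht => ?_⟩
  rw [g2, a1]; simp [ht]

theorem not_both (h2 : IsConj d (ψ (ν 2))) (h3 : IsConj d (ψ (ν 3))) : False := by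
  obtain ⟨γ, g1, g2⟩ := F.xw C (Or.inr rfl) h3
  obtain ⟨δ, d1, d2⟩ := F.xw C (Or.inl rfl) h2
  have g3 : ¬ tb γ 2 = true := by rw [g2 2 (by norm_num)]; exact F.rr_irr C _
  have d3 : ¬ tb δ 1 = true := by rw [d2 1 (by norm_num)]; exact F.rr_irr C _
  have g4 := (xw3 g1 g3).2
  have d4 := xw2 d1 d3
  rw [g2 0 (by norm_num), g2 1 (by norm_num), C.pd] at g4
  rw [d2 0 (by norm_num), d2 2 (by norm_num), d2 5 (by norm_num), C.pd] at d4
  have e3 : ψ (ν 3) = d * ψ (ν 2) := by rw [← C.pd, ← map_mul]; exact congrArg ψ (F.vs.add 1 2)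
  have r0 : RR ψ X d d (ψ (ν 2)) := (F.rr_d C).2 ⟨_, F.m2, rfl⟩
  rcases d4 with ⟨a1, a2⟩ | ⟨a2, a3⟩
  · have sy : ∀ {w x}, RR ψ X d w x → RR ψ X d x w := fun t =>
      F.rr_gen C (P := fun w x => RR ψ X d x w) (fun w x k t => t.conj k) a1 t
    rcases g4 with b | b
    · exact F.rr_not C r0 (e3 ▸ sy b)
    · exact a2 (sy b)
  · have sy : ∀ {w x}, RR ψ X d w x → RR ψ X d x (w * x) := fun t =>
      F.rr_gen C (P := fun w x => RR ψ X d x (w * x)) (fun w x k t => by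
        simpa [mul_assoc] using t.conj k) (e3 ▸ a2) t
    obtain ⟨g, s1, s2⟩ := F.sw
    have b1 := sy (sy a3)
    have b2 := a3.conj (ψ g)
    rw [← map_mul, ← F.vs.add, ← map_mul, ← F.vs.add] at b1
    have e7 : g * ν 6 * g⁻¹ = ν 4 * ν 2 := by
      rw [show ν 6 = ν 2 * ν 4 from F.vs.add 2 4, show g * (ν 2 * ν 4) * g⁻¹ =
        g * ν 2 * g⁻¹ * (g * ν 4 * g⁻¹) by group, s1, s2]
    rw [← map_inv, ← map_mul, ← map_mul, ← map_mul, ← map_mul, s1, e7, map_mul] at b2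
    exact F.rr_not C b1 b2

theorem fusion (hn : ∃ g, g * d * g⁻¹ * d = d * (g * d * g⁻¹) ∧ g * d * g⁻¹ ≠ d) :
    (∀ h, IsConj d (ψ h) ↔ h = ν 1 ∨ h ∈ X) ∨
      (tw = true ∧ ∀ h, IsConj d (ψ h) ↔ h = ν 1 ∨ ν 1 * h ∈ X) := by
  classical
  obtain ⟨β, b1, b2⟩ := exists_bits (fun t => IsConj d (ψ (ν (nth 0 reps t)))) 6
  have cj : ∀ (g h : H), IsConj d (ψ (g * h * g⁻¹)) ↔ IsConj d (ψ h) := fun g h => by
    have : IsConj (ψ h) (ψ (g * h * g⁻¹)) := ψ.map_isConj (isConj_iff.2 ⟨g, rfl⟩)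
    exact ⟨fun t => t.trans this.symm, fun t => t.trans this⟩
  have d1 : d ≠ 1 := fun e => by
    rw [← C.pd, ← map_one ψ, C.inj.eq_iff] at e
    have := F.vs.inj 1 (lt_trans (by norm_num) F.hr) e
    omega
  have a1 : ∀ c < 2 ^ r, tb β (tyf ty c) = true ↔ IsConj d (ψ (ν c)) := fun c hc => by
    rw [b2]
    by_cases h0 : c = 0
    · subst h0
      rw [F.t0, F.vs.zero, map_one, isConj_one_left]
      simp [d1]
    · obtain ⟨h1, g, e⟩ := F.orb c hc h0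
      rw [← e, cj]; simp [h1]
  have sq : ∀ h, IsConj d (ψ h) → h * h = 1 := fun h t => by
    obtain ⟨g, e⟩ := isConj_iff.1 t
    refine C.inj ?_
    rw [map_mul, ← e, map_one, show g * d * g⁻¹ * (g * d * g⁻¹) = g * (d * d) * g⁻¹ by group,
      ← C.pd, ← map_mul, F.vs.sq, map_one]; group
  have a2 : ∀ h, IsConj d (ψ h) → ∃ t, tb β t = true ∧ ∃ g, g * ν (nth 0 reps t) * g⁻¹ = h := by
    intro h t
    obtain ⟨g, c, hc, e⟩ := F.f1 h (sq h t)
    have h1 : IsConj d (ψ (ν c)) := by rwa [e, cj]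
    have h0 : c ≠ 0 := by
      rintro rfl
      rw [F.vs.zero, map_one, isConj_one_left] at h1
      exact d1 h1
    obtain ⟨-, k, e2⟩ := F.orb c hc h0
    refine ⟨_, (a1 c hc).2 h1, g⁻¹ * k, ?_⟩
    rw [show g⁻¹ * k * ν (nth 0 reps (tyf ty c)) * (g⁻¹ * k)⁻¹ =
      g⁻¹ * (k * ν (nth 0 reps (tyf ty c)) * k⁻¹) * g by group, e2, e]; group
  have z1 : ∀ g, g * ν 1 * g⁻¹ = ν 1 := fun g => by rw [F.cen, mul_inv_cancel_right]
  have c0 : IsConj d (ψ (ν 1)) := C.pd ▸ IsConj.refl d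
  have t0 : tb β 0 = true := (b2 0).2 ⟨by norm_num, c0⟩
  have al : alw tw β = true := by
    have k := F.k1 β b1
    simp only [c2Chk, t0, Bool.not_true, Bool.false_or, Bool.or_eq_true, Bool.and_eq_true,
      Bool.not_eq_true', ← Bool.not_eq_true, Nat.beq_eq] at k
    refine k.elim id fun k => absurd ?_ k.2
    obtain ⟨k1, k2⟩ := (b2 _).1 k.1
    generalize nth 0 hint β = t at k1 k2
    have hc : nth 0 reps t < 2 ^ r := by
      refine lt_of_le_of_lt ?_ F.hr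
      interval_cases t <;> decide
    generalize nth 0 reps t = c at hc k2
    obtain ⟨m, σ, s1, s2, s3, s4, s5⟩ := F.sig C hc k2
    have s6 : ∀ u < 2 ^ r, tb β (tyf ty u) = tb β (tyf ty (σ u)) := fun u hu => by
      rw [Bool.eq_iff_iff, a1 u hu, a1 _ (s1 u).1, ← (s1 u).2]
      have : IsConj (ψ (ν u)) (m * ψ (ν u) * m⁻¹) := isConj_iff.2 ⟨m, rfl⟩
      exact ⟨fun t => t.trans this, fun t => t.trans this.symm⟩
    rw [c2, c2, cntR_eq, cntR_eq]
    refine (Finset.card_nbij σ (fun u hu => ?_) (fun a ha b hb e => ?_) (fun b hb => ?_)).symm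
    · obtain ⟨h1, h2⟩ := Finset.mem_filter.1 (Finset.mem_coe.1 hu)
      rw [Finset.mem_range] at h1
      refine Finset.mem_coe.2 (Finset.mem_filter.2 ⟨Finset.mem_range.2 (s1 u).1, ?_⟩)
      rw [s6 u h1, s6 (Nat.xor u c) (Nat.xor_lt_two_pow h1 hc)] at h2
      rwa [← s2, show Nat.xor (σ u) (σ c) = σ (Nat.xor u c) from (s3 u c).symm]
    · exact s4 a (Finset.mem_range.1 (Finset.mem_filter.1 (Finset.mem_coe.1 ha)).1) b
        (Finset.mem_range.1 (Finset.mem_filter.1 (Finset.mem_coe.1 hb)).1) e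
    · obtain ⟨h1, h2⟩ := Finset.mem_filter.1 (Finset.mem_coe.1 hb)
      obtain ⟨u, hu, rfl⟩ := s5 b (Finset.mem_range.1 h1)
      refine ⟨u, Finset.mem_coe.2 (Finset.mem_filter.2 ⟨Finset.mem_range.2 hu, ?_⟩), rfl⟩
      rw [s6 u hu, s6 (Nat.xor u c) (Nat.xor_lt_two_pow hu hc)]
      rwa [← s2, show Nat.xor (σ u) (σ c) = σ (Nat.xor u c) from (s3 u c).symm] at h2
  have e3 : ν 3 = ν 1 * ν 2 := F.vs.add 1 2
  have c5 : β = 5 → ∀ h, IsConj d (ψ h) ↔ h = ν 1 ∨ ν 1 * h ∈ X := by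
    rintro rfl h
    constructor
    · intro t'
      obtain ⟨t, h1, g, rfl⟩ := a2 h t'
      have h2 := ((b2 t).1 h1).1
      interval_cases t
      · exact Or.inl (z1 g)
      · exact absurd h1 (by decide)
      · right
        have : ν 1 * (g * ν 3 * g⁻¹) = g * ν 2 * g⁻¹ := by
          rw [e3, ← mul_assoc g, F.cen g, ← mul_assoc, ← mul_assoc, ← mul_assoc, F.vs.sq, one_mul]
        exact this ▸ F.cj _ F.m2 g
      all_goals exact absurd h1 (by decide)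
    · rintro (rfl | t)
      · exact c0
      · obtain ⟨g, e⟩ := F.t1 _ t
        have : h = g * ν 3 * g⁻¹ := by
          rw [e3, ← mul_assoc g, F.cen g, mul_assoc (ν 1), mul_assoc (ν 1), e, ← mul_assoc,
            F.vs.sq, one_mul]
        rw [this, cj]
        exact ((b2 2).1 (by decide)).2
  simp only [alw, Bool.or_eq_true, beq_iff_eq, Bool.and_eq_true, Bool.not_eq_true'] at al
  rcases al with (rfl | rfl) | ⟨h2, h3⟩
  · exfalso
    obtain ⟨g, g1, g2⟩ := hn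
    obtain ⟨h, e⟩ := C.rng _ g1
    obtain ⟨t, h1, k, rfl⟩ := a2 h (e ▸ isConj_iff.2 ⟨g, rfl⟩)
    have h2 := ((b2 t).1 h1).1
    interval_cases t
    · exact g2 (by rw [← e, ← C.pd]; exact congrArg ψ (z1 k))
    all_goals exact absurd h1 (by decide)
  · refine Or.inl fun h => ⟨fun t' => ?_, ?_⟩
    · obtain ⟨t, h1, g, rfl⟩ := a2 h t'
      have h2 := ((b2 t).1 h1).1
      interval_cases t
      · exact Or.inl (z1 g)
      · exact Or.inr (F.cj _ F.m2 g)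
      all_goals exact absurd h1 (by decide)
    · rintro (rfl | t)
      · exact c0
      · obtain ⟨g, rfl⟩ := F.t1 _ t
        rw [cj]
        exact ((b2 1).1 (by decide)).2
  · have h4 : IsConj d (ψ (ν 3)) := ((b2 2).1 h2).2
    have ht : tw = true := by
      obtain ⟨γ, g1, g2⟩ := F.xw C (Or.inr rfl) h4
      have g3 : ¬ tb γ 2 = true := by rw [g2 2 (by norm_num)]; exact F.rr_irr C _
      exact (xw3 g1 g3).1
    rcases h3 with (h3 | h3) | h3
    · rw [ht] at h3; cases h3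
    · exact Or.inr ⟨ht, c5 h3⟩
    · exact (F.not_both C ((b2 1).1 h3).2 h4).elim

end Fus

end Cfsg.Agent.Fx
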