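import Cfsg.Agent.Fx.PC
import Cfsg.Agent.Fx.Loc

/-!
The checks in the permutation model giving the fusion analysis.
-/
set_option autoImplicit false

namespace Cfsg.Agent.Fx

open Cfsg.Agent.Spor Subgroup Equiv

section
variable {H : Type*} [Group H]

def nu : List H → ℕ → H
  | [], _ => 1
  | a :: l, c => a ^ (c % 2) * nu l (c / 2)

theorem nu_mem {K : Subgroup H} {B : List H} (h : ∀ b ∈ B, b ∈ K) (c : ℕ) : nu B c ∈ K := by
  induction B generalizing c with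
  | nil => exact K.one_mem
  | cons a B ih =>
    exact K.mul_mem (K.pow_mem (h a List.mem_cons_self) _)
      (ih (fun b hb => h b (List.mem_cons_of_mem _ hb)) _)

theorem nu_add {B : List H} (h1 : ∀ b ∈ B, b * b = 1) (h2 : B.Pairwise Commute) (a b : ℕ) :
    nu B (a ^^^ b) = nu B a * nu B b := by
  induction B generalizing a b with
  | nil => simp [nu]
  | cons x B ih =>
    rw [List.pairwise_cons] at h2
    have hx := h1 x List.mem_cons_self
    have hc : nu B (a / 2) * x = x * nu B (a / 2) :=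
      mem_centralizer_singleton_iff.1 (nu_mem (fun b hb =>
        mem_centralizer_singleton_iff.2 (h2.1 b hb).symm.eq) _)
    rw [nu, nu, nu, Nat.xor_div_two, ih (fun b hb => h1 b (List.mem_cons_of_mem _ hb)) h2.2,
      xor_mod_two]
    rcases Nat.mod_two_eq_zero_or_one a with h | h <;>
      rcases Nat.mod_two_eq_zero_or_one b with h' | h' <;> simp only [h, h'] <;>
      simp only [Nat.reduceAdd, Nat.reduceMod, pow_zero, pow_one, one_mul, mul_assoc]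
    · rw [← mul_assoc, ← mul_assoc, hc]
    · rw [← mul_assoc _ x, hc, ← mul_assoc, ← mul_assoc, hx, one_mul]

theorem nu_md (B : List H) (c : ℕ) : nu B (c % 2 ^ B.length) = nu B c := by
  induction B generalizing c with
  | nil => rfl
  | cons x B ih =>
    rw [nu, nu, List.length_cons, pow_succ', Nat.mod_mul_right_mod, Nat.mod_mul_right_div_self, ih]

theorem nu_zero' (B : List H) : nu B 0 = 1 := by
  induction B with
  | nil => rfl
  | cons x B ih => simp [nu, ih]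

theorem nu_pow {B : List H} {i : ℕ} (hi : i < B.length) : nu B (2 ^ i) ∈ B := by
  induction B generalizing i with
  | nil => cases hi
  | cons x B ih =>
    rcases i with _ | i
    · simp [nu, nu_zero']
    · rw [nu, pow_succ, Nat.mul_mod_left, Nat.mul_div_cancel _ (by norm_num), pow_zero, one_mul]
      exact List.mem_cons_of_mem _ (ih (by simpa using hi))

theorem nu_act {ν : ℕ → H} (add : ∀ a b, ν (a ^^^ b) = ν a * ν b) {α : Type*} {B : List α}
    {p : α → H} {κ : α → ℕ} {g : H} (h : ∀ b ∈ B, g * p b * g⁻¹ = ν (κ b)) (c : ℕ) :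
    g * nu (B.map p) c * g⁻¹ = ν (lin (B.map κ) c) := by
  induction B generalizing c with
  | nil => simp [nu, lin, nu_zero add]
  | cons x B ih =>
    rw [List.map_cons, List.map_cons, nu, lin_cons, add,
      ← ih fun b hb => h b (List.mem_cons_of_mem _ hb)]
    rcases Nat.mod_two_eq_zero_or_one c with e | e <;> rw [e]
    · simp [nu_zero add]
    · rw [mul_one, ← h x List.mem_cons_self]; group

end

structure VD where
  r : ℕ
  k : ℕ
  x : NP
  p1 : NP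
  p2 : NP
  p3 : NP
  B' : List NP
  P : List (NP × ℕ)
  y1 : NP
  y2 : NP
  Y' : List (NP × NP)
  GN : List (List ℕ)
  UG : List (List ℕ)
  UGL : List (List ℕ)
  UW : List (List ℕ)
  UL : List (List ℕ)
  CW : List (List ℕ × List ℕ)
  HP : List ℕ
  FX : List (ℕ × ℕ)
  ty : ℕ
  steps : List ℕ
  SGW : List (List ℕ)
  GN1 : List (List ℕ)
  ty1 : ℕ
  reps1 : List ℕ
  steps1 : List ℕ
  hint : List ℕ
  tw : Bool

noncomputable section
def sel (B : List NP) : ℕ → List ℕ :=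
  List.rec (fun _ => []) (fun a _ ih c => Bool.rec (ih (Nat.shiftRight c 1))
    (lapp a.w (ih (Nat.shiftRight c 1))) (tb c 0)) B
def look (P : List (NP × ℕ)) (k : ℕ) : ℕ :=
  List.rec 1 (fun p _ ih => Bool.rec ih p.2 (Nat.beq p.1.k k)) P
def inP (P : List (NP × ℕ)) (k : ℕ) : Bool := Nat.beq k 0 || memL (P.map (·.1.k)) k

namespace VD
variable (D : VD) (E : Eng)
def B : List NP := D.x :: D.p1 :: D.p2 :: D.p3 :: D.B'
def Y : List (NP × NP) := (D.y1, D.y2) :: D.Y'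
def cps : List ℕ := D.P.map (·.2)
def I : List (List ℕ) := D.CW.map (·.1)
def A0 : List ℕ := nth (pows D.r 1) D.GN 0
def HC : List ℕ := D.HP.map (look D.P)
def c1 : Bool := Nat.beq D.B.length D.r && Nat.beq D.x.k 0 && E.ok D.x &&
  lall (isX E) (D.p1 :: D.p2 :: D.p3 :: D.B') && pwc E D.B && Nat.blt (2 ^ D.r) 4095 &&
  lall (fun p => isX E p.1 && Nat.blt p.2 (2 ^ D.r) && E.one (lapp p.1.w (sel D.B p.2))) D.P
def c2 : Bool := lall (fun y => isX E y.1 && isX E y.2 &&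
    lall (fun b => inP D.P (E.ap (lapp y.1.w y.2.w) b.k)) D.B) D.Y &&
  D.GN == D.Y.map (fun y => D.B.map fun b => look D.P (E.ap (lapp y.1.w y.2.w) b.k)) &&
  E.fx D.y1.w D.y2.k && lall (fun k => inP D.P k && E.fx D.y1.w k && E.fx D.y2.w k) D.HP
def c3 : Bool := D.UG.map (linW D.r D.GN) == D.UGL && D.UW.map (linW D.r D.UGL) == D.UL &&
  D.UL.contains (pows D.r 1) && Nat.beq D.UL.length (2 ^ D.k) && decide D.UL.Nodup &&
  lall (fun A => lall (fun L => D.UL.contains (cmp A L)) D.UL) (pows D.r 1 :: D.UGL) &&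
  lall (fun L => !(cmp L L == pows D.r 1) || D.I.contains L) D.UL &&
  lall (fun L => Nat.beq L.length D.r) D.I &&
  lall (fun p => p.1 == pows D.r 1 ||
    cmp (linW D.r D.GN p.2) p.1 == cmp D.A0 (linW D.r D.GN p.2)) D.CW
def c4 : Bool := lall (fun L => L == pows D.r 1 ||
  offOk (2 ^ D.r) D.I.length (D.I.map (fm D.r)) 2 (fm D.r L)) D.I
def c5 : Bool := allR (fun c => !Nat.beq (lin D.A0 c) c || tb (maskOf (D.FX.map fun p =>
  Nat.xor (lin D.HC p.1) (Nat.xor (lin D.A0 p.2) p.2))) c) (2 ^ D.r)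
def c6 : Bool := orbChk D.r D.GN D.ty reps D.steps && Nat.beq (tyf D.ty 0) 6 &&
  allR (fun c => Nat.beq c 0 || (Nat.blt (tyf D.ty c) 6 &&
    (!Nat.beq (tyf D.ty c) 1 || memL D.cps c))) (2 ^ D.r) &&
  decide D.cps.Nodup && Nat.beq (xorL D.cps) 1
def c7 : Bool := D.SGW.map (linW D.r D.GN) == D.GN1 && lall (fun L => Nat.beq (lin L 2) 2) D.GN1 &&
  orbChk D.r D.GN1 D.ty1 D.reps1 D.steps1 && Nat.beq (tyf D.ty1 0) 15 &&
  Nat.beq (nth 0 D.reps1 15) 0 && allR (fun t => Nat.beq (nth 0 D.reps1 t) (Nat.succ t)) 7 &&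
  allR (bigChk (2 ^ D.r) D.ty1 D.cps.length) 15
def c8 : Bool := allR (c2Chk (2 ^ D.r) D.ty D.tw D.hint) 64
def c9 : Bool := allR (xwChk (2 ^ D.r) D.ty1 D.cps.length D.tw) 128
end VD
end

variable {F : Type} [Group F] {x0 : F} {φ : F →* Perm ℕ} {E : Eng} {f : ℕ → F} {N : ℕ}

open Classical in
noncomputable def pc (φ : F →* Perm ℕ) (x0 : F) (k : ℕ) : CC x0 :=
  if h : pt φ x0 k ∈ CC x0 then ⟨_, h⟩ else 1

theorem pc_val {k : ℕ} (h : pt φ x0 k ∈ CC x0) : (pc φ x0 k : F) = pt φ x0 k := by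
  rw [pc, dif_pos h]

theorem sel_eq {B : List NP} (h : ∀ b ∈ B, (pc φ x0 b.k : F) = wd f b.w) (c : ℕ) :
    (nu (B.map fun b => pc φ x0 b.k) c).1 = wd f (sel B c) := by
  induction B generalizing c with
  | nil => rfl
  | cons a B ih =>
    have e : sel (a :: B) c = (Bool.rec (sel B (c >>> 1)) (lapp a.w (sel B (c >>> 1))) (tb c 0) :
      List ℕ) := rfl
    rw [e, List.map_cons, nu, Subgroup.coe_mul, ih fun b hb => h b (List.mem_cons_of_mem _ hb),
      Nat.shiftRight_one, tb_eq, Nat.testBit_zero]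
    rcases Nat.mod_two_eq_zero_or_one c with e | e <;> rw [e]
    · simp
    · simp [wd_lapp, h a List.mem_cons_self]

theorem look_eq {H : Type*} {p ν : ℕ → H} {P : List (NP × ℕ)} {Q : ℕ → Prop} (h0 : p 0 = ν 1)
    (q0 : Q 1) (h : ∀ a ∈ P, p a.1.k = ν a.2 ∧ Q a.2) {k : ℕ} (hk : inP P k = true) :
    p k = ν (look P k) ∧ Q (look P k) := by
  simp only [inP, Bool.or_eq_true, Nat.beq_eq, memL_iff] at hk
  induction P with
  | nil =>
    obtain rfl : k = 0 := by simpa using hk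
    exact ⟨h0, q0⟩
  | cons a P ih =>
    have e : look (a :: P) k = (Bool.rec (look P k) a.2 (Nat.beq a.1.k k) : ℕ) := rfl
    rw [e]
    cases h1 : Nat.beq a.1.k k with
    | true => exact Nat.eq_of_beq_eq_true h1 ▸ h a List.mem_cons_self
    | false =>
      refine ih (fun b hb => h b (List.mem_cons_of_mem _ hb)) (hk.imp_right fun t => ?_)
      rcases List.mem_cons.1 t with t | t
      · exact absurd t.symm (Nat.ne_of_beq_eq_false h1)
      · exact t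

theorem VD.fus [Finite F] {L : Type*} [Group L] {π : CC x0 →* L} (h : Base x0 L π)
    (hE : E.Ok φ f x0 N) (D : VD) (k1 : D.c1 E = true) (k2 : D.c2 E = true) (k3 : D.c3 = true)
    (k4 : D.c4 = true) (k5 : D.c5 = true) (k6 : D.c6 = true) (k7 : D.c7 = true)
    (k8 : D.c8 = true) (k9 : D.c9 = true) (hc : ¬ 2 ^ (D.r + D.k + 1) ∣ Nat.card (CC x0)) :
    ∃ ν : ℕ → CC x0, ν 1 = ⟨x0, self_mem_CC x0⟩ ∧
      Fus ν D.r {y | XX x0 y.1} D.cps D.ty D.ty1 D.reps1 D.hint D.tw := by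
  simp only [VD.c1, VD.c2, VD.c3, VD.c4, VD.c5, VD.c6, VD.c7, VD.c8, VD.c9, Bool.and_eq_true,
    Nat.beq_eq, lall_iff, Nat.blt_eq, beq_iff_eq, List.contains_iff_mem, decide_eq_true_iff,
    Bool.or_eq_true, Bool.not_eq_true', allR_iff, memL_iff, ← Bool.not_eq_true]
    at k1 k2 k3 k4 k5 k6 k7 k8 k9
  obtain ⟨⟨⟨⟨⟨⟨b1, b2⟩, b3⟩, b4⟩, b5⟩, b6⟩, b7⟩ := k1
  obtain ⟨⟨⟨n1, n2⟩, n3⟩, n4⟩ := k2
  obtain ⟨⟨⟨⟨⟨⟨⟨⟨u1, u2⟩, u3⟩, u4⟩, u5⟩, u6⟩, u7⟩, u8⟩, u9⟩ := k3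
  obtain ⟨⟨⟨⟨o1, o2⟩, o3⟩, o4⟩, o5⟩ := k6
  obtain ⟨⟨⟨⟨⟨⟨s1, s2⟩, s3⟩, s4⟩, s5⟩, s6⟩, s7⟩ := k7
  have p0 : pt φ x0 0 = x0 := pt_zero hE.act
  have c0 : pc φ x0 0 = ⟨x0, self_mem_CC x0⟩ :=
    Subtype.ext ((pc_val (p0.symm ▸ self_mem_CC x0)).trans p0)
  have bok : ∀ b ∈ D.B, E.ok b = true ∧ pt φ x0 b.k ∈ CC x0 := fun b hb => by
    rcases List.mem_cons.1 hb with rfl | hb
    · exact ⟨b3, by rw [b2, p0]; exact self_mem_CC x0⟩
    · exact ⟨(hE.isX (b4 b hb)).1, (hE.isX (b4 b hb)).2.mem⟩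
  obtain ⟨w1, w2⟩ := hE.pwc (fun b hb => (bok b hb).1) b5
  obtain ⟨ν, hν⟩ : ∃ ν, ν = nu (D.B.map fun b => pc φ x0 b.k) := ⟨_, rfl⟩
  have cB : ∀ y ∈ D.B.map fun b => pc φ x0 b.k, IsConj x0 y.1 := fun y hy => by
    obtain ⟨b, hb, rfl⟩ := List.mem_map.1 hy
    rw [pc_val (bok b hb).2]
    exact hE.isConj (hE.ok (bok b hb).1).1
  have add : ∀ a b, ν (a ^^^ b) = ν a * ν b := hν ▸ nu_add
    (fun y hy => Subtype.ext (h.tr.sq _ (cB y hy))) (by
      rw [List.pairwise_map] at w1 ⊢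
      refine w1.imp_of_mem fun {a b} ha hb t => Subtype.ext ?_
      rw [Subgroup.coe_mul, Subgroup.coe_mul, pc_val (bok a ha).2, pc_val (bok b hb).2]
      exact t)
  have md : ∀ c, ν (c % 2 ^ D.r) = ν c := fun c => by
    rw [hν, ← b1, ← nu_md _ c, List.length_map]
  have v1 : ν 1 = ⟨x0, self_mem_CC x0⟩ := by simp [hν, VD.B, nu, nu_zero', b2, c0]
  have x1 := (hE.isX (b4 D.p1 (by simp))).2
  have x2 := (hE.isX (b4 D.p2 (by simp))).2
  have x3 := (hE.isX (b4 D.p3 (by simp))).2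
  have v2 : (ν 2 : F) = pt φ x0 D.p1.k := by simp [hν, VD.B, nu, nu_zero', pc_val x1.mem]
  have v4 : (ν 4 : F) = pt φ x0 D.p2.k := by simp [hν, VD.B, nu, nu_zero', pc_val x2.mem]
  have v8 : (ν 8 : F) = pt φ x0 D.p3.k := by simp [hν, VD.B, nu, nu_zero', pc_val x3.mem]
  simp only [VD.B, List.map_cons, List.pairwise_cons, List.nodup_cons, List.mem_cons, not_or,
    forall_eq_or_imp] at w1 w2
  obtain ⟨-, ⟨m12, m13, -⟩, ⟨m23, -⟩, -⟩ := w1
  obtain ⟨-, ⟨d12, d13, -⟩, ⟨d23, -⟩, -⟩ := w2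
  generalize pt φ x0 D.p1.k = q1 at x1 v2 m12 m13 d12 d13
  generalize pt φ x0 D.p2.k = q2 at x2 v4 m12 m23 d12 d23
  generalize pt φ x0 D.p3.k = q3 at x3 v8 m13 m23 d13 d23
  have v3 : (ν 3 : F) = x0 * q1 := by rw [show ν 3 = _ from add 1 2, Subgroup.coe_mul, v1, v2]
  have v6 : (ν 6 : F) = q1 * q2 := by rw [show ν 6 = _ from add 2 4, Subgroup.coe_mul, v2, v4]
  have v7 : (ν 7 : F) = x0 * q1 * q2 := by
    rw [show ν 7 = _ from add 3 4, Subgroup.coe_mul, v3, v4]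
  have v14 : (ν 14 : F) = q1 * q2 * q3 := by
    rw [show ν 14 = _ from add 6 8, Subgroup.coe_mul, v6, v8]
  have r1 : 14 < 2 ^ D.r := by
    rw [← b1]
    exact lt_of_lt_of_le (by norm_num : 14 < 2 ^ 4) (Nat.pow_le_pow_right (by norm_num)
      (by simp [VD.B]))
  have pP : ∀ a ∈ D.P, XX x0 (pt φ x0 a.1.k) ∧ pc φ x0 a.1.k = ν a.2 := fun a ha => by
    obtain ⟨⟨a1, -⟩, a3⟩ := b7 a ha
    obtain ⟨a4, a5⟩ := hE.isX a1
    refine ⟨a5, Subtype.ext ?_⟩
    have := hE.one a3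
    rw [wd_lapp, ← (hE.ok a4).2, mul_eq_one_iff_inv_eq,
      inv_eq_of_mul_eq_one_right (h.tr.sq _ a5.1)] at this
    rw [pc_val a5.mem, this, hν, sel_eq fun b hb => by
      rw [pc_val (bok b hb).2, (hE.ok (bok b hb).1).2]]
  have lk : ∀ k, inP D.P k = true → k < N ∧ pt φ x0 k = ν (look D.P k) ∧ look D.P k < 2 ^ D.r := by
    intro k hk
    obtain ⟨a1, a2⟩ := look_eq (p := pc φ x0) (ν := ν) (Q := (· < 2 ^ D.r)) (c0.trans v1.symm)
      (by omega) (fun a ha => ⟨(pP a ha).2, (b7 a ha).1.2⟩) hk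
    simp only [inP, Bool.or_eq_true, Nat.beq_eq, memL_iff, List.mem_map] at hk
    rcases hk with rfl | ⟨a, ha, rfl⟩
    · exact ⟨zero_lt hE.act, by rw [← a1, c0, p0], a2⟩
    · exact ⟨(hE.ok (hE.isX (b7 a ha).1.1).1).1, by rw [← a1, pc_val (pP a ha).1.mem], a2⟩
  have aY : ∀ y ∈ D.Y, Act ν D.r (pc φ x0 y.1.k * pc φ x0 y.2.k)
      (D.B.map fun b => look D.P (E.ap (lapp y.1.w y.2.w) b.k)) := fun y hy => by
    obtain ⟨⟨a1, a2⟩, a3⟩ := n1 y hy
    refine ⟨by rw [List.length_map, b1], fun a ha => ?_, fun c => ?_⟩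
    · obtain ⟨b, hb, rfl⟩ := List.mem_map.1 ha
      exact (lk _ (a3 b hb)).2.2
    · conv_lhs => rw [hν]
      refine nu_act add (fun b hb => Subtype.ext ?_) c
      rw [← (lk _ (a3 b hb)).2.1, ← hE.conj _ (hE.ok (bok b hb).1).1, wd_lapp,
        ← (hE.ok (hE.isX a1).1).2, ← (hE.ok (hE.isX a2).1).2]
      simp [pc_val (hE.isX a1).2.mem, pc_val (hE.isX a2).2.mem, pc_val (bok b hb).2]
  obtain ⟨n, hn, n0⟩ : ∃ n : ℕ → CC x0, (∀ j, Act ν D.r (n j) (nth (pows D.r 1) D.GN j)) ∧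
      n 0 = pc φ x0 D.y1.k * pc φ x0 D.y2.k := by
    refine ⟨fun j => (D.Y.map fun y => pc φ x0 y.1.k * pc φ x0 y.2.k).getD j 1, fun j => ?_, rfl⟩
    beta_reduce
    rw [nth_eq, n2]
    by_cases hj : j < D.Y.length
    · rw [List.getD_eq_getElem _ _ (by simpa using hj), List.getD_eq_getElem _ _ (by simpa using hj),
        List.getElem_map, List.getElem_map]
      exact aY _ (List.getElem_mem hj)
    · rw [List.getD_eq_default _ _ (by simpa using hj), List.getD_eq_default _ _ (by simpa using hj)]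
      exact Act.one md
  have orb : ∀ c < 2 ^ D.r, c ≠ 0 →
      tyf D.ty c < 6 ∧ ∃ g, g * ν (nth 0 reps (tyf D.ty c)) * g⁻¹ = ν c := fun c hc h0 =>
    ⟨((o3 c hc).resolve_left h0).1, orbChk_sound o1 (R := fun a c => ∃ g, g * ν a * g⁻¹ = ν c)
      (fun c => ⟨1, by simp⟩) (fun j a c ⟨g, e⟩ => ⟨n j * g, by rw [← (hn j).2.2, ← e]; group⟩)
      h0 hc⟩
  have i0 := IsConj.refl x0
  have vs : VS ν D.r := by
    refine ⟨add, md, fun c hc e => by_contra fun h0 => ?_⟩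
    obtain ⟨h1, g, h2⟩ := orb c hc h0
    have h3 : (ν (nth 0 reps (tyf D.ty c)) : F) = 1 := by
      rw [e] at h2
      exact congrArg Subtype.val (show _ = (1 : CC x0) by simpa using h2)
    generalize tyf D.ty c = t at h1 h3
    interval_cases t
    · exact h.ne_one ((congrArg Subtype.val v1).symm.trans h3)
    · exact h.tr.ne _ x1.1 (v2.symm.trans h3)
    · refine x1.3 ?_
      rw [← inv_eq_of_mul_eq_one_right (v3.symm.trans h3), inv_eq_of_mul_eq_one_right h.sq]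
    · refine d12 ?_
      rw [← inv_eq_of_mul_eq_one_right (v6.symm.trans h3),
        inv_eq_of_mul_eq_one_right (h.tr.sq _ x1.1)]
    · refine h.mul_not i0 x1.1 x2.1 ?_
      rw [eq_inv_of_mul_eq_one_left (v7.symm.trans h3), inv_eq_of_mul_eq_one_right (h.tr.sq _ x2.1)]
    · refine h.mul_not x1.1 x2.1 x3.1 ?_
      rw [eq_inv_of_mul_eq_one_left (v14.symm.trans h3), inv_eq_of_mul_eq_one_right (h.tr.sq _ x3.1)]
  obtain ⟨T, hT⟩ := vs.exists_syl (u1 ▸ Act.gens md hn D.UG) u2 u3 u6 u5 u4 hc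
  have wk : Wk ν D.r D.UL D.I T :=
    ⟨vs, hT, b6, fun L hL e => (u7 L hL).resolve_left (not_not.2 e), u8, k4⟩
  have y1 := (hE.isX (n1 _ List.mem_cons_self).1.1)
  have y2 := (hE.isX (n1 _ List.mem_cons_self).1.2)
  refine ⟨ν, v1, vs, r1, fun μ hμ => wk.f2' hμ, fun t ht => wk.f1 (E := {y | IsConj x0 y.1})
    (fun u hu g => IsConj.trans hu (isConj_iff.2 ⟨g, rfl⟩)) (fun u hu v hv =>
      (h.tr.three _ hu _ hv).imp Subtype.ext fun t => Subtype.ext (h.tr.cube hu hv t))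
    (fun u hu => Subtype.ext (h.tr.sq _ hu)) (fun i hi => cB _ (hν ▸ nu_pow (by simpa [b1]))) hn
    (y1 := pc φ x0 D.y1.k) (y2 := pc φ x0 D.y2.k) (A0 := D.A0) (HC := D.HC) ?_ ?_ ?_ (n0 ▸ hn 0)
    ?_ ?_ ?_ ht, fun y hy g => XX.conj hy g.2, fun g => v1 ▸ Subtype.ext (mem_CC.1 g.2),
    fun t => t.3 (congrArg Subtype.val v1), fun y hy t => h.mul_not i0 hy.1 t.1 (by rw [v1]; rfl),
    show XX x0 _ from v2 ▸ x1, fun y hy => ?_, ?_, fun a ha => ⟨fun t => ?_, fun t => ?_⟩, o4,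
    fun a ha => ?_, o5, orb, o2, fun c hc h0 => ?_, s4, s5, s6, k8, k9, s7⟩
  · show IsConj _ _
    rw [pc_val y1.2.mem]; exact y1.2.1
  · show IsConj _ _
    rw [pc_val y2.2.mem]; exact y2.2.1
  · refine Subtype.ext ?_
    rw [Subgroup.coe_mul, Subgroup.coe_mul, pc_val y1.2.mem, pc_val y2.2.mem]
    exact (hE.cm y1.1 (hE.ok y2.1).1).1 n3
  · intro A hA
    obtain ⟨p, hp, rfl⟩ := List.mem_map.1 hA
    exact (u9 p hp).imp_right fun t => ⟨_, t⟩
  · intro a ha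
    obtain ⟨k, hk, rfl⟩ := List.mem_map.1 ha
    obtain ⟨⟨a1, a2⟩, a3⟩ := n4 k hk
    obtain ⟨a4, a5, -⟩ := lk k a1
    refine ⟨show IsConj _ _ from a5 ▸ hE.isConj a4, Subtype.ext ?_, Subtype.ext ?_⟩
    · rw [Subgroup.coe_mul, Subgroup.coe_mul, pc_val y1.2.mem, ← a5]
      exact ((hE.cm y1.1 a4).1 a2).symm
    · rw [Subgroup.coe_mul, Subgroup.coe_mul, pc_val y2.2.mem, ← a5]
      exact ((hE.cm y2.1 a4).1 a3).symm
  · intro c hc e
    have := (k5 c hc).resolve_left (not_not.2 e)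
    rw [tb_eq, tb_maskOf, List.mem_map] at this
    obtain ⟨p, -, rfl⟩ := this
    exact ⟨p.1, p.2, Nat.xor_xor_cancel_right _ _⟩
  · obtain ⟨g, hg, e⟩ := h.t1 x1 hy
    exact ⟨⟨g, hg⟩, Subtype.ext (by rw [← e, ← v2]; rfl)⟩
  · obtain ⟨g, hg, e⟩ := h.t1 x1 x2
    obtain ⟨k, hk, e1, e2⟩ := h.t2 x2 (x2.conj hg) x1 (by
      conv_rhs => rw [← e]
      simpa using Ne.symm d12) d12 (by
      conv_lhs => rw [← e]
      conv_rhs => rw [← e]
      rw [e, ← e]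
      exact conj_comm (e ▸ m12.eq) g) m12.symm.eq
    refine ⟨⟨k, hk⟩ * ⟨g, hg⟩, Subtype.ext ?_, Subtype.ext ?_⟩
    · rw [v4, ← e1, ← e, ← v2]; simp [mul_assoc]
    · rw [v2, ← e2, ← v4]; simp [mul_assoc]
  · have h0 : a ≠ 0 := by
      rintro rfl
      exact h.tr.ne _ t.1 (by rw [vs.zero]; rfl)
    obtain ⟨h1, g, h2⟩ := orb a ha h0
    have h3 : XX x0 (ν (nth 0 reps (tyf D.ty a)) : F) := by
      have := XX.conj t g⁻¹.2
      rw [← h2] at this
      simpa [mul_assoc] using this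
    refine (((o3 a ha).resolve_left h0).2).resolve_left (not_not.2 ?_)
    generalize tyf D.ty a = s at h1 h3
    interval_cases s
    · exact absurd (congrArg Subtype.val v1) h3.3
    · rfl
    · exact absurd v3.symm (h.mul_not i0 x1.1 h3.1)
    · exact absurd v6.symm (h.mul_not x1.1 x2.1 h3.1)
    · exact absurd v7.symm (h.mul3_not i0 x1.1 x2.1 h3.1 x1.2.symm x2.2.symm m12 x1.3.symm
        x2.3.symm d12)
    · exact absurd v14.symm (h.mul3_not x1.1 x2.1 x3.1 h3.1 m12 m13 m23 d12 d13 d23)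
  · obtain ⟨p, hp, rfl⟩ := List.mem_map.1 t
    show XX _ _
    rw [← (pP p hp).2, pc_val (pP p hp).1.mem]
    exact (pP p hp).1
  · obtain ⟨p, hp, rfl⟩ := List.mem_map.1 ha
    exact (b7 p hp).1.2
  · have hg := s1 ▸ Act.gens md hn D.SGW
    refine orbChk_sound s3 (R := fun a c => ∃ g, g * ν 2 * g⁻¹ = ν 2 ∧ g * ν a * g⁻¹ = ν c)
      (fun c => ⟨1, by simp⟩) (fun j a c ⟨g, e1, e2⟩ => ⟨wd n (nth [] D.SGW j) * g, ?_, ?_⟩) h0 hc
    · have := (hg j).2.2 2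
      rw [show lin (nth (pows D.r 1) D.GN1 j) 2 = 2 by
        rcases List.mem_cons.1 (nth_mem (pows D.r 1) D.GN1 j) with e | e
        · rw [e, lin_id (by omega)]
        · exact s2 _ e] at this
      rw [mul_inv_rev, ← mul_assoc, mul_assoc _ g, mul_assoc _ (g * _), e1, this]
    · rw [← (hg j).2.2, ← e2]; group

end Cfsg.Agent.Fx
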