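import Cfsg.Agent.Fx.T22a
import Cfsg.Agent.Fx.Cox
import Cfsg.Agent.Spor.Fi22U

set_option autoImplicit false
set_option maxRecDepth 100000

namespace Cfsg.Agent.Fx.M22
open Cfsg.Agent.Spor Cfsg.Spor

def f (j : ℕ) : Fi22 := Fi22G.f (if j < 9 then j else 0)
def x0 : Fi22 := Fi22G.f 0
noncomputable abbrev φ := Fi3510.φ

theorem f_eq : ∀ j < 9, f j = Fi22G.f j := fun j hj => by rw [f, if_pos hj]

theorem ex0 : ev (atm 9 Fi22G.f) [0] = x0 := by
  rw [ev_cons, ev_nil, mul_one]; exact atm_two_mul (j := 0) _ (by norm_num)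

theorem cent : Subgroup.centralizer {x0} = Fi3510.H := ex0 ▸ Fi22G.cent

theorem tt : Cfsg.IsThreeTranspositionClass (conjugatesOf x0) := ex0 ▸ Fi22G.tt

theorem sq (j : ℕ) : f j * f j = 1 := by
  rw [f]; split_ifs with h
  · exact Fi22G.pres.sq _ h h
  · exact Fi22G.pres.sq _ (by norm_num) (by norm_num)

theorem cox : Cox YC YB f :=
  cox_of_pres Fi22G.pres f_eq sq (by decide) (by decide) (by decide) (by decide) (by decide +kernel)

theorem ok0 : E.Ok0 φ f x0 3510 := by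
  refine ⟨cent ▸ Fi3510.act, fun j i hi => ?_, sq, by simp [E, f, x0]⟩
  rcases j with _ | _ | _ | _ | _ | _ | _ | _ | _ | j
  · exact (s0 hi).trans (by rw [f_eq _ (by norm_num), Fi3510.hφ _ (by norm_num)])
  · exact (s1 hi).trans (by rw [f_eq _ (by norm_num), Fi3510.hφ _ (by norm_num)])
  · exact (s2 hi).trans (by rw [f_eq _ (by norm_num), Fi3510.hφ _ (by norm_num)])
  · exact (s3 hi).trans (by rw [f_eq _ (by norm_num), Fi3510.hφ _ (by norm_num)])
  · exact (s4 hi).trans (by rw [f_eq _ (by norm_num), Fi3510.hφ _ (by norm_num)])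
  · exact (s5 hi).trans (by rw [f_eq _ (by norm_num), Fi3510.hφ _ (by norm_num)])
  · exact (s6 hi).trans (by rw [f_eq _ (by norm_num), Fi3510.hφ _ (by norm_num)])
  · exact (s7 hi).trans (by rw [f_eq _ (by norm_num), Fi3510.hφ _ (by norm_num)])
  · exact (s8 hi).trans (by rw [f_eq _ (by norm_num), Fi3510.hφ _ (by norm_num)])
  · exact (s0 hi).trans (by rw [f, if_neg (by omega), Fi3510.hφ _ (by norm_num)])

theorem step {s t k k' : ℕ} (hk : k < 3510 ∧ pt φ x0 k = f s) (hb : tbit YB s t = true)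
    (e : Nat.beq (E.ap [s, t] k) k' = true) : k' < 3510 ∧ pt φ x0 k' = f t := by
  rw [← Nat.eq_of_beq_eq_true e]
  exact ⟨ok0.ap_lt _ hk.1, ok0.braid hk.1 hk.2 (cox.br _ _ hb)⟩

theorem g0 : 0 < 3510 ∧ pt φ x0 0 = f 0 := ⟨by norm_num, pt_zero ok0.act⟩
theorem g1 : 2 < 3510 ∧ pt φ x0 2 = f 1 := step g0 (by decide) (by decide +kernel)
theorem g2 : 6 < 3510 ∧ pt φ x0 6 = f 2 := step g1 (by decide) (by decide +kernel)
theorem g3 : 16 < 3510 ∧ pt φ x0 16 = f 3 := step g2 (by decide) (by decide +kernel)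
theorem g4 : 40 < 3510 ∧ pt φ x0 40 = f 4 := step g3 (by decide) (by decide +kernel)
theorem g5 : 88 < 3510 ∧ pt φ x0 88 = f 5 := step g4 (by decide) (by decide +kernel)
theorem g6 : 154 < 3510 ∧ pt φ x0 154 = f 6 := step g5 (by decide) (by decide +kernel)
theorem g7 : 43 < 3510 ∧ pt φ x0 43 = f 7 := step g3 (by decide) (by decide +kernel)
theorem g8 : 92 < 3510 ∧ pt φ x0 92 = f 8 := step g7 (by decide) (by decide +kernel)

theorem ok : E.Ok φ f x0 3510 := by
  refine ⟨ok0, fun j => ?_, fun g hg => ?_⟩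
  · rcases j with _ | _ | _ | _ | _ | _ | _ | _ | _ | j
    exacts [g0, g1, g2, g3, g4, g5, g6, g7, g8,
      ⟨g0.1, g0.2.trans (by rw [f, f, if_neg (show ¬ j + 1 + 1 + 1 + 1 + 1 + 1 + 1 + 1 + 1 < 9 by omega)]; rfl)⟩]
  · haveI := Fi22G.simple
    have : g ∈ Subgroup.center Fi22 := by
      rw [Subgroup.mem_center_iff]
      intro x
      exact comm_of_gens (n := 9) (g := Fi22G.f) (fun j hj => by
        rw [← f_eq j hj]; exact (hg j hj).symm) x (Fi22G.top ▸ Subgroup.mem_top x)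
    rwa [center_eq_bot_of_simple Fi22G.perfect, Subgroup.mem_bot] at this

end Cfsg.Agent.Fx.M22
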