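import Cfsg.Agent.Fx.T22D
import Cfsg.Agent.Spor.Fi3510.Main

set_option autoImplicit false
set_option maxRecDepth 100000
set_option Elab.async false

namespace Cfsg.Agent.Fx.M22
open Cfsg.Agent.Spor

theorem c0_0 : tchk Fi3510.T 12 1 0 t0_0 = true := by decide +kernel
theorem s0 {i : ℕ} (hi : i < 3510) : lk2 t0 i = Fi3510.fP 0 i := by
  refine lk2_sound (σ := Fi3510.T.τ 1) (N := 3510) (fun c i h1 h2 => ?_) hi
  have hz : Fi3510.T.τ 1 * Fi3510.T.τ 1 = 1 := Fi3510.hsq 0 (by norm_num) (by norm_num)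
  rcases c with _ | c
  · exact tchk_sound Fi3510.hT (by norm_num) hz c0_0 h1 (by omega)
  · omega
theorem c1_0 : tchk Fi3510.T 12 2 0 t1_0 = true := by decide +kernel
theorem s1 {i : ℕ} (hi : i < 3510) : lk2 t1 i = Fi3510.fP 1 i := by
  refine lk2_sound (σ := Fi3510.T.τ 2) (N := 3510) (fun c i h1 h2 => ?_) hi
  have hz : Fi3510.T.τ 2 * Fi3510.T.τ 2 = 1 := Fi3510.hsq 1 (by norm_num) (by norm_num)
  rcases c with _ | c
  · exact tchk_sound Fi3510.hT (by norm_num) hz c1_0 h1 (by omega)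
  · omega
theorem c2_0 : tchk Fi3510.T 12 3 0 t2_0 = true := by decide +kernel
theorem s2 {i : ℕ} (hi : i < 3510) : lk2 t2 i = Fi3510.fP 2 i := by
  refine lk2_sound (σ := Fi3510.T.τ 3) (N := 3510) (fun c i h1 h2 => ?_) hi
  have hz : Fi3510.T.τ 3 * Fi3510.T.τ 3 = 1 := Fi3510.hsq 2 (by norm_num) (by norm_num)
  rcases c with _ | c
  · exact tchk_sound Fi3510.hT (by norm_num) hz c2_0 h1 (by omega)
  · omega
theorem c3_0 : tchk Fi3510.T 12 4 0 t3_0 = true := by decide +kernel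
theorem s3 {i : ℕ} (hi : i < 3510) : lk2 t3 i = Fi3510.fP 3 i := by
  refine lk2_sound (σ := Fi3510.T.τ 4) (N := 3510) (fun c i h1 h2 => ?_) hi
  have hz : Fi3510.T.τ 4 * Fi3510.T.τ 4 = 1 := Fi3510.hsq 3 (by norm_num) (by norm_num)
  rcases c with _ | c
  · exact tchk_sound Fi3510.hT (by norm_num) hz c3_0 h1 (by omega)
  · omega
theorem c4_0 : tchk Fi3510.T 12 5 0 t4_0 = true := by decide +kernel
theorem s4 {i : ℕ} (hi : i < 3510) : lk2 t4 i = Fi3510.fP 4 i := by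
  refine lk2_sound (σ := Fi3510.T.τ 5) (N := 3510) (fun c i h1 h2 => ?_) hi
  have hz : Fi3510.T.τ 5 * Fi3510.T.τ 5 = 1 := Fi3510.hsq 4 (by norm_num) (by norm_num)
  rcases c with _ | c
  · exact tchk_sound Fi3510.hT (by norm_num) hz c4_0 h1 (by omega)
  · omega
theorem c5_0 : tchk Fi3510.T 12 6 0 t5_0 = true := by decide +kernel
theorem s5 {i : ℕ} (hi : i < 3510) : lk2 t5 i = Fi3510.fP 5 i := by
  refine lk2_sound (σ := Fi3510.T.τ 6) (N := 3510) (fun c i h1 h2 => ?_) hi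
  have hz : Fi3510.T.τ 6 * Fi3510.T.τ 6 = 1 := Fi3510.hsq 5 (by norm_num) (by norm_num)
  rcases c with _ | c
  · exact tchk_sound Fi3510.hT (by norm_num) hz c5_0 h1 (by omega)
  · omega
theorem c6_0 : tchk Fi3510.T 12 7 0 t6_0 = true := by decide +kernel
theorem s6 {i : ℕ} (hi : i < 3510) : lk2 t6 i = Fi3510.fP 6 i := by
  refine lk2_sound (σ := Fi3510.T.τ 7) (N := 3510) (fun c i h1 h2 => ?_) hi
  have hz : Fi3510.T.τ 7 * Fi3510.T.τ 7 = 1 := Fi3510.hsq 6 (by norm_num) (by norm_num)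
  rcases c with _ | c
  · exact tchk_sound Fi3510.hT (by norm_num) hz c6_0 h1 (by omega)
  · omega
theorem c7_0 : tchk Fi3510.T 12 8 0 t7_0 = true := by decide +kernel
theorem s7 {i : ℕ} (hi : i < 3510) : lk2 t7 i = Fi3510.fP 7 i := by
  refine lk2_sound (σ := Fi3510.T.τ 8) (N := 3510) (fun c i h1 h2 => ?_) hi
  have hz : Fi3510.T.τ 8 * Fi3510.T.τ 8 = 1 := Fi3510.hsq 7 (by norm_num) (by norm_num)
  rcases c with _ | c
  · exact tchk_sound Fi3510.hT (by norm_num) hz c7_0 h1 (by omega)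
  · omega
theorem c8_0 : tchk Fi3510.T 12 9 0 t8_0 = true := by decide +kernel
theorem s8 {i : ℕ} (hi : i < 3510) : lk2 t8 i = Fi3510.fP 8 i := by
  refine lk2_sound (σ := Fi3510.T.τ 9) (N := 3510) (fun c i h1 h2 => ?_) hi
  have hz : Fi3510.T.τ 9 * Fi3510.T.τ 9 = 1 := Fi3510.hsq 8 (by norm_num) (by norm_num)
  rcases c with _ | c
  · exact tchk_sound Fi3510.hT (by norm_num) hz c8_0 h1 (by omega)
  · omega

end Cfsg.Agent.Fx.M22
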