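import Cfsg.Agent.Fx.T23D
import Cfsg.Agent.Spor.Fi31671.Main

set_option autoImplicit false
set_option maxRecDepth 100000
set_option Elab.async false

namespace Cfsg.Agent.Fx.M23
open Cfsg.Agent.Spor

theorem c3_0 : tchk Fi31671.T 15 4 0 t3_0 = true := by decide +kernel
theorem c3_1 : tchk Fi31671.T 15 4 1 t3_1 = true := by decide +kernel
theorem c3_2 : tchk Fi31671.T 15 4 2 t3_2 = true := by decide +kernel
theorem c3_3 : tchk Fi31671.T 15 4 3 t3_3 = true := by decide +kernel
theorem c3_4 : tchk Fi31671.T 15 4 4 t3_4 = true := by decide +kernel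
theorem c3_5 : tchk Fi31671.T 15 4 5 t3_5 = true := by decide +kernel
theorem c3_6 : tchk Fi31671.T 15 4 6 t3_6 = true := by decide +kernel
theorem c3_7 : tchk Fi31671.T 15 4 7 t3_7 = true := by decide +kernel
theorem s3 {i : ℕ} (hi : i < 31671) : lk2 t3 i = Fi31671.fP 3 i := by
  refine lk2_sound (σ := Fi31671.T.τ 4) (N := 31671) (fun c i h1 h2 => ?_) hi
  have hz : Fi31671.T.τ 4 * Fi31671.T.τ 4 = 1 := Fi31671.hsq 3 (by norm_num) (by norm_num)
  rcases c with _ | _ | _ | _ | _ | _ | _ | _ | c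
  · exact tchk_sound Fi31671.hT (by norm_num) hz c3_0 h1 (by omega)
  · exact tchk_sound Fi31671.hT (by norm_num) hz c3_1 h1 (by omega)
  · exact tchk_sound Fi31671.hT (by norm_num) hz c3_2 h1 (by omega)
  · exact tchk_sound Fi31671.hT (by norm_num) hz c3_3 h1 (by omega)
  · exact tchk_sound Fi31671.hT (by norm_num) hz c3_4 h1 (by omega)
  · exact tchk_sound Fi31671.hT (by norm_num) hz c3_5 h1 (by omega)
  · exact tchk_sound Fi31671.hT (by norm_num) hz c3_6 h1 (by omega)
  · exact tchk_sound Fi31671.hT (by norm_num) hz c3_7 h1 (by omega)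
  · omega
theorem c4_0 : tchk Fi31671.T 15 5 0 t4_0 = true := by decide +kernel
theorem c4_1 : tchk Fi31671.T 15 5 1 t4_1 = true := by decide +kernel
theorem c4_2 : tchk Fi31671.T 15 5 2 t4_2 = true := by decide +kernel
theorem c4_3 : tchk Fi31671.T 15 5 3 t4_3 = true := by decide +kernel
theorem c4_4 : tchk Fi31671.T 15 5 4 t4_4 = true := by decide +kernel
theorem c4_5 : tchk Fi31671.T 15 5 5 t4_5 = true := by decide +kernel
theorem c4_6 : tchk Fi31671.T 15 5 6 t4_6 = true := by decide +kernel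
theorem c4_7 : tchk Fi31671.T 15 5 7 t4_7 = true := by decide +kernel
theorem s4 {i : ℕ} (hi : i < 31671) : lk2 t4 i = Fi31671.fP 4 i := by
  refine lk2_sound (σ := Fi31671.T.τ 5) (N := 31671) (fun c i h1 h2 => ?_) hi
  have hz : Fi31671.T.τ 5 * Fi31671.T.τ 5 = 1 := Fi31671.hsq 4 (by norm_num) (by norm_num)
  rcases c with _ | _ | _ | _ | _ | _ | _ | _ | c
  · exact tchk_sound Fi31671.hT (by norm_num) hz c4_0 h1 (by omega)
  · exact tchk_sound Fi31671.hT (by norm_num) hz c4_1 h1 (by omega)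
  · exact tchk_sound Fi31671.hT (by norm_num) hz c4_2 h1 (by omega)
  · exact tchk_sound Fi31671.hT (by norm_num) hz c4_3 h1 (by omega)
  · exact tchk_sound Fi31671.hT (by norm_num) hz c4_4 h1 (by omega)
  · exact tchk_sound Fi31671.hT (by norm_num) hz c4_5 h1 (by omega)
  · exact tchk_sound Fi31671.hT (by norm_num) hz c4_6 h1 (by omega)
  · exact tchk_sound Fi31671.hT (by norm_num) hz c4_7 h1 (by omega)
  · omega
theorem c5_0 : tchk Fi31671.T 15 6 0 t5_0 = true := by decide +kernel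
theorem c5_1 : tchk Fi31671.T 15 6 1 t5_1 = true := by decide +kernel
theorem c5_2 : tchk Fi31671.T 15 6 2 t5_2 = true := by decide +kernel
theorem c5_3 : tchk Fi31671.T 15 6 3 t5_3 = true := by decide +kernel
theorem c5_4 : tchk Fi31671.T 15 6 4 t5_4 = true := by decide +kernel
theorem c5_5 : tchk Fi31671.T 15 6 5 t5_5 = true := by decide +kernel
theorem c5_6 : tchk Fi31671.T 15 6 6 t5_6 = true := by decide +kernel
theorem c5_7 : tchk Fi31671.T 15 6 7 t5_7 = true := by decide +kernel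
theorem s5 {i : ℕ} (hi : i < 31671) : lk2 t5 i = Fi31671.fP 5 i := by
  refine lk2_sound (σ := Fi31671.T.τ 6) (N := 31671) (fun c i h1 h2 => ?_) hi
  have hz : Fi31671.T.τ 6 * Fi31671.T.τ 6 = 1 := Fi31671.hsq 5 (by norm_num) (by norm_num)
  rcases c with _ | _ | _ | _ | _ | _ | _ | _ | c
  · exact tchk_sound Fi31671.hT (by norm_num) hz c5_0 h1 (by omega)
  · exact tchk_sound Fi31671.hT (by norm_num) hz c5_1 h1 (by omega)
  · exact tchk_sound Fi31671.hT (by norm_num) hz c5_2 h1 (by omega)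
  · exact tchk_sound Fi31671.hT (by norm_num) hz c5_3 h1 (by omega)
  · exact tchk_sound Fi31671.hT (by norm_num) hz c5_4 h1 (by omega)
  · exact tchk_sound Fi31671.hT (by norm_num) hz c5_5 h1 (by omega)
  · exact tchk_sound Fi31671.hT (by norm_num) hz c5_6 h1 (by omega)
  · exact tchk_sound Fi31671.hT (by norm_num) hz c5_7 h1 (by omega)
  · omega

end Cfsg.Agent.Fx.M23
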