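import Cfsg.Agent.Fx.T23D
import Cfsg.Agent.Spor.Fi31671.Main

set_option autoImplicit false
set_option maxRecDepth 100000
set_option Elab.async false

namespace Cfsg.Agent.Fx.M23
open Cfsg.Agent.Spor

theorem c6_0 : tchk Fi31671.T 15 7 0 t6_0 = true := by decide +kernel
theorem c6_1 : tchk Fi31671.T 15 7 1 t6_1 = true := by decide +kernel
theorem c6_2 : tchk Fi31671.T 15 7 2 t6_2 = true := by decide +kernel
theorem c6_3 : tchk Fi31671.T 15 7 3 t6_3 = true := by decide +kernel
theorem c6_4 : tchk Fi31671.T 15 7 4 t6_4 = true := by decide +kernel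
theorem c6_5 : tchk Fi31671.T 15 7 5 t6_5 = true := by decide +kernel
theorem c6_6 : tchk Fi31671.T 15 7 6 t6_6 = true := by decide +kernel
theorem c6_7 : tchk Fi31671.T 15 7 7 t6_7 = true := by decide +kernel
theorem s6 {i : ℕ} (hi : i < 31671) : lk2 t6 i = Fi31671.fP 6 i := by
  refine lk2_sound (σ := Fi31671.T.τ 7) (N := 31671) (fun c i h1 h2 => ?_) hi
  have hz : Fi31671.T.τ 7 * Fi31671.T.τ 7 = 1 := Fi31671.hsq 6 (by norm_num) (by norm_num)
  rcases c with _ | _ | _ | _ | _ | _ | _ | _ | c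
  · exact tchk_sound Fi31671.hT (by norm_num) hz c6_0 h1 (by omega)
  · exact tchk_sound Fi31671.hT (by norm_num) hz c6_1 h1 (by omega)
  · exact tchk_sound Fi31671.hT (by norm_num) hz c6_2 h1 (by omega)
  · exact tchk_sound Fi31671.hT (by norm_num) hz c6_3 h1 (by omega)
  · exact tchk_sound Fi31671.hT (by norm_num) hz c6_4 h1 (by omega)
  · exact tchk_sound Fi31671.hT (by norm_num) hz c6_5 h1 (by omega)
  · exact tchk_sound Fi31671.hT (by norm_num) hz c6_6 h1 (by omega)
  · exact tchk_sound Fi31671.hT (by norm_num) hz c6_7 h1 (by omega)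
  · omega
theorem c7_0 : tchk Fi31671.T 15 8 0 t7_0 = true := by decide +kernel
theorem c7_1 : tchk Fi31671.T 15 8 1 t7_1 = true := by decide +kernel
theorem c7_2 : tchk Fi31671.T 15 8 2 t7_2 = true := by decide +kernel
theorem c7_3 : tchk Fi31671.T 15 8 3 t7_3 = true := by decide +kernel
theorem c7_4 : tchk Fi31671.T 15 8 4 t7_4 = true := by decide +kernel
theorem c7_5 : tchk Fi31671.T 15 8 5 t7_5 = true := by decide +kernel
theorem c7_6 : tchk Fi31671.T 15 8 6 t7_6 = true := by decide +kernel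
theorem c7_7 : tchk Fi31671.T 15 8 7 t7_7 = true := by decide +kernel
theorem s7 {i : ℕ} (hi : i < 31671) : lk2 t7 i = Fi31671.fP 7 i := by
  refine lk2_sound (σ := Fi31671.T.τ 8) (N := 31671) (fun c i h1 h2 => ?_) hi
  have hz : Fi31671.T.τ 8 * Fi31671.T.τ 8 = 1 := Fi31671.hsq 7 (by norm_num) (by norm_num)
  rcases c with _ | _ | _ | _ | _ | _ | _ | _ | c
  · exact tchk_sound Fi31671.hT (by norm_num) hz c7_0 h1 (by omega)
  · exact tchk_sound Fi31671.hT (by norm_num) hz c7_1 h1 (by omega)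
  · exact tchk_sound Fi31671.hT (by norm_num) hz c7_2 h1 (by omega)
  · exact tchk_sound Fi31671.hT (by norm_num) hz c7_3 h1 (by omega)
  · exact tchk_sound Fi31671.hT (by norm_num) hz c7_4 h1 (by omega)
  · exact tchk_sound Fi31671.hT (by norm_num) hz c7_5 h1 (by omega)
  · exact tchk_sound Fi31671.hT (by norm_num) hz c7_6 h1 (by omega)
  · exact tchk_sound Fi31671.hT (by norm_num) hz c7_7 h1 (by omega)
  · omega
theorem c8_0 : tchk Fi31671.T 15 9 0 t8_0 = true := by decide +kernel
theorem c8_1 : tchk Fi31671.T 15 9 1 t8_1 = true := by decide +kernel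
theorem c8_2 : tchk Fi31671.T 15 9 2 t8_2 = true := by decide +kernel
theorem c8_3 : tchk Fi31671.T 15 9 3 t8_3 = true := by decide +kernel
theorem c8_4 : tchk Fi31671.T 15 9 4 t8_4 = true := by decide +kernel
theorem c8_5 : tchk Fi31671.T 15 9 5 t8_5 = true := by decide +kernel
theorem c8_6 : tchk Fi31671.T 15 9 6 t8_6 = true := by decide +kernel
theorem c8_7 : tchk Fi31671.T 15 9 7 t8_7 = true := by decide +kernel
theorem s8 {i : ℕ} (hi : i < 31671) : lk2 t8 i = Fi31671.fP 8 i := by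
  refine lk2_sound (σ := Fi31671.T.τ 9) (N := 31671) (fun c i h1 h2 => ?_) hi
  have hz : Fi31671.T.τ 9 * Fi31671.T.τ 9 = 1 := Fi31671.hsq 8 (by norm_num) (by norm_num)
  rcases c with _ | _ | _ | _ | _ | _ | _ | _ | c
  · exact tchk_sound Fi31671.hT (by norm_num) hz c8_0 h1 (by omega)
  · exact tchk_sound Fi31671.hT (by norm_num) hz c8_1 h1 (by omega)
  · exact tchk_sound Fi31671.hT (by norm_num) hz c8_2 h1 (by omega)
  · exact tchk_sound Fi31671.hT (by norm_num) hz c8_3 h1 (by omega)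
  · exact tchk_sound Fi31671.hT (by norm_num) hz c8_4 h1 (by omega)
  · exact tchk_sound Fi31671.hT (by norm_num) hz c8_5 h1 (by omega)
  · exact tchk_sound Fi31671.hT (by norm_num) hz c8_6 h1 (by omega)
  · exact tchk_sound Fi31671.hT (by norm_num) hz c8_7 h1 (by omega)
  · omega
theorem c9_0 : tchk Fi31671.T 15 10 0 t9_0 = true := by decide +kernel
theorem c9_1 : tchk Fi31671.T 15 10 1 t9_1 = true := by decide +kernel
theorem c9_2 : tchk Fi31671.T 15 10 2 t9_2 = true := by decide +kernel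
theorem c9_3 : tchk Fi31671.T 15 10 3 t9_3 = true := by decide +kernel
theorem c9_4 : tchk Fi31671.T 15 10 4 t9_4 = true := by decide +kernel
theorem c9_5 : tchk Fi31671.T 15 10 5 t9_5 = true := by decide +kernel
theorem c9_6 : tchk Fi31671.T 15 10 6 t9_6 = true := by decide +kernel
theorem c9_7 : tchk Fi31671.T 15 10 7 t9_7 = true := by decide +kernel
theorem s9 {i : ℕ} (hi : i < 31671) : lk2 t9 i = Fi31671.fP 9 i := by
  refine lk2_sound (σ := Fi31671.T.τ 10) (N := 31671) (fun c i h1 h2 => ?_) hi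
  have hz : Fi31671.T.τ 10 * Fi31671.T.τ 10 = 1 := Fi31671.hsq 9 (by norm_num) (by norm_num)
  rcases c with _ | _ | _ | _ | _ | _ | _ | _ | c
  · exact tchk_sound Fi31671.hT (by norm_num) hz c9_0 h1 (by omega)
  · exact tchk_sound Fi31671.hT (by norm_num) hz c9_1 h1 (by omega)
  · exact tchk_sound Fi31671.hT (by norm_num) hz c9_2 h1 (by omega)
  · exact tchk_sound Fi31671.hT (by norm_num) hz c9_3 h1 (by omega)
  · exact tchk_sound Fi31671.hT (by norm_num) hz c9_4 h1 (by omega)
  · exact tchk_sound Fi31671.hT (by norm_num) hz c9_5 h1 (by omega)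
  · exact tchk_sound Fi31671.hT (by norm_num) hz c9_6 h1 (by omega)
  · exact tchk_sound Fi31671.hT (by norm_num) hz c9_7 h1 (by omega)
  · omega

end Cfsg.Agent.Fx.M23
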