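import Cfsg.Agent.Fx.T23a
import Cfsg.Agent.Fx.T23b
import Cfsg.Agent.Fx.T23c
import Cfsg.Agent.Fx.Cox
import Cfsg.Agent.Spor.Fi23Simple

set_option autoImplicit false
set_option maxRecDepth 100000

namespace Cfsg.Agent.Fx.M23
open Cfsg.Agent.Spor Cfsg.Spor

def f (j : ℕ) : Fi23 := Fi23G.f (if j < 10 then j else 0)
noncomputable def x0 : Fi23 := Fi23G.z
noncomputable abbrev φ := Fi31671.φ

theorem f_eq : ∀ j < 10, f j = Fi23G.f j := fun j hj => by rw [f, if_pos hj]

theorem cent : Subgroup.centralizer {x0} = Fi31671.H := Fi23G.cent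

theorem tt : Cfsg.IsThreeTranspositionClass (conjugatesOf x0) := Fi23G.tt

theorem sq (j : ℕ) : f j * f j = 1 := by
  rw [f]; split_ifs with h
  · exact Fi23G.pres.sq _ h h
  · exact Fi23G.pres.sq _ (by norm_num) (by norm_num)

theorem cox : Cox ZC ZB f :=
  cox_of_pres Fi23G.pres f_eq sq (by decide) (by decide) (by decide) (by decide) (by decide +kernel)

theorem ex0 : wd f E.xw = x0 := by
  rw [x0, Fi23G.z, atm_congr fun j hj => (f_eq j hj).symm, ev_atm_eq_wd f (by decide +kernel)]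
  rfl

theorem ok0 : E.Ok0 φ f x0 31671 := by
  refine ⟨cent ▸ Fi31671.act, fun j i hi => ?_, sq, ex0⟩
  rcases j with _ | _ | _ | _ | _ | _ | _ | _ | _ | _ | j
  · exact (s0 hi).trans (by rw [f_eq _ (by norm_num), Fi31671.hφ _ (by norm_num)])
  · exact (s1 hi).trans (by rw [f_eq _ (by norm_num), Fi31671.hφ _ (by norm_num)])
  · exact (s2 hi).trans (by rw [f_eq _ (by norm_num), Fi31671.hφ _ (by norm_num)])
  · exact (s3 hi).trans (by rw [f_eq _ (by norm_num), Fi31671.hφ _ (by norm_num)])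
  · exact (s4 hi).trans (by rw [f_eq _ (by norm_num), Fi31671.hφ _ (by norm_num)])
  · exact (s5 hi).trans (by rw [f_eq _ (by norm_num), Fi31671.hφ _ (by norm_num)])
  · exact (s6 hi).trans (by rw [f_eq _ (by norm_num), Fi31671.hφ _ (by norm_num)])
  · exact (s7 hi).trans (by rw [f_eq _ (by norm_num), Fi31671.hφ _ (by norm_num)])
  · exact (s8 hi).trans (by rw [f_eq _ (by norm_num), Fi31671.hφ _ (by norm_num)])
  · exact (s9 hi).trans (by rw [f_eq _ (by norm_num), Fi31671.hφ _ (by norm_num)])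
  · exact (s0 hi).trans (by rw [f, if_neg (by omega), Fi31671.hφ _ (by norm_num)])

theorem step {s t k k' : ℕ} (hk : k < 31671 ∧ pt φ x0 k = f s) (hb : tbit ZB s t = true)
    (e : Nat.beq (E.ap [s, t] k) k' = true) : k' < 31671 ∧ pt φ x0 k' = f t := by
  rw [← Nat.eq_of_beq_eq_true e]
  exact ⟨ok0.ap_lt _ hk.1, ok0.braid hk.1 hk.2 (cox.br _ _ hb)⟩

theorem evA_eq (w : List ℕ) (hw : ∀ j ∈ w, j < 10) :
    evA Fi31671.T.τ (w.map (· + 1)) = φ (wd f w.reverse) := by
  induction w with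
  | nil => simp
  | cons j w ih =>
    have hj := hw j List.mem_cons_self
    rw [List.map_cons, evA_cons, ih fun k hk => hw k (List.mem_cons_of_mem _ hk),
      List.reverse_cons, wd_append, map_mul, wd_cons, wd_nil, mul_one, f_eq j hj, Fi31671.hφ j hj]
    congr 1
    interval_cases j <;> rfl

def u9 : List ℕ := [6, 5, 4, 3, 7, 2, 3, 4, 1, 2, 3, 7, 5, 6, 4, 5, 3, 4, 2, 3, 7, 1, 2, 3, 4, 5, 6, 9]

theorem rel9 : Fi31671.T.rel 15 ((lapp (cw u9 E.xw) [9]).reverse.map (· + 1)) 0 15 = true := by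
  decide +kernel

theorem g9 : 7999 < 31671 ∧ pt φ x0 7999 = f 9 := by
  refine ⟨by norm_num, ?_⟩
  have h1 := Fi31671.hT.one rel9
  rw [evA_eq _ (by decide +kernel), List.reverse_reverse, ← map_one φ] at h1
  have h2 := Fi23G.inj h1
  rw [wd_lapp, wd_cw sq, ex0, wd_cons, wd_nil, mul_one, mul_eq_one_iff_eq_inv,
    inv_eq_of_mul_eq_one_right (sq 9)] at h2
  have h3 : E.ap u9 0 = 7999 := Nat.eq_of_beq_eq_true (by decide +kernel)
  rw [← h2, ← h3, ← ok0.conj _ (by norm_num), pt_zero ok0.act]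
theorem g6 : 8000 < 31671 ∧ pt φ x0 8000 = f 6 := step g9 (by decide) (by decide +kernel)
theorem g5 : 8001 < 31671 ∧ pt φ x0 8001 = f 5 := step g6 (by decide) (by decide +kernel)
theorem g4 : 8002 < 31671 ∧ pt φ x0 8002 = f 4 := step g5 (by decide) (by decide +kernel)
theorem g3 : 8003 < 31671 ∧ pt φ x0 8003 = f 3 := step g4 (by decide) (by decide +kernel)
theorem g2 : 8005 < 31671 ∧ pt φ x0 8005 = f 2 := step g3 (by decide) (by decide +kernel)
theorem g1 : 8006 < 31671 ∧ pt φ x0 8006 = f 1 := step g2 (by decide) (by decide +kernel)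
theorem g0 : 11589 < 31671 ∧ pt φ x0 11589 = f 0 := step g1 (by decide) (by decide +kernel)
theorem g7 : 8004 < 31671 ∧ pt φ x0 8004 = f 7 := step g3 (by decide) (by decide +kernel)
theorem g8 : 8007 < 31671 ∧ pt φ x0 8007 = f 8 := step g7 (by decide) (by decide +kernel)

theorem ok : E.Ok φ f x0 31671 := by
  refine ⟨ok0, fun j => ?_, fun g hg => ?_⟩
  · rcases j with _ | _ | _ | _ | _ | _ | _ | _ | _ | _ | j
    exacts [g0, g1, g2, g3, g4, g5, g6, g7, g8, g9,
      ⟨g0.1, g0.2.trans (by rw [f, f, if_neg (show ¬ j + 1 + 1 + 1 + 1 + 1 + 1 + 1 + 1 + 1 + 1 < 10 by omega)]; rfl)⟩]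
  · haveI := Fi23G.simple
    have : g ∈ Subgroup.center Fi23 := by
      rw [Subgroup.mem_center_iff]
      intro x
      exact comm_of_gens (n := 10) (g := Fi23G.f) (fun j hj => by
        rw [← f_eq j hj]; exact (hg j hj).symm) x (Fi23G.top ▸ Subgroup.mem_top x)
    rwa [center_eq_bot_of_simple Fi23G.perfect, Subgroup.mem_bot] at this

end Cfsg.Agent.Fx.M23
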