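import Cfsg.Agent.Fx.T23D
import Cfsg.Agent.Spor.Fi31671.Main

set_option autoImplicit false
set_option maxRecDepth 100000
set_option Elab.async false

namespace Cfsg.Agent.Fx.M23
open Cfsg.Agent.Spor

theorem c0_0 : tchk Fi31671.T 15 1 0 t0_0 = true := by decide +kernel
theorem c0_1 : tchk Fi31671.T 15 1 1 t0_1 = true := by decide +kernel
theorem c0_2 : tchk Fi31671.T 15 1 2 t0_2 = true := by decide +kernel
theorem c0_3 : tchk Fi31671.T 15 1 3 t0_3 = true := by decide +kernel
theorem c0_4 : tchk Fi31671.T 15 1 4 t0_4 = true := by decide +kernel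
theorem c0_5 : tchk Fi31671.T 15 1 5 t0_5 = true := by decide +kernel
theorem c0_6 : tchk Fi31671.T 15 1 6 t0_6 = true := by decide +kernel
theorem c0_7 : tchk Fi31671.T 15 1 7 t0_7 = true := by decide +kernel
theorem s0 {i : ℕ} (hi : i < 31671) : lk2 t0 i = Fi31671.fP 0 i := by
  refine lk2_sound (σ := Fi31671.T.τ 1) (N := 31671) (fun c i h1 h2 => ?_) hi
  have hz : Fi31671.T.τ 1 * Fi31671.T.τ 1 = 1 := Fi31671.hsq 0 (by norm_num) (by norm_num)
  rcases c with _ | _ | _ | _ | _ | _ | _ | _ | c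
  · exact tchk_sound Fi31671.hT (by norm_num) hz c0_0 h1 (by omega)
  · exact tchk_sound Fi31671.hT (by norm_num) hz c0_1 h1 (by omega)
  · exact tchk_sound Fi31671.hT (by norm_num) hz c0_2 h1 (by omega)
  · exact tchk_sound Fi31671.hT (by norm_num) hz c0_3 h1 (by omega)
  · exact tchk_sound Fi31671.hT (by norm_num) hz c0_4 h1 (by omega)
  · exact tchk_sound Fi31671.hT (by norm_num) hz c0_5 h1 (by omega)
  · exact tchk_sound Fi31671.hT (by norm_num) hz c0_6 h1 (by omega)
  · exact tchk_sound Fi31671.hT (by norm_num) hz c0_7 h1 (by omega)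
  · omega
theorem c1_0 : tchk Fi31671.T 15 2 0 t1_0 = true := by decide +kernel
theorem c1_1 : tchk Fi31671.T 15 2 1 t1_1 = true := by decide +kernel
theorem c1_2 : tchk Fi31671.T 15 2 2 t1_2 = true := by decide +kernel
theorem c1_3 : tchk Fi31671.T 15 2 3 t1_3 = true := by decide +kernel
theorem c1_4 : tchk Fi31671.T 15 2 4 t1_4 = true := by decide +kernel
theorem c1_5 : tchk Fi31671.T 15 2 5 t1_5 = true := by decide +kernel
theorem c1_6 : tchk Fi31671.T 15 2 6 t1_6 = true := by decide +kernel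
theorem c1_7 : tchk Fi31671.T 15 2 7 t1_7 = true := by decide +kernel
theorem s1 {i : ℕ} (hi : i < 31671) : lk2 t1 i = Fi31671.fP 1 i := by
  refine lk2_sound (σ := Fi31671.T.τ 2) (N := 31671) (fun c i h1 h2 => ?_) hi
  have hz : Fi31671.T.τ 2 * Fi31671.T.τ 2 = 1 := Fi31671.hsq 1 (by norm_num) (by norm_num)
  rcases c with _ | _ | _ | _ | _ | _ | _ | _ | c
  · exact tchk_sound Fi31671.hT (by norm_num) hz c1_0 h1 (by omega)
  · exact tchk_sound Fi31671.hT (by norm_num) hz c1_1 h1 (by omega)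
  · exact tchk_sound Fi31671.hT (by norm_num) hz c1_2 h1 (by omega)
  · exact tchk_sound Fi31671.hT (by norm_num) hz c1_3 h1 (by omega)
  · exact tchk_sound Fi31671.hT (by norm_num) hz c1_4 h1 (by omega)
  · exact tchk_sound Fi31671.hT (by norm_num) hz c1_5 h1 (by omega)
  · exact tchk_sound Fi31671.hT (by norm_num) hz c1_6 h1 (by omega)
  · exact tchk_sound Fi31671.hT (by norm_num) hz c1_7 h1 (by omega)
  · omega
theorem c2_0 : tchk Fi31671.T 15 3 0 t2_0 = true := by decide +kernel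
theorem c2_1 : tchk Fi31671.T 15 3 1 t2_1 = true := by decide +kernel
theorem c2_2 : tchk Fi31671.T 15 3 2 t2_2 = true := by decide +kernel
theorem c2_3 : tchk Fi31671.T 15 3 3 t2_3 = true := by decide +kernel
theorem c2_4 : tchk Fi31671.T 15 3 4 t2_4 = true := by decide +kernel
theorem c2_5 : tchk Fi31671.T 15 3 5 t2_5 = true := by decide +kernel
theorem c2_6 : tchk Fi31671.T 15 3 6 t2_6 = true := by decide +kernel
theorem c2_7 : tchk Fi31671.T 15 3 7 t2_7 = true := by decide +kernel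
theorem s2 {i : ℕ} (hi : i < 31671) : lk2 t2 i = Fi31671.fP 2 i := by
  refine lk2_sound (σ := Fi31671.T.τ 3) (N := 31671) (fun c i h1 h2 => ?_) hi
  have hz : Fi31671.T.τ 3 * Fi31671.T.τ 3 = 1 := Fi31671.hsq 2 (by norm_num) (by norm_num)
  rcases c with _ | _ | _ | _ | _ | _ | _ | _ | c
  · exact tchk_sound Fi31671.hT (by norm_num) hz c2_0 h1 (by omega)
  · exact tchk_sound Fi31671.hT (by norm_num) hz c2_1 h1 (by omega)
  · exact tchk_sound Fi31671.hT (by norm_num) hz c2_2 h1 (by omega)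
  · exact tchk_sound Fi31671.hT (by norm_num) hz c2_3 h1 (by omega)
  · exact tchk_sound Fi31671.hT (by norm_num) hz c2_4 h1 (by omega)
  · exact tchk_sound Fi31671.hT (by norm_num) hz c2_5 h1 (by omega)
  · exact tchk_sound Fi31671.hT (by norm_num) hz c2_6 h1 (by omega)
  · exact tchk_sound Fi31671.hT (by norm_num) hz c2_7 h1 (by omega)
  · omega

end Cfsg.Agent.Fx.M23
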