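import Cfsg.Agent.Spor.Cert

/-!
Packed lookup tables for the permutation models, and an engine computing with the conjugates of
a fixed element `x0` as points.
-/
set_option autoImplicit false

namespace Cfsg.Agent.Fx

open Cfsg.Agent.Spor Equiv

noncomputable section

def lk (t i : ℕ) : ℕ :=
  Nat.land (Nat.shiftRight t (Nat.mul (nat_lit 16) i)) (nat_lit 65535)

def lk2 (L : List ℕ) (i : ℕ) : ℕ :=
  lk (nth (nat_lit 0) L (Nat.shiftRight i (nat_lit 12))) (Nat.land i (nat_lit 4095))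

def pv0 (P : List ℕ) : ℕ :=
  List.rec (nat_lit 0) (fun p _ ih => Nat.add (Nat.land p (nat_lit 1)) (Nat.mul (nat_lit 2) ih)) P

def pk (K : ℕ) : List ℕ → ℕ :=
  Nat.rec pv0 (fun k ih P =>
    Nat.lor (ih (lmap (fun p => Nat.land p (ones (Nat.shiftLeft 1 k))) P))
      (Nat.shiftLeft (ih (lmap (fun p => Nat.shiftRight p (Nat.shiftLeft 1 k)) P))
        (Nat.shiftLeft 16 k))) K

def tchk (T : Tab) (K z c t : ℕ) : Bool :=
  Nat.beq t (pk 12 (lmap (fun p => Nat.land (Nat.shiftRight p (Nat.mul 4096 c)) (ones 4096))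
    (lmap (T.sn z).push (idpls K K 0))))

end

theorem pv0_eq (P : List ℕ) : pv0 P = pv P 0 := by
  induction P with
  | nil => rfl
  | cons p P ih =>
    show Nat.land p 1 + 2 * pv0 P = _
    rw [ih, pv]
    congr 1
    show p &&& 1 = _
    rw [Nat.and_one_is_mod, Nat.testBit_zero]
    rcases Nat.mod_two_eq_zero_or_one p with h | h <;> simp [h]

theorem pv_lt (P : List ℕ) (i : ℕ) : pv P i < 2 ^ P.length := by
  induction P with
  | nil => simp [pv]
  | cons p P ih =>
    rw [pv, List.length_cons, pow_succ]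
    have : (p.testBit i).toNat ≤ 1 := Bool.toNat_le _
    omega

theorem len_lmap (g : ℕ → ℕ) (P : List ℕ) : (lmap g P).length = P.length := by
  rw [lmap_eq, List.length_map]

theorem pk_spec (K : ℕ) (P : List ℕ) (hP : P.length ≤ 16) :
    (∀ m, 16 * 2 ^ K ≤ m → (pk K P).testBit m = false) ∧
      ∀ i < 2 ^ K, ∀ b < 16, (pk K P).testBit (16 * i + b) = (pv P i).testBit b := by
  induction K generalizing P with
  | zero =>
    have e : pk 0 P = pv P 0 := pv0_eq P
    rw [e]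
    refine ⟨fun m hm => Nat.testBit_lt_two_pow ?_, fun i hi b _ => ?_⟩
    · exact (pv_lt P 0).trans_le (Nat.pow_le_pow_right (by norm_num) (by omega))
    · obtain rfl : i = 0 := by omega
      simp
  | succ k ih =>
    have e : pk (k + 1) P = Nat.lor (pk k (lmap (fun p => Nat.land p (ones (Nat.shiftLeft 1 k))) P))
      (Nat.shiftLeft (pk k (lmap (fun p => Nat.shiftRight p (Nat.shiftLeft 1 k)) P))
        (Nat.shiftLeft 16 k)) := rfl
    have e2 : Nat.shiftLeft 16 k = 16 * 2 ^ k := Nat.shiftLeft_eq 16 k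
    obtain ⟨a1, a2⟩ := ih (lmap (fun p => Nat.land p (ones (Nat.shiftLeft 1 k))) P)
      (by rwa [len_lmap])
    obtain ⟨b1, b2⟩ := ih (lmap (fun p => Nat.shiftRight p (Nat.shiftLeft 1 k)) P)
      (by rwa [len_lmap])
    rw [e, e2]
    refine ⟨fun m hm => ?_, fun i hi b hb => ?_⟩
    · rw [tb_lor, tb_shl, a1 m (by rw [pow_succ] at hm; omega),
        b1 _ (by rw [pow_succ] at hm; omega)]
      simp
    · rw [tb_lor, tb_shl]
      by_cases h : i < 2 ^ k
      · rw [a2 i h b hb, decide_eq_false (by omega), Bool.false_and, Bool.or_false,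
          pv_map _ id P i]
        · rfl
        · intro x
          rw [tb_land, tb_ones, shl_one]
          simp [h]
      · rw [a1 _ (by omega), decide_eq_true (by omega), Bool.true_and, Bool.false_or]
        have : 16 * i + b - 16 * 2 ^ k = 16 * (i - 2 ^ k) + b := by omega
        rw [this, b2 _ (by rw [pow_succ] at hi; omega) b hb,
          pv_map _ (fun j => 2 ^ k + j) P]
        · congr 2
          show 2 ^ k + (i - 2 ^ k) = i
          omega
        · intro x
          rw [tb_shr, shl_one]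

theorem lk_pk {K : ℕ} {P : List ℕ} (hP : P.length ≤ 16) {i : ℕ} (hi : i < 2 ^ K) :
    lk (pk K P) i = pv P i := by
  apply Nat.eq_of_testBit_eq
  intro b
  have e : lk (pk K P) i = Nat.land (Nat.shiftRight (pk K P) (16 * i)) (2 ^ 16 - 1) := rfl
  rw [e, tb_land, tb_shr, Nat.testBit_two_pow_sub_one]
  by_cases hb : b < 16
  · rw [(pk_spec K P hP).2 i hi b hb]
    simp [hb]
  · rw [decide_eq_false hb, Bool.and_false]
    exact (Nat.testBit_lt_two_pow ((pv_lt P i).trans_le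
      (Nat.pow_le_pow_right (by norm_num) (by omega)))).symm

theorem len_idpls (K n k : ℕ) : (idpls K n k).length = n := by
  induction n generalizing k with
  | zero => rfl
  | succ n ih => rw [idpls_succ, List.length_cons, ih]

theorem tchk_sound {T : Tab} {K : ℕ} (h : T.Ok K) (hK : K ≤ 16) {z c t : ℕ}
    (hz : T.τ z * T.τ z = 1) (hc : tchk T K z c t = true) {i : ℕ} (hi : i < 4096)
    (hi2 : 4096 * c + i < 2 ^ K) : lk t i = T.τ z (4096 * c + i) := by
  have e := Nat.eq_of_beq_eq_true hc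
  rw [e, lk_pk (by rw [len_lmap, len_lmap, len_idpls]; exact hK) (by simpa using hi),
    pv_map _ (fun j => 4096 * c + j)]
  · have h1 : T.τ z (T.τ z (4096 * c + i)) = 4096 * c + i := by
      rw [← Perm.mul_apply, hz]; rfl
    have h2 := h.pv_push z (idpls K K 0) (T.τ z (4096 * c + i))
    rw [h1] at h2
    rw [h2, pv_idpls (FixFrom.lt (h.fix z) hi2) K 0 (by omega)]
    simp
  · intro x
    rw [tb_land, tb_ones, tb_shr]
    simp [hi]

theorem lk2_sound {L : List ℕ} {σ : ℕ → ℕ} {N : ℕ}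
    (h : ∀ c i, i < 4096 → 4096 * c + i < N → lk (nth 0 L c) i = σ (4096 * c + i)) {i : ℕ}
    (hi : i < N) : lk2 L i = σ i := by
  have e : lk2 L i = lk (nth 0 L (i >>> 12)) (i &&& (2 ^ 12 - 1)) := rfl
  rw [e, Nat.and_two_pow_sub_one_eq_mod, Nat.shiftRight_eq_div_pow]
  have e2 : 4096 * (i / 2 ^ 12) + i % 2 ^ 12 = i := Nat.div_add_mod i 4096
  have e3 : i % 2 ^ 12 < 4096 := Nat.mod_lt _ (by norm_num)
  rw [h _ _ e3 (by rwa [e2]), e2]

/-! ### words -/

section
variable {F : Type*} [Group F]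

/-- value of a word -/
def wd (f : ℕ → F) (w : List ℕ) : F := (w.map f).prod

@[simp] theorem wd_nil (f : ℕ → F) : wd f [] = 1 := rfl
@[simp] theorem wd_cons (f : ℕ → F) (j : ℕ) (w : List ℕ) : wd f (j :: w) = f j * wd f w := by
  simp [wd]
theorem wd_append (f : ℕ → F) (u w : List ℕ) : wd f (u ++ w) = wd f u * wd f w := by
  simp [wd]
theorem wd_lapp (f : ℕ → F) (u w : List ℕ) : wd f (lapp u w) = wd f u * wd f w := by
  rw [lapp_eq, wd_append]

theorem wd_map {G : Type*} [Group G] (ψ : F →* G) (f : ℕ → F) (w : List ℕ) :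
    ψ (wd f w) = wd (fun j => ψ (f j)) w := by
  induction w with
  | nil => simp
  | cons j w ih => simp [ih]

theorem wd_congr {f g : ℕ → F} {w : List ℕ} (h : ∀ j ∈ w, f j = g j) : wd f w = wd g w := by
  induction w with
  | nil => rfl
  | cons j w ih =>
    rw [wd_cons, wd_cons, h j List.mem_cons_self, ih fun k hk => h k (List.mem_cons_of_mem _ hk)]

theorem wd_mem {f : ℕ → F} {K : Subgroup F} {w : List ℕ} (h : ∀ j ∈ w, f j ∈ K) : wd f w ∈ K := by
  induction w with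
  | nil => exact K.one_mem
  | cons j w ih =>
    rw [wd_cons]
    exact K.mul_mem (h j List.mem_cons_self) (ih fun k hk => h k (List.mem_cons_of_mem _ hk))

/-- reverse onto an accumulator -/
noncomputable def rva (u : List ℕ) : List ℕ → List ℕ :=
  List.rec (fun acc => acc) (fun a _ ih acc => ih (a :: acc)) u

theorem wd_rva {f : ℕ → F} (hf : ∀ j, f j * f j = 1) (u acc : List ℕ) :
    wd f (rva u acc) = (wd f u)⁻¹ * wd f acc := by
  induction u generalizing acc with
  | nil => simp [rva]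
  | cons a u ih =>
    show wd f (rva u (a :: acc)) = _
    rw [ih, wd_cons, wd_cons, mul_inv_rev, mul_assoc, inv_eq_of_mul_eq_one_right (hf a)]

/-- the word `u b u⁻¹` -/
noncomputable def cw (u b : List ℕ) : List ℕ := lapp u (lapp b (rva u []))

theorem wd_cw {f : ℕ → F} (hf : ∀ j, f j * f j = 1) (u b : List ℕ) :
    wd f (cw u b) = wd f u * wd f b * (wd f u)⁻¹ := by
  rw [cw, wd_lapp, wd_lapp, wd_rva hf, wd_nil, mul_one, mul_assoc]

theorem ev_atm_eq_wd {n : ℕ} (g : ℕ → F) {l : List ℕ}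
    (hl : l.all (fun y => decide (y % 2 = 0 ∧ y / 2 < n)) = true) :
    ev (atm n g) l = wd g (l.map (· / 2)) := by
  induction l with
  | nil => rfl
  | cons y l ih =>
    rw [List.all_cons, Bool.and_eq_true, decide_eq_true_iff] at hl
    rw [ev_cons, List.map_cons, wd_cons, ih hl.2, atm_def, if_pos hl.1.2, if_pos hl.1.1]

end

/-! ### the engine -/

structure Eng where
  T0 : List ℕ
  TB : List (List ℕ)
  gi : List ℕ
  xw : List ℕ

/-- a named point: index, conjugating word, generator -/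
structure NP where
  k : ℕ
  u : List ℕ
  b : ℕ

noncomputable section
def Eng.s (E : Eng) (j i : ℕ) : ℕ := lk2 (nth E.T0 E.TB j) i
def Eng.ap (E : Eng) (w : List ℕ) (i : ℕ) : ℕ := List.rec i (fun j _ ih => E.s j ih) w
def Eng.gj (E : Eng) (j : ℕ) : ℕ := nth (nth 0 E.gi 0) E.gi j
def Eng.fx (E : Eng) (w : List ℕ) (i : ℕ) : Bool := Nat.beq (E.ap w i) i
def Eng.one (E : Eng) (w : List ℕ) : Bool := lall (E.fx w) E.gi
def NP.w (a : NP) : List ℕ := cw a.u [a.b]
def Eng.ok (E : Eng) (a : NP) : Bool := Nat.beq (E.ap a.u (E.gj a.b)) a.k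
/-- concatenated words of a list of named points -/
def cat (l : List NP) : List ℕ := List.rec [] (fun a _ ih => lapp a.w ih) l
end

section
variable {F : Type*} [Group F]

open Classical in
noncomputable def pt (φ : F →* Perm ℕ) (x0 : F) (i : ℕ) : F :=
  if h : ∃ g, φ g 0 = i then h.choose * x0 * h.choose⁻¹ else 1

variable {φ : F →* Perm ℕ} {x0 : F} {N : ℕ}

theorem pt_eq (h : CosetAct (Subgroup.centralizer {x0}) φ N) (g : F) :
    pt φ x0 (φ g 0) = g * x0 * g⁻¹ := by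
  have hh : ∃ g', φ g' 0 = φ g 0 := ⟨g, rfl⟩
  rw [pt, dif_pos hh]
  have h1 := hh.choose_spec
  generalize hh.choose = k at h1
  have h2 : g⁻¹ * k ∈ Subgroup.centralizer {x0} := by
    rw [← h.stab, map_mul, Perm.mul_apply, h1, map_inv]
    simp
  rw [Subgroup.mem_centralizer_singleton_iff] at h2
  calc k * x0 * k⁻¹ = g * (g⁻¹ * k * x0) * k⁻¹ := by group
    _ = g * (x0 * (g⁻¹ * k)) * k⁻¹ := by rw [h2]
    _ = _ := by group

theorem pt_zero (h : CosetAct (Subgroup.centralizer {x0}) φ N) : pt φ x0 0 = x0 := by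
  have := pt_eq h 1
  simpa using this

theorem lt_map (h : CosetAct (Subgroup.centralizer {x0}) φ N) (g : F) {i : ℕ} (hi : i < N) :
    φ g i < N := by
  obtain ⟨k, rfl⟩ := (h.orb i).1 hi
  exact (h.orb _).2 ⟨g * k, by simp⟩

theorem zero_lt (h : CosetAct (Subgroup.centralizer {x0}) φ N) : 0 < N :=
  (h.orb _).2 ⟨1, by simp⟩

theorem conj_pt (h : CosetAct (Subgroup.centralizer {x0}) φ N) (g : F) {i : ℕ} (hi : i < N) :
    g * pt φ x0 i * g⁻¹ = pt φ x0 (φ g i) := by
  obtain ⟨k, rfl⟩ := (h.orb i).1 hi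
  have : φ g (φ k 0) = φ (g * k) 0 := by simp
  rw [this, pt_eq h, pt_eq h]
  group

theorem pt_inj (h : CosetAct (Subgroup.centralizer {x0}) φ N) {i j : ℕ} (hi : i < N) (hj : j < N)
    (e : pt φ x0 i = pt φ x0 j) : i = j := by
  obtain ⟨k, rfl⟩ := (h.orb i).1 hi
  obtain ⟨l, rfl⟩ := (h.orb j).1 hj
  rw [pt_eq h, pt_eq h] at e
  have h2 : l⁻¹ * k ∈ Subgroup.centralizer {x0} := by
    rw [Subgroup.mem_centralizer_singleton_iff]
    calc l⁻¹ * k * x0 = l⁻¹ * (k * x0 * k⁻¹) * k := by group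
      _ = _ := by rw [e]; group
  rw [← h.stab, map_mul, Perm.mul_apply, map_inv] at h2
  have := congrArg (φ l) h2
  simpa using this

theorem mem_conj_iff (h : CosetAct (Subgroup.centralizer {x0}) φ N) {y : F} :
    y ∈ conjugatesOf x0 ↔ ∃ i < N, y = pt φ x0 i := by
  show IsConj x0 y ↔ _
  rw [isConj_iff]
  constructor
  · rintro ⟨g, rfl⟩
    exact ⟨φ g 0, (h.orb _).2 ⟨g, rfl⟩, (pt_eq h g).symm⟩
  · rintro ⟨i, hi, rfl⟩
    obtain ⟨k, rfl⟩ := (h.orb i).1 hi
    exact ⟨k, (pt_eq h k).symm⟩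

theorem comm_pt_iff (h : CosetAct (Subgroup.centralizer {x0}) φ N) {g : F} {i : ℕ} (hi : i < N) :
    g * pt φ x0 i = pt φ x0 i * g ↔ φ g i = i := by
  rw [← mul_inv_eq_iff_eq_mul, conj_pt h g hi]
  exact ⟨pt_inj h (lt_map h g hi) hi, fun e => by rw [e]⟩

structure Eng.Ok0 (E : Eng) (φ : F →* Perm ℕ) (f : ℕ → F) (x0 : F) (N : ℕ) : Prop where
  act : CosetAct (Subgroup.centralizer {x0}) φ N
  s_eq : ∀ j i, i < N → E.s j i = φ (f j) i
  sq : ∀ j, f j * f j = 1
  xw : wd f E.xw = x0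

structure Eng.Ok (E : Eng) (φ : F →* Perm ℕ) (f : ℕ → F) (x0 : F) (N : ℕ) : Prop
    extends E.Ok0 φ f x0 N where
  gj : ∀ j, E.gj j < N ∧ pt φ x0 (E.gj j) = f j
  cen : ∀ g, (∀ j < E.gi.length, g * f j = f j * g) → g = 1

variable {E : Eng} {f : ℕ → F}

theorem Eng.Ok0.ap_eq (h : E.Ok0 φ f x0 N) (w : List ℕ) {i : ℕ} (hi : i < N) :
    E.ap w i = φ (wd f w) i := by
  induction w with
  | nil => simp [Eng.ap]
  | cons j w ih =>
    show E.s j (E.ap w i) = _
    rw [ih, h.s_eq _ _ (lt_map h.act _ hi), wd_cons, map_mul, Perm.mul_apply]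

theorem Eng.Ok0.ap_lt (h : E.Ok0 φ f x0 N) (w : List ℕ) {i : ℕ} (hi : i < N) : E.ap w i < N := by
  rw [h.ap_eq w hi]; exact lt_map h.act _ hi

theorem Eng.Ok0.conj (h : E.Ok0 φ f x0 N) (w : List ℕ) {i : ℕ} (hi : i < N) :
    wd f w * pt φ x0 i * (wd f w)⁻¹ = pt φ x0 (E.ap w i) := by
  rw [h.ap_eq w hi, conj_pt h.act _ hi]

theorem Eng.Ok0.braid (h : E.Ok0 φ f x0 N) {s t k : ℕ} (hk : k < N) (e : pt φ x0 k = f s)
    (hb : f s * f t * f s = f t * f s * f t) : pt φ x0 (E.ap [s, t] k) = f t := by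
  rw [← h.conj _ hk, e, wd_cons, wd_cons, wd_nil, mul_one, mul_inv_rev,
    inv_eq_of_mul_eq_one_right (h.sq s), inv_eq_of_mul_eq_one_right (h.sq t), hb]
  calc f t * f s * f t * (f t * f s) = f t * f s * (f t * f t) * f s := by group
    _ = f t * (f s * f s) := by rw [h.sq t]; group
    _ = f t := by rw [h.sq s, mul_one]

theorem Eng.Ok0.fx_iff (h : E.Ok0 φ f x0 N) {w : List ℕ} {i : ℕ} (hi : i < N) :
    E.fx w i = true ↔ wd f w * pt φ x0 i = pt φ x0 i * wd f w := by
  rw [comm_pt_iff h.act hi, ← h.ap_eq w hi, Eng.fx]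
  exact ⟨Nat.eq_of_beq_eq_true, fun e => by rw [e]; exact Nat.beq_refl i⟩

theorem Eng.Ok.one (h : E.Ok φ f x0 N) {w : List ℕ} (hw : E.one w = true) : wd f w = 1 := by
  refine h.cen _ fun j hj => ?_
  have h1 := (lall_iff _ _).1 hw (E.gj j) (by
    rw [Eng.gj, nth_eq, List.getD_eq_getElem _ _ hj]; exact List.getElem_mem hj)
  rw [h.fx_iff (h.gj j).1, (h.gj j).2] at h1
  exact h1

theorem Eng.Ok.ok (h : E.Ok φ f x0 N) {a : NP} (ha : E.ok a = true) :
    a.k < N ∧ pt φ x0 a.k = wd f a.w := by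
  have e := Nat.eq_of_beq_eq_true ha
  refine ⟨e ▸ h.ap_lt _ (h.gj _).1, ?_⟩
  rw [← e, ← h.conj _ (h.gj _).1, (h.gj _).2, NP.w, wd_cw h.sq]
  simp

theorem Eng.Ok.cat (h : E.Ok φ f x0 N) {l : List NP} (hl : lall E.ok l = true) :
    wd f (cat l) = (l.map fun a => pt φ x0 a.k).prod := by
  induction l with
  | nil => rfl
  | cons a l ih =>
    rw [lall_cons, band_eq, Bool.and_eq_true] at hl
    show wd f (lapp a.w (Fx.cat l)) = _
    rw [wd_lapp, ih hl.2, List.map_cons, List.prod_cons, (h.ok hl.1).2]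

theorem Eng.Ok0.pt_sq (h : E.Ok0 φ f x0 N) (hx : x0 * x0 = 1) {i : ℕ} (hi : i < N) :
    pt φ x0 i * pt φ x0 i = 1 := by
  obtain ⟨k, rfl⟩ := (h.act.orb i).1 hi
  rw [pt_eq h.act]
  calc k * x0 * k⁻¹ * (k * x0 * k⁻¹) = k * (x0 * x0) * k⁻¹ := by group
    _ = 1 := by rw [hx]; group

end

end Cfsg.Agent.Fx
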